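import Cfsg.Agent.H15.OutG
import Cfsg.Agent.H54.Schreier
import Cfsg.Agent.S4208
import Cfsg.Agent.S0014
import Cfsg.Agent.H51.GoldHub
import Cfsg.Agent.H24.Walter
import Cfsg.Agent.H24.WalRank
import Cfsg.Agent.H24.BenderAb
import Cfsg.Agent.H42.ReeFinal

/-! Criteria for the solvability of `Out G` from the Sylow 2-subgroup (S3066). -/

set_option autoImplicit false
open Cfsg Subgroup H15.OutG

namespace H84.OutCrit

universe u

variable {G : Type u} [Group G] [Finite G]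

theorem card_aut_dvd {P : Type*} [Group P] [Finite P] (hP : IsPGroup 2 P) {r : ℕ}
    (hr : (frattini P).index = 2 ^ r) (h3 : r ≤ 3) :
    ∃ a, Nat.card (MulAut P) ∣ 2 ^ a * (if r ≤ 2 then 3 else 21) := by
  obtain ⟨n, hn⟩ := IsPGroup.iff_card.1 hP
  have h := Cfsg.Agent.S4208.result hn hr
  refine ⟨r * (n - r) + 3, h.trans ?_⟩
  rw [pow_add, mul_assoc]
  refine Nat.mul_dvd_mul_left _ ?_
  interval_cases r <;> simp [Finset.prod_range_succ]

theorem out_of_rank [IsSimpleGroup G] (hG : ¬ IsMulCommutative G) (S : Sylow 2 G) {r : ℕ}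
    (hr : (frattini (S : Subgroup G)).index = 2 ^ r) (h3 : r ≤ 3)
    (h : r ≤ 2 ∨ ∃ g ∈ normalizer ((S : Subgroup G) : Set G), Odd (orderOf g) ∧
      g ∉ centralizer ((S : Subgroup G) : Set G)) : Group.IsSolvable (Out G) := by
  obtain ⟨a, ha⟩ := card_aut_dvd S.isPGroup' hr h3
  let φ := res (le_refl (St (S : Subgroup G)))
  refine out_solvable_of hG S φ ?_ fun α hα _ x hx => by
    have := DFunLike.congr_fun hα (⟨x, hx⟩ : (S : Subgroup G))
    exact congrArg Subtype.val this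
  have hB : Nat.card φ.range ∣ Nat.card (MulAut (S : Subgroup G)) := card_subgroup_dvd_card _
  by_cases h2 : r ≤ 2
  · rw [if_pos h2] at ha
    exact H29.isSolvable_of_card_dvd_pow_mul_pow (a := a) (b := 1) Nat.prime_two Nat.prime_three
      (by simpa using hB.trans ha)
  rw [if_neg h2] at ha
  obtain ⟨g, hg, ho, hc⟩ := h.resolve_left h2
  have := sol_normalizer S
  let ψ : normalizer ((S : Subgroup G) : Set G) →* St (S : Subgroup G) :=
    (MulAut.conj.comp (normalizer ((S : Subgroup G) : Set G)).subtype).codRestrict _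
      fun g => conj_mem_St.2 g.2
  have hn : ψ.range.Normal := ⟨by
    rintro _ ⟨k, rfl⟩ α
    have e : MulAut.conj (α.1 k.1) = α.1 * MulAut.conj k.1 * α.1⁻¹ := by
      ext x; simp
    refine ⟨⟨α.1 k.1, conj_mem_St.1 (e ▸ (α * ψ k * α⁻¹).2)⟩, Subtype.ext e⟩⟩
  let N := ψ.range.map φ.rangeRestrict
  have hN : N.Normal := hn.map _ φ.rangeRestrict_surjective
  have hs : Group.IsSolvable N := by
    refine Group.isSolvable_of_surjective
      (f := (φ.rangeRestrict.comp ψ).codRestrict N fun k => ⟨ψ k, ⟨k, rfl⟩, rfl⟩) ?_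
    rintro ⟨_, _, ⟨k, rfl⟩, rfl⟩
    exact ⟨k, rfl⟩
  let x : N := ⟨φ.rangeRestrict (ψ ⟨g, hg⟩), ψ ⟨g, hg⟩, ⟨_, rfl⟩, rfl⟩
  have hx1 : x ≠ 1 := fun e => hc fun s hs => by
    have h1 : φ (ψ ⟨g, hg⟩) = 1 := congrArg (fun y : N => y.1.1) e
    have h3 := DFunLike.congr_fun h1 (⟨s, hs⟩ : (S : Subgroup G))
    have h2 : g * s * g⁻¹ = s := congrArg Subtype.val h3
    exact (mul_inv_eq_iff_eq_mul.1 h2).symm
  have hxo : Odd (orderOf x) := by
    refine ho.of_dvd_nat ?_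
    rw [← orderOf_coe, ← orderOf_mk g hg]
    exact (orderOf_map_dvd _ _).trans (orderOf_map_dvd _ _)
  obtain ⟨p, hp, hpx⟩ := Nat.exists_prime_and_dvd (mt orderOf_eq_one_iff.1 hx1)
  have hpN : p ∣ Nat.card N := hpx.trans (orderOf_dvd_natCard x)
  have hpi : p * N.index ∣ 2 ^ a * 21 :=
    ((Nat.mul_dvd_mul_right hpN _).trans (N.card_mul_index ▸ dvd_rfl)).trans (hB.trans ha)
  have hp2 : Nat.Coprime p (2 ^ a) :=
    ((Nat.coprime_two_right.2 (hxo.of_dvd_nat hpx))).pow_right a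
  have hp21 : p ∣ 3 * 7 := hp2.dvd_of_dvd_mul_left ((dvd_mul_right _ _).trans hpi)
  have : Group.IsSolvable (φ.range ⧸ N) := by
    rcases (Nat.Prime.dvd_mul hp).1 hp21 with h | h
    · obtain rfl := (Nat.prime_dvd_prime_iff_eq hp Nat.prime_three).1 h
      refine H29.isSolvable_of_card_dvd_pow_mul_pow (a := a) (b := 1) Nat.prime_two
        (by norm_num : Nat.Prime 7) ?_
      refine Nat.dvd_of_mul_dvd_mul_left (k := 3) (by norm_num) (hpi.trans (dvd_of_eq (by ring)))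
    · obtain rfl := (Nat.prime_dvd_prime_iff_eq hp (by norm_num : Nat.Prime 7)).1 h
      refine H29.isSolvable_of_card_dvd_pow_mul_pow (a := a) (b := 1) Nat.prime_two
        Nat.prime_three ?_
      refine Nat.dvd_of_mul_dvd_mul_left (k := 7) (by norm_num) (hpi.trans (dvd_of_eq (by ring)))
  exact Group.isSolvable_of_ker_le_range N.subtype (QuotientGroup.mk' N) (by simp)

/-- Burnside: with an abelian Sylow 2-subgroup some element of odd order acts on it. -/
theorem exists_odd_act [IsSimpleGroup G] (hG : ¬ IsMulCommutative G) (S : Sylow 2 G)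
    (hS1 : (S : Subgroup G) ≠ ⊥) (hS : IsMulCommutative (S : Subgroup G)) :
    ∃ g ∈ normalizer ((S : Subgroup G) : Set G), Odd (orderOf g) ∧
      g ∉ centralizer ((S : Subgroup G) : Set G) := by
  by_contra hne
  push Not at hne
  have hSC : (S : Subgroup G) ≤ centralizer ((S : Subgroup G) : Set G) := fun s hs t ht =>
    congrArg Subtype.val (hS.is_comm.comm (⟨t, ht⟩ : (S : Subgroup G)) ⟨s, hs⟩)
  have hNC : normalizer ((S : Subgroup G) : Set G) ≤ centralizer ((S : Subgroup G) : Set G) := by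
    intro g hg
    obtain ⟨k, m, hm, e⟩ := Nat.exists_eq_two_pow_mul_odd (orderOf_pos g).ne'
    have h1 : g ^ 2 ^ k ∈ centralizer ((S : Subgroup G) : Set G) :=
      hne _ (pow_mem hg _) (hm.of_dvd_nat (by
        rw [orderOf_dvd_iff_pow_eq_one, ← pow_mul, ← e, pow_orderOf_eq_one]))
    have h2 : g ^ m ∈ (S : Subgroup G) := by
      have hp : IsPGroup 2 (zpowers (g ^ m)) := IsPGroup.of_card_dvd_pow (n := k) (by
        rw [Nat.card_zpowers, orderOf_dvd_iff_pow_eq_one, ← pow_mul, mul_comm, ← e,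
          pow_orderOf_eq_one])
      have h3 := S.is_maximal' (S.isPGroup'.to_sup_of_normal_left' hp
        (zpowers_le.2 (pow_mem hg m))) le_sup_left
      exact h3 ▸ mem_sup_right (mem_zpowers _)
    obtain ⟨i, j, hij⟩ : ∃ i j : ℤ, (2 ^ k : ℕ) * i + (m : ℕ) * j = 1 :=
      ⟨_, _, by
        rw [← Nat.gcd_eq_gcd_ab, ((Nat.coprime_two_left.2 hm).pow_left k).gcd_eq_one]; rfl⟩
    have : g = (g ^ 2 ^ k) ^ i * (g ^ m) ^ j := by
      rw [← zpow_natCast, ← zpow_natCast, ← zpow_mul, ← zpow_mul, ← zpow_add, hij, zpow_one]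
    exact this ▸ mul_mem (zpow_mem h1 i) (zpow_mem (hSC h2) j)
  have hc := MonoidHom.ker_transferSylow_isComplement' S hNC
  rcases (MonoidHom.normal_ker (MonoidHom.transferSylow S hNC)).eq_bot_or_eq_top with h | h
  · rw [h, isComplement'_bot_left] at hc
    exact hG ⟨⟨fun a b => (hSC (hc.ge trivial) b (hc.ge trivial)).symm⟩⟩
  · rw [h, isComplement'_top_left] at hc
    exact hS1 hc

omit [Finite G] in
theorem out_of_isL2 {q : ℕ} (h : H10.W.IsL2 G q) (hq : 4 ≤ q) : Group.IsSolvable (Out G) := by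
  obtain ⟨F, _, _, rfl, e⟩ := h
  have : Fact (ringChar F).Prime := ⟨CharP.char_is_prime F _⟩
  exact H54.schreier_lie (p := ringChar F) (.inl ⟨F, _, _, inferInstance, 2, le_rfl, fun _ => hq, e⟩)

omit [Finite G] in
theorem out_of_isL2E (h : H10.W.IsL2E G) : Group.IsSolvable (Out G) := by
  obtain ⟨n, hn, h⟩ := h
  exact out_of_isL2 h (Nat.pow_le_pow_right (n := 2) (by norm_num) hn)

theorem two_part_ree (m : ℕ) :
    ¬ 16 ∣ (3 ^ (2 * m + 1)) ^ 3 * ((3 ^ (2 * m + 1)) ^ 3 + 1) * (3 ^ (2 * m + 1) - 1) := by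
  have h : 3 ^ (2 * m + 1) % 8 = 3 := by
    induction m with
    | zero => rfl
    | succ m ih => rw [show 2 * (m + 1) + 1 = 2 * m + 1 + 2 by ring, pow_add]; omega
  generalize 3 ^ (2 * m + 1) = q at h
  obtain ⟨k, rfl⟩ : ∃ k, q = 8 * k + 3 := ⟨q / 8, by omega⟩
  rw [show 8 * k + 3 - 1 = 8 * k + 2 by omega]
  have : (8 * k + 3) ^ 3 * ((8 * k + 3) ^ 3 + 1) * (8 * k + 2) =
      8 * ((8 * k + 3) ^ 3 * (128 * k ^ 3 + 144 * k ^ 2 + 54 * k + 7) * (4 * k + 1)) := by ring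
  rw [this, show 16 = 8 * 2 by rfl, Nat.mul_dvd_mul_iff_left (by norm_num), ← even_iff_two_dvd,
    Nat.not_even_iff_odd]
  refine (Odd.mul (Odd.pow ⟨4 * k + 1, by ring⟩) ⟨64 * k ^ 3 + 72 * k ^ 2 + 27 * k + 3, by ring⟩).mul
    ⟨2 * k, by ring⟩

theorem out_of_abelian [IsSimpleGroup G] (hG : ¬ IsMulCommutative G) (S : Sylow 2 G)
    (hS1 : (S : Subgroup G) ≠ ⊥) (hS : IsMulCommutative (S : Subgroup G)) :
    Group.IsSolvable (Out G) := by
  have hab : H10.W.Ab2 G := fun P => by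
    have e := (Sylow.equiv P S)
    exact ⟨⟨fun a b => e.injective (by rw [map_mul, map_mul, hS.is_comm.comm])⟩⟩
  rcases H24.walterA G hG hab with h | ⟨q, hq, -, h⟩ | ⟨t, E, L, q, h⟩
  · exact out_of_isL2E h
  · exact out_of_isL2 h hq
  have h16 : ¬ 16 ∣ Nat.card G := by
    rcases (H42.Ree.walterB G t E L q h).2 with ⟨-, -, h⟩ | ⟨m, -, rfl, h⟩
    · rw [h]; decide
    · rw [h]; exact two_part_ree m
  obtain ⟨r, hr⟩ := S.isPGroup'.index (frattini (S : Subgroup G))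
  refine out_of_rank hG S hr ?_ (.inr (exists_odd_act hG S hS1 hS))
  by_contra h4
  exact h16 ((pow_dvd_pow 2 (by omega : 4 ≤ r)).trans
    (hr ▸ (index_dvd_card _).trans (card_subgroup_dvd_card _)))

theorem out_of_se [IsSimpleGroup G] (hG : ¬ IsMulCommutative G) {H : Subgroup G}
    (hH : IsStronglyEmbedded H) : Group.IsSolvable (Out G) := by
  rcases H24.bender_simple H24.benderThm hG hH with h | h | ⟨F, _, _, q, -, h4, hF, e⟩
  · exact out_of_isL2E h
  · refine H54.schreier_lie (p := 2) ?_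
    unfold IsLieTypeChar; simp only [h, true_and, or_true, true_or]
  · have : Fact (ringChar F).Prime := ⟨CharP.char_is_prime F _⟩
    exact H54.schreier_lie (p := ringChar F)
      (.inr (.inr (.inl ⟨F, _, _, inferInstance, 3, q, hF, le_rfl, by omega, e⟩)))

theorem out_of_comm_inv [IsSimpleGroup G] (hG : ¬ IsMulCommutative G) (S : Sylow 2 G)
    (hS1 : (S : Subgroup G) ≠ ⊥)
    (h : ∀ s ∈ S, ∀ t ∈ S, orderOf s = 2 → orderOf t = 2 → s * t = t * s) :
    Group.IsSolvable (Out G) := by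
  have h' : ∀ s ∈ (S : Subgroup G), ∀ t ∈ (S : Subgroup G), s ^ 2 = 1 → t ^ 2 = 1 →
      s * t = t * s := fun s hs t ht h1 h2 => by
    by_cases e1 : s = 1
    · simp [e1]
    by_cases e2 : t = 1
    · simp [e2]
    exact h s hs t ht (orderOf_eq_prime h1 e1) (orderOf_eq_prime h2 e2)
  let A : Subgroup G :=
    { carrier := {s | s ∈ (S : Subgroup G) ∧ s ^ 2 = 1}
      one_mem' := ⟨one_mem _, one_pow _⟩
      mul_mem' := fun {a b} ha hb => ⟨mul_mem ha.1 hb.1, by
        rw [(show Commute a b from h' a ha.1 b hb.1 ha.2 hb.2).mul_pow, ha.2, hb.2, one_mul]⟩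
      inv_mem' := fun {a} ha => ⟨inv_mem ha.1, by rw [inv_pow, ha.2, inv_one]⟩ }
  have hA : A ≠ ⊥ := by
    have : Nontrivial (S : Subgroup G) := (nontrivial_iff_ne_bot _).2 hS1
    obtain ⟨n, hn, hc⟩ := S.isPGroup'.nontrivial_iff_card.1 this
    obtain ⟨x, hx⟩ := exists_prime_orderOf_dvd_card' (G := (S : Subgroup G)) 2
      (hc ▸ dvd_pow_self 2 hn.ne')
    rw [← orderOf_coe] at hx
    intro e
    have h1 : x.1 ∈ A := ⟨x.2, orderOf_dvd_iff_pow_eq_one.1 (dvd_of_eq hx)⟩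
    rw [e, mem_bot] at h1
    simp [h1] at hx
  rcases H51.st1169 S A hA ⟨⟨fun a b => Subtype.ext (h' a a.2.1 b b.2.1 a.2.2 b.2.2)⟩⟩
    ⟨fun s hs => hs.1, fun x hx g hg => ⟨hg, by rw [conj_pow, hx.2, mul_one, mul_inv_cancel]⟩⟩
    with hS | ⟨H, hH⟩
  · exact out_of_abelian hG S hS1 hS
  · exact out_of_se hG hH

theorem s3066 [IsSimpleGroup G]
    (hG : ¬ IsMulCommutative G) (S : Sylow 2 G) (hS1 : (S : Subgroup G) ≠ ⊥)
    (h : (∃ a b : ↥S, Subgroup.closure ({a, b} : Set ↥S) = ⊤) ∨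
      ((∃ a b c : ↥S, Subgroup.closure ({a, b, c} : Set ↥S) = ⊤) ∧
        ∃ g ∈ Subgroup.normalizer ((S : Subgroup G) : Set G), Odd (orderOf g) ∧
          g ∉ Subgroup.centralizer ((S : Subgroup G) : Set G)) ∨
      ((∀ s ∈ S, ∀ t ∈ S, orderOf s = 2 → orderOf t = 2 → s * t = t * s) ∧
        (∀ s ∈ S, ∀ t ∈ S, orderOf s = 2 → orderOf t = 2 → ∃ g : G, g * s * g⁻¹ = t))) :
    Group.IsSolvable (Cfsg.Out G) := by
  classical
  obtain ⟨r, hr⟩ := S.isPGroup'.index (frattini (S : Subgroup G))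
  have hgen := (Cfsg.Agent.S0014.result 2 r S.isPGroup' hr).2
  rcases h with ⟨a, b, h⟩ | ⟨⟨a, b, c, h⟩, hg⟩ | ⟨h, -⟩
  · have h2 : r ≤ 2 := (hgen {a, b} (by simpa using h)).trans Finset.card_le_two
    exact out_of_rank hG S hr (by omega) (.inl h2)
  · exact out_of_rank hG S hr ((hgen {a, b, c} (by simpa using h)).trans Finset.card_le_three)
      (.inr hg)
  · exact out_of_comm_inv hG S hS1 h

end H84.OutCrit
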