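import Cfsg.Agent.H7.HKSSpec
import Cfsg.Agent.H98.Sylow
import Cfsg.Agent.H93.PP
import Cfsg.Agent.H89.Generous
import Cfsg.Agent.H26.NilpComm
import Cfsg.Agent.H20.CN

/-! Tools for chapter NR of `blueprints/HKS2.md`: conjugation of root groups, quotients, fixed
points of `p`-groups, orbit counting. -/

set_option autoImplicit false

namespace H84.HKS

open MulAction Cfsg Subgroup H89.K H7.HKS H98

universe u

section

variable {G : Type u} [Group G]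

/-- a `p`-group normalising a set whose size is prime to `p` centralises one of its elements -/
theorem exists_fix [Finite G] {p : ℕ} (hp : p.Prime) {Q : Subgroup G} (hQ : IsPGroup p Q)
    {S : Set G} (hS : ∀ q ∈ Q, ∀ s ∈ S, q * s * q⁻¹ ∈ S) (hc : ¬ p ∣ S.ncard) :
    ∃ s ∈ S, ∀ q ∈ Q, q * s = s * q := by
  let _ : MulAction Q G := MulAction.compHom G (ConjAct.toConjAct.toMonoidHom.comp Q.subtype)
  obtain ⟨s, hs, e⟩ := H89.exists_fixed_of_not_dvd_ncard hp hQ S S.toFinite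
    (fun q s hs => hS q q.2 s hs) hc
  exact ⟨s, hs, fun q hq => mul_inv_eq_iff_eq_mul.1 (e ⟨q, hq⟩)⟩

/-- a `p`-group normalising a group of order divisible by `p` has non-trivial fixed points -/
theorem exists_fix_ne [Finite G] {p : ℕ} (hp : p.Prime) {Q Z : Subgroup G} (hQ : IsPGroup p Q)
    (hS : ∀ q ∈ Q, ∀ s ∈ Z, q * s * q⁻¹ ∈ Z) (hc : p ∣ Nat.card Z) :
    ∃ s ∈ Z, s ≠ 1 ∧ ∀ q ∈ Q, q * s = s * q := by
  obtain ⟨s, hs, e⟩ := exists_fix hp hQ (S := (Z : Set G) \ {1})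
    (fun q hq s hs => ⟨hS q hq s hs.1, fun e => hs.2 (by simpa using e)⟩) (by
      rw [Set.ncard_sdiff_singleton_of_mem Z.one_mem]
      intro e
      have h1 : 0 < (Z : Set G).ncard := (Set.ncard_pos (Set.toFinite _)).2 ⟨1, Z.one_mem⟩
      have := Nat.dvd_sub (show p ∣ (Z : Set G).ncard from hc) e
      rw [show (Z : Set G).ncard - ((Z : Set G).ncard - 1) = 1 by omega] at this
      exact hp.one_lt.ne' (Nat.dvd_one.1 this))
  exact ⟨s, hs.1, hs.2, e⟩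

variable {Ω : Type u} [MulAction G Ω]

theorem ncard_orb (S : Subgroup G) (b : Ω) :
    {c | ∃ s ∈ S, s • b = c}.ncard = (stabilizer G b).relIndex S := by
  rw [relIndex, show (stabilizer G b).subgroupOf S = stabilizer S b from rfl, index_stabilizer]
  congr 1
  ext c
  exact ⟨fun ⟨s, hs, e⟩ => ⟨⟨s, hs⟩, e⟩, fun ⟨s, e⟩ => ⟨s, s.2, e⟩⟩

theorem Fx_cj (g : G) (X : Subgroup G) :
    Fx Ω (cj g X : Set G) = (g • ·) '' Fx Ω (X : Set G) := by
  ext c
  refine ⟨fun h => ⟨g⁻¹ • c, fun x hx => ?_, smul_inv_smul g c⟩, ?_⟩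
  · rw [← smul_left_cancel_iff g, smul_inv_smul, ← mul_smul, ← mul_smul]
    exact h _ (conj_mem_cj hx)
  · rintro ⟨c, hc, rfl⟩ _ ⟨x, hx, rfl⟩
    exact conj_smul_eq.2 (hc x hx)

theorem smul_mem_Fx {X : Subgroup G} {g : G} (hg : g ∈ normalizer (X : Set G)) {c : Ω}
    (hc : c ∈ Fx Ω (X : Set G)) : g • c ∈ Fx Ω (X : Set G) := by
  rw [← cj_eq_self hg, Fx_cj]
  exact ⟨c, hc, rfl⟩

theorem cj_stab (g : G) (b : Ω) : cj g (stabilizer G b) = stabilizer G (g • b) := by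
  ext x
  rw [mem_cj, mem_stabilizer_iff, mem_stabilizer_iff, mul_smul, mul_smul, inv_smul_eq_iff]

variable {U : Ω → Subgroup G}

theorem cj_fam (h : ∀ (g : G) (a : Ω), ∀ u ∈ U a, g * u * g⁻¹ ∈ U (g • a)) (g : G) (a : Ω) :
    cj g (U a) = U (g • a) := by
  ext x
  rw [mem_cj]
  exact ⟨fun e => by simpa [mul_assoc] using h g a _ e, fun e => by simpa using h g⁻¹ _ x e⟩

theorem cj_Xs (h : Sp U) (g : G) (a b : Ω) : cj g (Xs U a b) = Xs U (g • a) (g • b) := by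
  rw [cj_inf, cj_fam h.conj, cj_stab]

theorem cj_Zc (h : Sp U) (g : G) (a : Ω) : cj g (Zc U a) = Zc U (g • a) := by
  rw [cj_inf, cj_centralizer, cj_fam h.conj]

/-- central elements of a root group fix only one point -/
theorem Zc_reg (h : Sp U) : Reg (Zc U) := fun a b hab z hz e => h.t2.faith z fun c => by
  by_cases hc : c = a
  · exact hc ▸ h.fix a z hz.1
  · obtain ⟨u, hu, rfl⟩ := h.tr hab hc
    exact fix_of_comm (hz.2 u hu) e

theorem card_Ω [Finite G] (h : Sp U) {a b : Ω} (hab : a ≠ b) :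
    Nat.card Ω = (stabilizer G b).relIndex (U a) + 1 := by
  have := h.t2.finite
  have e : {c | ∃ s ∈ U a, s • b = c} = {a}ᶜ := by
    ext c
    refine ⟨?_, fun hc => h.tr hab.symm hc⟩
    rintro ⟨s, hs, rfl⟩ e
    exact hab (smul_left_cancel s ((h.fix a s hs).trans (Set.mem_singleton_iff.1 e).symm))
  rw [← ncard_orb, e, ← Set.ncard_singleton a, add_comm, Set.ncard_add_ncard_compl]

/-- the elements of `U c` moving `d` to `e` -/
theorem ncard_move [Finite G] (h : Sp U) {c d e : Ω} (hd : d ≠ c) (he : e ≠ c) :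
    {u | u ∈ U c ∧ u • d = e}.ncard = Nat.card (Xs U c d) := by
  obtain ⟨u, hu, rfl⟩ := h.tr hd he
  rw [← Set.ncard_image_of_injective _ (mul_right_injective u⁻¹), ← Nat.card_coe_set_eq]
  congr 2
  ext g
  constructor
  · rintro ⟨g, hg, rfl⟩
    exact ⟨(U c).mul_mem ((U c).inv_mem hu) hg.1,
      show (u⁻¹ * g) • d = d by rw [mul_smul, hg.2, inv_smul_smul]⟩
  · intro hg
    exact ⟨u * g, ⟨mul_mem hu hg.1, by rw [mul_smul, show g • d = d from hg.2]⟩, by simp⟩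

/-- `C_{U c}(V)` is transitive on the other fixed points of the `2`-group `V` -/
theorem trans_two [Finite G] (h : Sp U) (ho : ∀ a, Odd (Nat.card (U a))) {V : Set G}
    (hV : IsPGroup 2 (closure V)) {c d e : Ω} (hc : c ∈ Fx Ω V) (hd : d ∈ Fx Ω V)
    (he : e ∈ Fx Ω V) (h1 : d ≠ c) (h2 : e ≠ c) : ∃ u ∈ U c, u ∈ centralizer V ∧ u • d = e := by
  have fx : ∀ {x : Ω}, x ∈ Fx Ω V → ∀ q ∈ closure V, q • x = x := fun hx q hq =>
    (closure_le (stabilizer G _)).2 hx hq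
  obtain ⟨s, hs, e1⟩ := exists_fix Nat.prime_two hV (S := {u | u ∈ U c ∧ u • d = e})
    (fun q hq s hs => ⟨fx hc q hq ▸ h.conj q c s hs.1, by
      rw [← fx hd q hq, ← fx he q hq]; exact conj_smul_eq.2 hs.2⟩)
    (by
      rw [ncard_move h h1 h2, ← even_iff_two_dvd, Nat.not_even_iff_odd]
      exact (ho c).of_dvd_nat (card_dvd_of_le inf_le_left))
  exact ⟨s, hs.1, fun v hv => e1 v (subset_closure hv), hs.2⟩

end

section

variable {G Ω : Type u} [Group G] [Finite G] [MulAction G Ω] {U : Ω → Subgroup G}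
  {N : Subgroup G} {F : Set Ω}

omit [Finite G] [MulAction G Ω] in
theorem mem_Quo {Y : Type*} [Group Y] {π : N →* Y} {c : F} {y : Y} :
    y ∈ Quo U F π c ↔ ∃ g : N, (g : G) ∈ U c ∧ π g = y := Iff.rfl

/-- the family induced on an invariant set -/
theorem sp_quo (h : Sp U) (h3 : 3 ≤ F.ncard)
    (ht : ∀ c ∈ F, ∀ d ∈ F, ∀ e ∈ F, d ≠ c → e ≠ c → ∃ u ∈ U c, u ∈ N ∧ u • d = e)
    {Y : Type*} [Group Y] [MulAction Y F] {π : N →* Y} (r : IsRes N F Y π) : Sp (Quo U F π) := by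
  have := h.t2.finite
  obtain ⟨a, b, c, ha, hb, hc, hab, hac, hbc⟩ := (Set.two_lt_ncard_iff (s := F)).1 h3
  have iv : ∀ g ∈ N, ∀ x ∈ F, g • x ∈ F := fun g hg x hx =>
    r.smul ⟨g, hg⟩ ⟨x, hx⟩ ▸ (π ⟨g, hg⟩ • (⟨x, hx⟩ : F)).2
  refine ⟨r.t2 (a := a) (b := b) (fun x hx y hy hxy => ?_) h3, ?_, ?_, fun x => ?_, ?_⟩
  · obtain ⟨g, hg, e⟩ : ∃ g ∈ N, g • a = x := by
      by_cases h1 : x = a
      · exact ⟨1, one_mem _, by rw [one_smul, h1]⟩
      by_cases h2 : x = b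
      · obtain ⟨u, -, hu, e⟩ := ht c hc a ha x hx hac (h2 ▸ hbc)
        exact ⟨u, hu, e⟩
      · obtain ⟨u, -, hu, e⟩ := ht b hb a ha x hx hab h2
        exact ⟨u, hu, e⟩
    obtain ⟨u, h1, hu, e1⟩ := ht x hx _ (iv g hg b hb) y hy
      (fun e2 => hab (smul_left_cancel g (e.trans e2.symm))) hxy.symm
    exact ⟨u * g, mul_mem hu hg, by rw [mul_smul, e, h.fix x u h1], by rw [mul_smul, e1]⟩
  · rintro x _ ⟨g, hg, rfl⟩
    exact r.smul_eq_iff.2 (h.fix _ _ hg)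
  · rintro y x _ ⟨g, hg, rfl⟩
    obtain ⟨k, rfl⟩ := r.surj y
    exact ⟨k * g * k⁻¹, show _ ∈ U _ from r.smul k x ▸ h.conj k x g hg, by simp⟩
  · have := h.nil x
    have : Group.IsNilpotent ((U x).subgroupOf N) := Group.nilpotent_of_mulEquiv
      (MonoidHom.ofInjective (G := (U x).subgroupOf N) (N := U x)
        (f := { toFun := fun g => ⟨g.1.1, g.2⟩, map_one' := rfl, map_mul' := fun _ _ => rfl })
        fun _ _ e => Subtype.ext (Subtype.ext (congrArg (Subtype.val : U x → G) e))).symm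
    exact Group.nilpotent_of_surjective _ (π.subgroupMap_surjective _)
  · intro x y z h1 h2
    obtain ⟨u, h3, hu, e⟩ := ht x x.2 y y.2 z z.2 (fun e => h1 (Subtype.ext e))
      fun e => h2 (Subtype.ext e)
    exact ⟨_, ⟨⟨u, hu⟩, h3, rfl⟩, r.smul_eq_iff.2 e⟩

omit [Finite G] [MulAction G Ω] in
theorem card_quo_dvd {Y : Type*} [Group Y] (π : N →* Y) (c : F) :
    Nat.card (Quo U F π c) ∣ Nat.card (U c) :=
  (card_dvd_of_surjective _ (π.subgroupMap_surjective _)).trans (by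
    rw [← card_map_of_injective N.subtype_injective, subgroupOf_map_subtype]
    exact card_dvd_of_le inf_le_left)

/-- the induction hypothesis of chapter NR -/
def IH (G : Type u) : Prop :=
  ∀ (Y Ξ : Type u) [Group Y] [Finite Y] [MulAction Y Ξ] (V : Ξ → Subgroup Y),
    Nat.card Y < Nat.card G → Sp V → (∀ c, Odd (Nat.card (V c))) → Reg V

theorem hasQuo (h : Sp U) (ho : ∀ a, Odd (Nat.card (U a))) (ih : IH G)
    (iv : ∀ g ∈ N, ∀ x ∈ F, g • x ∈ F) (h3 : 3 ≤ F.ncard)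
    (ht : ∀ c ∈ F, ∀ d ∈ F, ∀ e ∈ F, d ≠ c → e ≠ c → ∃ u ∈ U c, u ∈ N ∧ u • d = e)
    {g : G} (hg : g ∈ N) (h1 : g ≠ 1) (hF : ∀ x ∈ F, g • x = x) : HasQuo U N F := by
  obtain ⟨Y, _, _, _, π, r⟩ := exists_res N F iv
  have o : ∀ c, Odd (Nat.card (Quo U F π c)) := fun c => (ho c).of_dvd_nat (card_quo_dvd π c)
  exact ⟨Y, _, ‹_›, _, π, r, sp_quo h h3 ht r,
    ih Y F _ (r.card_lt hg h1 hF) (sp_quo h h3 ht r) o, o⟩

omit [Finite G] in
theorem HasQuo.fix (h : HasQuo U N F) {c d : Ω} (hc : c ∈ F) (hd : d ∈ F) (hcd : d ≠ c) {u : G}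
    (h1 : u ∈ U c) (h2 : u ∈ N) (e : u • d = d) : ∀ x ∈ F, u • x = x := by
  obtain ⟨Y, _, _, _, π, r, q⟩ := h
  exact r.eq_one_iff.1 (q.reg (a := ⟨c, hc⟩) (b := ⟨d, hd⟩) (fun e => hcd (congrArg Subtype.val e))
    _ ⟨⟨u, h2⟩, h1, rfl⟩ (r.smul_eq_iff.2 e))

/-- local quotients for `2`-groups -/
theorem loc_quo (h : Sp U) (ho : ∀ a, Odd (Nat.card (U a))) (ih : IH G) (V : Set G)
    (hV : IsPGroup 2 (closure V)) (h1 : ∃ v ∈ V, v ≠ 1) (h3 : 3 ≤ (Fx Ω V).ncard) :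
    HasQuo U (centralizer V) (Fx Ω V) := by
  obtain ⟨v, hv, h1⟩ := h1
  have : Nontrivial (closure V) := ⟨⟨⟨v, subset_closure hv⟩, 1, fun e => h1 (congrArg Subtype.val e)⟩⟩
  have := hV.center_nontrivial
  obtain ⟨z, hz⟩ := exists_ne (1 : center (closure V))
  refine hasQuo h ho ih (fun g hg x hx w hw => fix_of_comm (hg w hw).symm (hx w hw)) h3
    (fun c hc d hd e he => trans_two h ho hV hc hd he) (g := z.1.1) (fun w hw => ?_)
    (fun e => hz (Subtype.ext (Subtype.ext e))) fun x hx => (closure_le (stabilizer G x)).2 hx z.1.2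
  exact congrArg Subtype.val (mem_center_iff.1 z.2 ⟨w, subset_closure hw⟩)

end

end H84.HKS
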