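import Cfsg.Agent.H84.PrLA0
import Cfsg.Agent.H2.PrKit

/-! PRIME-LA, part 2: transport to the endomorphisms of a single Jordan block. -/

set_option autoImplicit false

namespace H84.LA

open Module Finset

variable {k V : Type*} [Field k] [AddCommGroup V] [Module k V] {d : ℕ}

theorem wrap {p e T : ℕ} [Fact p.Prime] [CharP k p] (he : 2 ≤ e) (hT : 2 ≤ T) (hd : d = e * T + 1)
    (hp : d + e = p) {h ω γ : k} (hh : IsPrimitiveRoot h e) (b : Basis (Fin d) k V) {A X Xi : End k V}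
    {v : V} (hb : ∀ j : Fin d, b j = (A ^ (j : ℕ)) v) (hA : A ^ d = 0) (hX : X * A = h • (A * X))
    (hv : X v = ω • v) (hi : Xi * X = 1) {W : Submodule k (End k V)}
    (hW : ∀ φ ∈ W, X * φ * Xi = γ • φ) :
    ((∀ φ ∈ W, LinearMap.trace k V φ = 0) → finrank k W ≤ T * (d + 1)) ∧
      (W ≤ LinearMap.range ((LinearMap.mulLeft k A - LinearMap.mulRight k A) ^ e) →
        finrank k W + (d - e / 2) ≤ T * (d + 1)) ∧
      (W ≤ LinearMap.range ((LinearMap.mulLeft k A - LinearMap.mulRight k A) ^ d) →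
        finrank k W ≤ d - e) := by
  let f := LinearMap.toMatrixAlgEquiv b
  have f1 : f A = J k d := Matrix.ext fun i j => by
    rw [LinearMap.toMatrixAlgEquiv_apply, hb j, ← End.mul_apply, ← pow_succ', J, Matrix.of_apply]
    by_cases c : (j : ℕ) + 1 < d
    · rw [← hb ⟨j + 1, c⟩, b.repr_self_apply]
      exact if_congr ⟨fun r => by rw [← r], fun r => Fin.ext r.symm⟩ rfl rfl
    · rw [show (j : ℕ) + 1 = d by omega, hA, if_neg i.2.ne]
      simp
  have f2 : ∀ n : ℕ, X ((A ^ n) v) = (ω * h ^ n) • (A ^ n) v := fun n => by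
    induction n with
    | zero => simpa using hv
    | succ n ih =>
      rw [pow_succ' A, End.mul_apply, ← End.mul_apply X, hX, LinearMap.smul_apply, End.mul_apply, ih,
        map_smul, smul_smul, pow_succ', mul_left_comm]
  have f3 : f X = Matrix.diagonal fun j : Fin d => ω * h ^ (j : ℕ) := Matrix.ext fun i j => by
    rw [LinearMap.toMatrixAlgEquiv_apply, hb j, f2, ← hb j, map_smul, Finsupp.smul_apply,
      b.repr_self_apply, Matrix.diagonal_apply, smul_eq_mul, mul_ite, mul_one, mul_zero]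
    by_cases c : i = j
    · simp [c]
    · rw [if_neg c, if_neg (Ne.symm c)]
  have hω : ω ≠ 0 := fun r => b.ne_zero ⟨0, by omega⟩ (by
    have := congrArg Xi hv
    rw [← End.mul_apply, hi, r, zero_smul, map_zero, End.one_apply] at this
    rw [hb, this, map_zero])
  have f4 : ∀ φ ∈ W.map f.toLinearEquiv.toLinearMap, ∀ i j, φ i j ≠ 0 →
      h ^ (i : ℕ) = γ * h ^ (j : ℕ) := by
    rintro _ ⟨φ, hφ, rfl⟩ i j r
    have e1 : f X * f φ = γ • (f φ * f X) := by
      rw [← map_mul, ← map_mul, ← map_smul, ← smul_mul_assoc, ← hW φ hφ, mul_assoc, hi, mul_one]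
    have e2 := congrFun (congrFun e1 i) j
    rw [f3, Matrix.diagonal_mul, Matrix.smul_apply, Matrix.mul_diagonal, smul_eq_mul] at e2
    exact mul_left_cancel₀ hω (mul_right_cancel₀ r (e2.trans (by
      show _ = _ * f φ i j
      ring)))
  obtain ⟨r, hr, f5⟩ : ∃ r < e, ∀ φ ∈ W.map f.toLinearEquiv.toLinearMap, ∀ i j, φ i j ≠ 0 →
      (i : ℕ) ≡ r + j [MOD e] := by
    by_cases c : ∃ φ ∈ W.map f.toLinearEquiv.toLinearMap, ∃ i j, φ i j ≠ 0
    · obtain ⟨φ, hφ, i, j, c⟩ := c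
      have : NeZero e := ⟨by omega⟩
      have e1 := congrArg (· ^ e) (f4 φ hφ i j c)
      simp only [mul_pow, ← pow_mul, mul_comm _ e] at e1
      simp only [pow_mul, hh.pow_eq_one, one_pow, mul_one] at e1
      obtain ⟨r, hr, rfl⟩ := hh.eq_pow_of_pow_eq_one e1.symm
      refine ⟨r, hr, fun ψ hψ i j c => ?_⟩
      have e2 := f4 ψ hψ i j c
      rwa [← pow_add, (hh.isOfFinOrder (by omega)).pow_eq_pow_iff_modEq, ← hh.eq_orderOf] at e2
    · exact ⟨0, by omega, fun φ hφ i j r => (c ⟨φ, hφ, i, j, r⟩).elim⟩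
  have f6 : ∀ s : ℕ, W ≤ LinearMap.range ((LinearMap.mulLeft k A - LinearMap.mulRight k A) ^ s) →
      W.map f.toLinearEquiv.toLinearMap ≤ LinearMap.range (Z k d ^ s) := fun s hs => by
    rintro _ ⟨φ, hφ, rfl⟩
    obtain ⟨ψ, rfl⟩ := hs hφ
    refine ⟨f ψ, ?_⟩
    clear hφ hs
    induction s with
    | zero => rfl
    | succ s ih =>
      rw [pow_succ', pow_succ', End.mul_apply, End.mul_apply, ih, Z_apply, ← f1]
      show f A * f _ - f _ * f A = f (A * _ - _ * A)
      rw [map_sub, map_mul, map_mul]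
  obtain ⟨c1, c2, c3⟩ := core hr he hT hd hp f5
  rw [f.toLinearEquiv.finrank_map_eq] at c1 c2 c3
  refine ⟨fun r => c1 ?_, fun r => c2 (f6 e r), fun r => c3 (f6 d r)⟩
  rintro _ ⟨φ, hφ, rfl⟩
  exact (LinearMap.trace_eq_matrix_trace k b φ).symm.trans (r φ hφ)

universe u

theorem jobLA : H2.PR.JobLA.{u} := by
  intro k _ _ p _ _ G _ _ P e h t d x y L hp hd ht V _ _ _ ρ hs hV h1 γ
  obtain ⟨v, ω, b, -, hv, hb, hA⟩ := L.basis hs h1 hV
  obtain ⟨T, rfl⟩ : ∃ T, t = T + 1 := ⟨t - 1, by omega⟩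
  have key := fun U : Submodule k (End k V) => wrap (γ := γ) (W := End.eigenspace (ρ.linHom ρ x) γ ⊓ U)
    L.two (show 2 ≤ T by omega) (by rw [mul_add] at hp; omega) hd (L.prim k) b hb hA (L.mul_A ρ) hv
    (Xi := ρ x⁻¹) (by rw [← map_mul, inv_mul_cancel, map_one]) fun φ hφ => End.mem_eigenspace_iff.1 hφ.1
  exact ⟨(key _).1 fun φ hφ => hφ.2,
    (key _).2.1 (inf_le_right.trans (H2.PR.range_ad ρ L.ne_two L.pow_p e).le),
    (key _).2.2 (inf_le_right.trans (H2.PR.range_ad ρ L.ne_two L.pow_p d).le)⟩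

end H84.LA
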