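import Cfsg.Agent.H94.L3Spec
import Cfsg.Agent.H63.Out

/-! Chapter LIST of S3140, slot G2G: automorphisms of `G₂(q)`, `q` odd. -/

set_option autoImplicit false
set_option linter.unusedSectionVars false

namespace H84.LlG2G

open Cfsg Cfsg.Lie H63 H64 H65

section
variable {F : Type*} [Field F] {G : Type*} [Group G] {D : ChevalleyDatum} [RS D] {x : ℕ → F → G}

variable (D x) in
/-- `w` inverts the fundamental root elements and their opposites. -/
def IsW (w : G) : Prop := ∀ (i : Fin D.rank) t,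
  w * x (D.simple i) t * w⁻¹ = x (D.simple i) (-t) ∧
    w * x (D.neg (D.simple i)) t * w⁻¹ = x (D.neg (D.simple i)) (-t)

theorem IsW.uniq (h : Ad D x) {w w' : G} (h1 : IsW D x w) (h2 : IsW D x w') : w = w' :=
  h.conj_injective (MulEquiv.toMonoidHom_injective (h.hom_ext fun i t =>
    ⟨(h1 i t).1.trans (h2 i t).1.symm, (h1 i t).2.trans (h2 i t).2.symm⟩))

theorem IsW.inv {w : G} (h1 : IsW D x w) : IsW D x w⁻¹ := fun i t => by
  have := h1 i (-t)
  rw [neg_neg] at this
  rw [← this.1, ← this.2]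
  constructor <;> group

theorem IsW.sq (h : Ad D x) {w : G} (h1 : IsW D x w) : w * w = 1 := by
  nth_rewrite 1 [h1.uniq h h1.inv]
  exact inv_mul_cancel w

theorem IsW.ne (h : Ad D x) (h2 : (2 : F) ≠ 0) {w : G} (h1 : IsW D x w) : w ≠ 1 := by
  rintro rfl
  let i : Fin D.rank := ⟨0, by have := RS.two_le_rank (D := D); omega⟩
  have e := (h1 i 1).1
  rw [one_mul, inv_one, mul_one] at e
  exact h2 (by linear_combination h.toStB.x_injective (simpleR i) e)

theorem IsW.map (h : Ad D x) {θ : G ≃* G} {π : Equiv.Perm (Fin D.rank)} (hθ : IsStd x θ π)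
    {w : G} (h1 : IsW D x w) : IsW D x (θ w) := fun i t => by
  obtain ⟨i, rfl⟩ := π.surjective i
  obtain ⟨f, hf⟩ := (hθ i).1.exists_addEquiv h.toStB
  obtain ⟨g, hg⟩ := (hθ i).2.exists_addEquiv h.toStB
  simp only [simpleR_val, negR_val] at hf hg
  constructor
  · obtain ⟨t, rfl⟩ := f.surjective t
    rw [← map_neg, ← hf, ← hf, ← (h1 i t).1, map_mul, map_mul, map_inv]
  · obtain ⟨t, rfl⟩ := g.surjective t
    rw [← map_neg, ← hg, ← hg, ← (h1 i t).2, map_mul, map_mul, map_inv]

theorem isW_hh (h : StN D x) (r : Rt D) (ho : ∀ i : Fin D.rank, Odd (D.pairing r (D.simple i))) :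
    IsW D x (hh D x r (-1)) := fun i t => by
  have e1 := h.hh_conj r (simpleR i) (c := -1) (by simp) t
  have e2 := h.hh_conj r (negR (simpleR i)) (c := -1) (by simp) t
  rw [negR_val, pairing_negR_right, simpleR_val, (ho i).neg.neg_one_zpow, neg_one_mul] at e2
  rw [simpleR_val, (ho i).neg_one_zpow, neg_one_mul] at e1
  exact ⟨e1, e2⟩

theorem quat {u y : G} (h3 : u * u * u = 1) (h3' : y * y * y = 1) (hb : u * y * u = y * u * y)
    (hc : u * y * u * (u * (u * y * u) * u⁻¹) = u * (u * y * u) * u⁻¹ * (u * y * u))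
    (h4 : u * y * u * (u * y * u) * (u * y * u * (u * y * u)) = 1) : u * y * u * (u * y * u) = 1 := by
  have e1 : u * u = u⁻¹ := eq_inv_of_mul_eq_one_left h3
  have e2 : y * y = y⁻¹ := eq_inv_of_mul_eq_one_left h3'
  have e3 : u * y * u * (u * (u * y * u) * u⁻¹) = u * y⁻¹ := by
    rw [← e2, show u * y * u * (u * (u * y * u) * u⁻¹) = u * y * (u * u * u) * y by group, h3]
    group
  have e4 : u * y⁻¹ = y⁻¹ * u⁻¹ * y * u := by
    rw [show y⁻¹ * u⁻¹ * y * u = y⁻¹ * u⁻¹ * (y * u * y) * y⁻¹ by group, ← hb]; group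
  have e5 : u * y⁻¹ * (u * y⁻¹) = u * y * u * (u * y * u) := by
    nth_rewrite 2 [e4]
    rw [show u * y * u * (u * y * u) = u * y * (u * u) * y * u by group, e1,
      show u * y⁻¹ * (y⁻¹ * u⁻¹ * y * u) = u * (y * y)⁻¹ * u⁻¹ * y * u by group, e2, inv_inv]
  have k1 : u * (u * y * u) = u * y * u * y := by nth_rewrite 1 [hb]; group
  have k2 : y * (u * y * u) = u * y * u * u := by nth_rewrite 2 [hb]; group
  generalize u * y * u = i at hc h4 e3 e5 k1 k2 ⊢
  have c1 : Commute i (u * i * u⁻¹) := hc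
  have c2 : u * i * u⁻¹ * (u * i * u⁻¹) = u * (i * i) * u⁻¹ := by group
  have c3 : Commute u (i * i) := by
    show u * (i * i) = i * i * u
    rw [← mul_assoc, k1, mul_assoc, k2, mul_assoc]
  rw [← e5, ← e3, ← pow_two, c1.mul_pow, pow_two, pow_two, c2, c3.eq, mul_inv_cancel_right, h4]

theorem sw_of (h : Ad D x) {θ : G ≃* G} {π : Equiv.Perm (Fin D.rank)} (hθ : IsStd x θ π)
    (h3 : (3 : F) = 0) {r s : Rt D} (m1 : Mp D x θ r s) (m2 : Mp D x θ (negR r) (negR s))
    (ho : ∀ i : Fin D.rank, Odd (D.pairing r (D.simple i)))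
    (hc : ∀ a ∈ [(r : ℕ), D.neg r], ∀ b ∈ [(s : ℕ), D.neg s],
      b ≠ a ∧ b ≠ D.neg a ∧ D.commTerms a b = []) :
    ∃ w i j : G, w ≠ 1 ∧ w * w = 1 ∧ i * i = w ∧ j * j = w ∧ i * j ≠ j * i ∧ i ∈ H94.L3.O2 w ∧
      j ∈ H94.L3.O2 w ∧ θ w = w ∧ Commute (θ i) i ∧ Commute (θ i) j := by
  have hN := h.toStB.toStN
  have hS := hN.toSt
  have h2 : (2 : F) ≠ 0 := fun e => one_ne_zero (α := F) (by linear_combination h3 - e)
  have hw := isW_hh hN r ho
  have hi : nn D x r 1 * nn D x r 1 = hh D x r (-1) := by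
    rw [hw.uniq h hw.inv, hh_eq, ← hS.nn_inv, mul_inv_rev, inv_inv]
  have cube : ∀ (a : Rt D) t, x a t * x a t * x a t = 1 := fun a t => by
    rw [hS.add a a.2, hS.add a a.2, show t + t + t = 0 by linear_combination t * h3, hS.x_zero]
  obtain ⟨η, hη, h1⟩ := hN.nn_conj r r
  have e1 : ∀ u, nn D x r 1 * x r u * (nn D x r 1)⁻¹ = x (negR r) (η * u) := fun u => by
    simpa using (h1 1 one_ne_zero u).1
  have e2 : ∀ u, nn D x r 1 * x (negR r) u * (nn D x r 1)⁻¹ = x r (η * u) := fun u => by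
    have := (h1 1 one_ne_zero u).2
    rwa [refl_self, negR_negR, one_zpow, mul_one] at this
  have c1 : ∀ u, x r u * hh D x r (-1) = hh D x r (-1) * x r u := fun u => by
    have := e2 (η * u)
    rw [← e1, ← mul_assoc η, hη, one_mul] at this
    rw [← hi]; nth_rewrite 1 [← this]; group
  have c2 : ∀ u, x (negR r) u * hh D x r (-1) = hh D x r (-1) * x (negR r) u := fun u => by
    have := e1 (η * u)
    rw [← e2, ← mul_assoc η, hη, one_mul] at this
    rw [← hi]; nth_rewrite 1 [← this]; group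
  have o : ∀ (a : Rt D) t, x a t * hh D x r (-1) = hh D x r (-1) * x a t →
      x a t ∈ H94.L3.O2 (hh D x r (-1)) := fun a t e => Subgroup.subset_closure
    ⟨e, Odd.of_dvd_nat (by decide : Odd 3) (orderOf_dvd_of_pow_eq_one (by
      rw [pow_succ, pow_two, cube]))⟩
  have hn : nn D x r 1 = x r 1 * x (negR r) (-1) * x r 1 := by rw [nn_eq, inv_one]; rfl
  have oi : nn D x r 1 ∈ H94.L3.O2 (hh D x r (-1)) := by
    rw [hn]; exact mul_mem (mul_mem (o _ _ (c1 _)) (o _ _ (c2 _))) (o _ _ (c1 _))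
  have cm : ∀ a : Rt D, a = r ∨ a = negR r → ∀ t, Commute (θ (nn D x r 1)) (x a t) := by
    intro a ha t
    have k : ∀ b : Rt D, b = s ∨ b = negR s → ∀ u, Commute (x b u) (x a t) := fun b hb u => by
      obtain ⟨k1, k2, k3⟩ := hc a (by rcases ha with rfl | rfl <;> simp) b
        (by rcases hb with rfl | rfl <;> simp)
      have := hS.comm a b a.2 b.2 k1 k2 t u
      rwa [ChevalleyDatum.commWord, k3, List.map_nil, wd_nil, mul_one] at this
    obtain ⟨f, hf⟩ := m1.exists_addEquiv h.toStB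
    obtain ⟨g, hg⟩ := m2.exists_addEquiv h.toStB
    rw [hn, map_mul, map_mul, hf, hg]
    exact ((k _ (.inl rfl) _).mul_left (k _ (.inr rfl) _)).mul_left (k _ (.inl rfl) _)
  have ci : Commute (θ (nn D x r 1)) (nn D x r 1) := by
    nth_rewrite 2 [hn]
    exact ((cm _ (.inl rfl) _).mul_right (cm _ (.inr rfl) _)).mul_right (cm _ (.inl rfl) _)
  refine ⟨_, nn D x r 1, x r 1 * nn D x r 1 * (x r 1)⁻¹, hw.ne h h2, hw.sq h, hi, ?_, fun e => ?_, oi,
    mul_mem (mul_mem (o _ _ (c1 _)) oi) (inv_mem (o _ _ (c1 _))), (hw.map h hθ).uniq h hw, ci,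
    ((cm _ (.inl rfl) _).mul_right ci).mul_right (cm _ (.inl rfl) _).inv_right⟩
  · rw [show ∀ a b : G, a * b * a⁻¹ * (a * b * a⁻¹) = a * (b * b) * a⁻¹ from fun a b => by group, hi,
      c1, mul_inv_cancel_right]
  · refine hw.ne h h2 ?_
    have h4 := hw.sq h
    have e3 := e1 1
    rw [← hi] at h4 ⊢
    rcases mul_self_eq_one_iff.1 hη with rfl | rfl
    · have e4 : x (negR r) (1 * 1) = (x (negR r) (-1))⁻¹ := by rw [hS.x_inv]; simp
      have e5 : nn D x r 1 = (x (negR r) (-1))⁻¹ * x r 1 * x (negR r) (-1) := by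
        rw [e4, mul_inv_eq_iff_eq_mul] at e3
        refine mul_right_cancel (b := x r 1) (e3.trans ?_)
        rw [hn]; group
      have e6 : nn D x r 1 * nn D x r 1 * nn D x r 1 = 1 := by
        rw [e5, show ∀ a b : G, b⁻¹ * a * b * (b⁻¹ * a * b) * (b⁻¹ * a * b) = b⁻¹ * (a * a * a) * b from
          fun a b => by group, cube]
        group
      rw [← mul_assoc, e6, one_mul] at h4
      rw [h4, one_mul]
    · rw [mul_one, mul_inv_eq_iff_eq_mul] at e3
      rw [hn] at e e3 h4 ⊢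
      refine quat (cube _ _) (cube _ _) (mul_right_cancel (b := x r 1) (e3.trans ?_)) e h4
      group

end

theorem diag_inner {F : Type*} [Field F] [RS chevG2] [Tab chevG2] (h : Ad chevG2 (xG chevG2 F))
    (c : Fin chevG2.rank → Fˣ) : ∃ g : chevG2.group F, diagAut chevG2 c = MulAut.conj g := by
  let a : Fin chevG2.rank := ⟨0, by decide⟩
  let b : Fin chevG2.rank := ⟨1, by decide⟩
  have hN := h.toStB.toStN
  have ha := (c a).ne_zero
  have hb := (c b).ne_zero
  have k : ∀ (r : Rt chevG2) t, MulAut.conj (hh chevG2 (xG chevG2 F) (chevG2.simple a) (c a ^ 2 * c b) *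
      hh chevG2 (xG chevG2 F) (chevG2.simple b) (c a ^ 3 * c b ^ 2)) (xG chevG2 F r t) =
      xG chevG2 F r ((c a ^ 2 * c b) ^ chevG2.cartan a r * ((c a ^ 3 * c b ^ 2) ^ chevG2.cartan b r * t)) :=
    fun r t => by
      rw [← hN.hh_simple_conj a r (by simp), ← hN.hh_simple_conj b r (by simp), MulAut.conj_apply]
      group
  refine ⟨_, MulEquiv.toMonoidHom_injective (h.hom_ext fun i t =>
    ⟨Eq.trans ?_ (k (simpleR i) t).symm, Eq.trans ?_ (k (negR (simpleR i)) t).symm⟩)⟩
  · rw [MulEquiv.coe_toMonoidHom, diagAut_xG, chr_simple, simpleR_val]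
    congr 1
    obtain rfl | rfl : i = a ∨ i = b := by revert i; decide
    · rw [show chevG2.cartan a (chevG2.simple a) = 2 by decide,
        show chevG2.cartan b (chevG2.simple a) = -1 by decide]
      simp only [zpow_neg, zpow_ofNat]; field_simp
    · rw [show chevG2.cartan a (chevG2.simple b) = -3 by decide,
        show chevG2.cartan b (chevG2.simple b) = 2 by decide]
      simp only [zpow_neg, zpow_ofNat]; field_simp
  · rw [MulEquiv.coe_toMonoidHom, diagAut_xG, chr_neg_simple, negR_val, simpleR_val,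
      Units.val_inv_eq_inv_val]
    congr 1
    obtain rfl | rfl : i = a ∨ i = b := by revert i; decide
    · rw [show chevG2.cartan a (chevG2.neg (chevG2.simple a)) = -2 by decide,
        show chevG2.cartan b (chevG2.neg (chevG2.simple a)) = 1 by decide]
      simp only [zpow_neg, zpow_ofNat]; field_simp
    · rw [show chevG2.cartan a (chevG2.neg (chevG2.simple b)) = 3 by decide,
        show chevG2.cartan b (chevG2.neg (chevG2.simple b)) = -2 by decide]
      simp only [zpow_neg, zpow_ofNat]; field_simp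

theorem jobG2G : H94.L3.JobG2G := by
  intro F _ _ _ σ
  obtain ⟨_, _, -, h⟩ := ad_of_mem (D := chevG2) (by simp) F
  obtain ⟨y, π, hπ⟩ := h.exists_isStd_of_finite σ
  let a : Fin chevG2.rank := ⟨0, by decide⟩
  let b : Fin chevG2.rank := ⟨1, by decide⟩
  have hab : ∀ i : Fin chevG2.rank, i = a ∨ i = b := by decide
  have ne : a ≠ b := by decide
  by_cases h0 : π a = a
  · have h1 : π b = b := (hab _).resolve_left fun e => ne (π.injective (h0.trans e.symm))
    have h2 : (π : _ → _) = id := funext fun i => by rcases hab i with rfl | rfl <;> assumption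
    rw [h2] at hπ
    obtain ⟨c, s, e⟩ := exists_diag_field h (θ := MulAut.conj y * σ) hπ
    obtain ⟨g, hg⟩ := diag_inner h c
    exact Or.inl ⟨y⁻¹ * g, _, isFieldAut_fieldAut s, by
      rw [map_mul, mul_assoc, ← hg, ← e, map_inv, inv_mul_cancel_left]⟩
  · have h1 : π a = b := (hab _).resolve_left h0
    have h2 : π b = a := (hab _).resolve_right fun e => ne (π.injective (h1.trans e.symm))
    have h3 : (3 : F) = 0 := hπ.three_eq_zero h.toStB ne (by decide) (by decide)
      (by rw [h1, h2]; decide) (by rw [h1, h2]; decide)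
    have m1 := hπ.mp_sref h.toStB a (hπ b).1
    have m2 := hπ.mp_sref h.toStB a (hπ b).2
    rw [sref_negR, sref_negR] at m2
    rw [h1, h2] at m1 m2
    obtain ⟨w, i, j, k⟩ := sw_of h hπ h3 m1 m2
      (by simp only [sref_val, simpleR_val]; decide +kernel)
      (by simp only [sref_val, simpleR_val]; decide +kernel)
    exact Or.inr ⟨y, w, i, j, k⟩

end H84.LlG2G
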