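import Cfsg.Agent.H86.SPGDef
import Cfsg.Agent.H34.SpZ1

/-! STD-SP (S3129), slot `STDSP-G-BD`: diagonal vectors of involutions and the groups `M_l`. -/

set_option autoImplicit false
set_option linter.unusedSectionVars false

namespace H84.SpBD

open H64.SG (Cz mem_Cz)
open H67.UA hiding Par
open H67.SP
open H86.SPG (Dg BD JobBD)
open H34.SpQE (hf_comm hfs NN NN_apply rk_eq exists_diag aa)

variable {n : ℕ} {F : Type} [Field F] [StarRing F] [TrivialStar F] [CharP F 2] [Finite F]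

theorem wk_mono {l l' : ℕ} (h : l ≤ l') {v : Vn n F} (hv : Wk l v) : Wk l' v :=
  fun i hi => hv i (h.trans hi)

theorem wk_smul {l : ℕ} (a : F) {v : Vn n F} (hv : Wk l v) : Wk l (a • v) := fun i hi => by
  rw [Pi.smul_apply, hv i hi, smul_zero]

theorem dg_uq (u : XU n F) (d d' : Vn n F) (h : Dg u d) (h' : Dg u d') : d = d' :=
  eq_of_hf fun v => by
    rw [hf_comm d, hf_comm d']
    exact H34.SpQE.sq_inj ((h v).symm.trans (h' v))

variable [FV n F]

theorem ac_TT (d v : Vn n F) : ac (TT d) v = v + hf v d • d := by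
  rw [ac_Tc (FV.iso d) (star_one F), one_mul]

theorem dg_fix {u : XU n F} {d : Vn n F} (h : u * u = 1) (hd : Dg u d) {g : XU n F}
    (hg : g ∈ Cz u) : ac g d = d := by
  obtain ⟨d0, h1, -, h2⟩ := exists_diag h
  rw [dg_uq u d d0 hd h1]
  exact h2 g hg

theorem cz_le {u : XU n F} {d : Vn n F} (h : u * u = 1) (hd : Dg u d) : Cz u ≤ Cz (TT d) :=
  fun g hg => by
    have := Tc_conj (FV.iso d) (star_one F) g
    rw [dg_fix h hd hg, mul_inv_eq_iff_eq_mul] at this
    exact mem_Cz.2 this.symm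

theorem dg_alt (u : XU n F) (d : Vn n F) (h : u * u = 1) (hd : Dg u d) :
    Alt (u * TT d) ∧ (u * TT d) * (u * TT d) = 1 ∧ Cz u ≤ Cz (TT d) := by
  have uu : u ∈ Cz u := mem_Cz.2 rfl
  refine ⟨fun v => ?_, ?_, cz_le h hd⟩
  · rw [ac_mul, ac_TT, ac_add, ac_smul, dg_fix h hd uu, hf_add_left, hf_smul_left, hd v,
      hf_comm d v, sq, aa]
  · rw [mul_assoc, ← mul_assoc (TT d), mem_Cz.1 (cz_le h hd uu), mul_assoc,
      Tc_mul_self (FV.iso d) (star_one F), mul_one, h]

/-- `M_l` fixes `W_l^⊥` pointwise -/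
theorem mk_fix {l : ℕ} (hl : l ≤ n + 1) {m : XU n F} (hm : m ∈ Mk n F l) {x : Vn n F}
    (hx : Wk (n + 1 - l) x) : ac m x = x := eq_of_hf fun z => by
  have := (FV.wk_perp l hl x).1 hx _ ((FV.mem_M l m).1 hm (ac m⁻¹ z))
  rw [ac_ac_inv, hf_add_right, CharTwo.add_eq_zero] at this
  rw [hf_ac_left, this]

theorem mk_sq {l : ℕ} (hl : 2 * l ≤ n + 1) {m : XU n F} (hm : m ∈ Mk n F l) : m * m = 1 :=
  ac_ext fun v => by
    have := mk_fix (by omega) hm (wk_mono (show l ≤ n + 1 - l by omega) ((FV.mem_M l m).1 hm v))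
    rw [ac_add, add_comm (ac m v) v] at this
    rw [ac_mul, ac_one]
    exact add_right_cancel this

theorem mk_rk {l : ℕ} (hl : l ≤ n + 1) {m : XU n F} (hm : m ∈ Mk n F l) : rk m ≤ l := by
  rw [rk_eq]
  have := LinearMap.finrank_le_finrank_of_injective
    (f := (LinearMap.funLeft F F (Fin.castLE hl)).comp (LinearMap.range (NN m)).subtype) (by
      rw [injective_iff_map_eq_zero]
      rintro ⟨_, v, rfl⟩ h
      refine Subtype.ext (funext fun i => ?_)
      by_cases hi : i.val < l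
      · exact congrFun h ⟨i.val, hi⟩
      · exact (FV.mem_M l m).1 hm v i (by omega))
  rwa [Module.finrank_fin_fun] at this

theorem mk_dg {l : ℕ} (hl : l ≤ n + 1) {m : XU n F} (hm : m ∈ Mk n F l) (d : Vn n F)
    (hd : Dg m d) : Wk l d := fun i hi => by
  have h1 : Wk (n + 1 - l) (ev i.rev : Vn n F) := fun j hj => by
    rw [ev_apply, if_neg]
    rintro rfl
    rw [Fin.val_rev] at hj
    omega
  have := hd (ev i.rev)
  rw [mk_fix hl hm h1, hfs, hf_ev_left, Fin.rev_rev, star_trivial] at this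
  exact (pow_eq_zero_iff two_ne_zero).1 this.symm

theorem tt_mem (l : ℕ) (d : Vn n F) (hd : Wk l d) : TT d ∈ Mk n F l :=
  (FV.mem_M l _).2 fun v => by
    rw [ac_TT, add_right_comm, v_add_self, zero_add]
    exact wk_smul _ hd

theorem mk_le (l : ℕ) (hl : 2 * l ≤ n + 1) : Mk n F l ≤ Qk n F l := fun m hm =>
  (FV.mem_Qk l hl m).2 ⟨fun _ hv => mk_fix (by omega) hm (wk_mono (by omega) hv),
    fun v _ => (FV.mem_M l m).1 hm v⟩

theorem mk_lt (l l' : ℕ) (h : l < l') (hl : 2 * l' ≤ n + 1) :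
    Nat.card (Mk n F l) < Nat.card (Mk n F l') := by
  let i : Fin (n + 1) := ⟨l, by omega⟩
  have h1 : Mk n F l ≤ Mk n F l' := fun m hm =>
    (FV.mem_M l' m).2 fun v => wk_mono h.le ((FV.mem_M l m).1 hm v)
  have h2 : TT (ev i) ∈ Mk n F l' := tt_mem l' _ fun j hj => by
    rw [ev_apply, if_neg]
    rintro rfl
    exact absurd hj (not_le.2 h)
  have h3 : TT (ev i) ∉ Mk n F l := fun k => by
    have := (FV.mem_M l _).1 k (ev i.rev) i le_rfl
    rw [ac_TT, add_right_comm, v_add_self, zero_add, hf_ev, Fin.rev_rev, if_pos rfl, one_smul,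
      ev_apply, if_pos rfl] at this
    exact one_ne_zero this
  exact Set.Finite.card_lt_card (s := (Mk n F l : Set (XU n F))) (t := (Mk n F l' : Set (XU n F)))
    (Set.toFinite _) ⟨h1, fun k => h3 (k h2)⟩

theorem bd : BD n F where
  ex _ h := (exists_diag h).imp fun _ k => k.1
  uq := dg_uq
  alt := dg_alt
  mm _ hl _ hm := ⟨mk_sq hl hm, mk_rk (by omega) hm, mk_dg (by omega) hm⟩
  tt := tt_mem
  mq := mk_le
  lt := mk_lt

theorem jobBD : JobBD := fun _ _ _ _ _ _ _ _ _ => bd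

end H84.SpBD
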