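import Cfsg.Agent.H84.TEL0

/-! TE2-L1, part 2: the elements permuting the four conjugates of `R` in `R Z`. -/

set_option autoImplicit false
set_option linter.unusedSectionVars false

namespace H84.TL

open Subgroup Cfsg H98 H14 H1.Gold H86.L34 H6 H88.AS H88.TE H25.TE

universe u

variable {G : Type u} [Group G] [Finite G] {d : Dt G} {big : Bool} {R O : Subgroup G} {r : F4 → G}
  {x y : G} {φ ψ φ' ψ' : F4 → F4} {δ δ' : F4}

theorem cj_mul (x y s : G) : x * y * s * (x * y)⁻¹ = x * (y * s * y⁻¹) * x⁻¹ := by group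

theorem cj_cj' (g x s : G) : g * x * g⁻¹ * (g * s * g⁻¹) * (g * x * g⁻¹)⁻¹ =
    g * (x * s * x⁻¹) * g⁻¹ := by group

/-- `x` centralises `U` and `O` and moves `r c` by `z (c δ)`. -/
structure Bs (d : Dt G) (big : Bool) (r : F4 → G) (x : G) (δ : F4) : Prop where
  cu : ∀ a b c, Commute x (d.u a b c)
  hr : ∀ c, Ph big c → x * r c * x⁻¹ = r c * d.z (c * δ)

section

variable (h : Fr d) (hp : Pr d big R r)
include h

theorem uz (a b c e : F4) : d.u a b c * d.z e = d.u a b (c + e) := by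
  rw [h.hm.mul]; exact cg d.u (by simp) (by simp) (by simp)

theorem Ac.mul (hx : Ac d big r x φ ψ δ) (hy : Ac d big r y φ' ψ' δ') :
    Ac d big r (x * y) (φ + φ') (ψ + ψ') (δ + δ') where
  hz e := by rw [cj_mul, hy.hz, hx.hz]
  h1 a := by
    rw [cj_mul, hy.h1, ← zero_add (φ' a), ← uz h, ← conj_mul, hx.h1, hx.hz, uz h, Pi.add_apply]
  h2 b := by
    rw [cj_mul, hy.h2, ← zero_add (ψ' b), ← uz h, ← conj_mul, hx.h2, hx.hz, uz h, Pi.add_apply]
  hr c hc := by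
    rw [cj_mul, hy.hr c hc, ← conj_mul, hx.hr c hc, hx.hz, mul_assoc, z_add h.toFr0, mul_add]

theorem Ac.add1 (hx : Ac d big r x φ ψ δ) (a b : F4) : φ (a + b) = φ a + φ b := by
  have e : d.u (a + b) 0 0 = d.u a 0 0 * d.u b 0 0 := by
    rw [h.hm.mul]; exact cg d.u rfl (by simp) (by simp)
  have := hx.h1 (a + b)
  rw [e, ← conj_mul, hx.h1, hx.h1, h.hm.mul] at this
  simpa using (h.hm.ext this).2.2.symm

theorem Ac.add2 (hx : Ac d big r x φ ψ δ) (a b : F4) : ψ (a + b) = ψ a + ψ b := by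
  have e : d.u 0 (a + b) 0 = d.u 0 a 0 * d.u 0 b 0 := by
    rw [h.hm.mul]; exact cg d.u (by simp) rfl (by simp)
  have := hx.h2 (a + b)
  rw [e, ← conj_mul, hx.h2, hx.h2, h.hm.mul] at this
  simpa using (h.hm.ext this).2.2.symm

theorem hu' (a b c : F4) : d.u a b c = d.h * d.u (F4.w * a) (F4.w * b) (F4.v * c) * d.h⁻¹ := by
  rw [h.hu, ← mul_assoc, ← mul_assoc, ← mul_assoc]
  exact cg d.u (one_mul a).symm (one_mul b).symm (one_mul c).symm

theorem hzz (e : F4) : d.h * d.z e * d.h⁻¹ = d.z (F4.w * e) := by rw [h.hu, mul_zero]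

include hp

theorem hrc {c : F4} (hc : Ph big c) : d.h * r c * d.h⁻¹ = r c :=
  mul_inv_eq_of_eq_mul (rK h hp hc _ h.hA)

theorem Ac.conj (hx : Ac d big r x φ ψ δ) : Ac d big r (d.h * x * d.h⁻¹)
    (fun a => F4.w * φ (F4.w * a)) (fun a => F4.w * ψ (F4.w * a)) (F4.w * δ) where
  hz e := by rw [Dt.z, hu' h, cj_cj', mul_zero, hx.hz]
  h1 a := by
    rw [hu' h a, cj_cj', mul_zero, mul_zero, hx.h1, h.hu, mul_zero, ← mul_assoc]
    exact cg d.u (one_mul a) rfl rfl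
  h2 a := by
    rw [hu' h 0 a, cj_cj', mul_zero, mul_zero, hx.h2, h.hu, mul_zero, ← mul_assoc]
    exact cg d.u rfl (one_mul a) rfl
  hr c hc := by
    rw [← hrc h hp hc, cj_cj', hx.hr c hc, ← conj_mul, hzz h, mul_left_comm]

theorem Ac.zero (hx : Ac d big r x φ ψ 0) : ∃ l l', (∀ a, φ a = l * a) ∧ ∀ a, ψ a = l' * a := by
  obtain ⟨k, hk, a, b, c, rfl⟩ := h.tri₁ x (memN h hp (by simpa [h.hm.one] using hx.hr 1 ph1))
    (fun e => eq_mul_of_mul_inv_eq (hx.hz e)) fun a => ⟨_, hx.h1 a⟩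
  refine ⟨b, a, fun t => ?_, fun t => ?_⟩
  · have := hx.h1 t
    rw [cj_mul, h.hm.conj, Ku h.toFr0 hk, mul_inv_cancel_right] at this
    simpa using (h.hm.ext this).2.2.symm
  · have := hx.h2 t
    rw [cj_mul, h.hm.conj, Ku h.toFr0 hk, mul_inv_cancel_right] at this
    simpa using (h.hm.ext this).2.2.symm

theorem exists_bs : ∃ x δ, δ ≠ 0 ∧ Bs d big r x δ := by
  obtain ⟨x, φ, ψ, δ, h0, hx⟩ := exists_ac h hp
  have h1 := (hx.mul h (hx.conj h hp)).mul h ((hx.conj h hp).conj h hp)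
  rw [(by decide : ∀ δ : F4, δ + F4.w * δ + F4.w * (F4.w * δ) = 0) δ] at h1
  obtain ⟨l, l', h2, h3⟩ := h1.zero h hp
  have key : ∀ (f : F4 → F4) (l : F4), (∀ a b, f (a + b) = f a + f b) →
      (∀ a, f a + F4.w * f (F4.w * a) + F4.w * (F4.w * f (F4.w * (F4.w * a))) = l * a) →
      ∀ a, f a = f 1 * a := fun f l r1 r2 => add_ext r1 (lin _ _ l (by
        rw [← r1, ← mul_one l, ← r2, ← mul_assoc]; rfl) (by
        rw [← r1, ← r2, ← mul_assoc]; rfl))
  have h4 := key φ l (hx.add1 h) h2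
  have h5 := key ψ l' (hx.add2 h) h3
  have h6 : Ac d big r (d.u (ψ 1) (φ 1) 0) (φ 1 * ·) (ψ 1 * ·) 0 :=
    ⟨fun e => by rw [h.hm.conj]; simp, fun a => by rw [h.hm.conj]; simp,
      fun a => by rw [h.hm.conj]; simp, fun c hc => by
        rw [← Ku h.toFr0 (rK h hp hc)]; simp [h.hm.one]⟩
  have h7 := hx.mul h h6
  refine ⟨_, δ + 0, by simpa, fun a b c => ?_, h7.hr⟩
  rw [h.hm.dec a b c, ← zero_add (c + a * b), ← uz h]
  refine (Commute.mul_right ?_ (eq_mul_of_mul_inv_eq (h7.hz _))).mul_right ?_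
  · exact eq_mul_of_mul_inv_eq ((h7.h1 a).trans (by rw [Pi.add_apply, h4 a, F4.add_self]))
  · exact eq_mul_of_mul_inv_eq ((h7.h2 b).trans (by rw [Pi.add_apply, h5 b, F4.add_self]))

omit hp

theorem Bs.mul (hx : Bs d big r x δ) (hy : Bs d big r y δ') : Bs d big r (x * y) (δ + δ') :=
  ⟨fun a b c => (hx.cu a b c).mul_left (hy.cu a b c), fun c hc => by
    rw [cj_mul, hy.hr c hc, ← conj_mul, hx.hr c hc, (hx.cu ..).mul_inv_cancel, mul_assoc,
      z_add h.toFr0, mul_add]⟩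

theorem Bs.inv (hx : Bs d big r x δ) : Bs d big r x⁻¹ δ :=
  ⟨fun a b c => (hx.cu a b c).inv_left, fun c hc => by
    rw [inv_inv, mul_assoc, inv_mul_eq_iff_eq_mul, ← mul_assoc, ← inv_mul_cancel_right (x * r c) x,
      hx.hr c hc, mul_assoc _ x, (hx.cu ..).eq, ← mul_assoc, mul_assoc (r c), zz h.toFr0, mul_one]⟩

theorem Bs.one : Bs d big r 1 0 := ⟨fun _ _ _ => Commute.one_left _, fun c _ => by simp [h.hm.one]⟩

theorem Bs.pow (hx : Bs d big r x δ) (n : ℕ) : Bs d big r (x ^ (2 * n + 1)) δ := by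
  induction n with
  | zero => simpa using hx
  | succ n ih =>
    have := (ih.mul h hx).mul h hx
    rwa [F4.add_self, zero_add, ← pow_succ, ← pow_succ] at this

include hp

theorem Bs.conj (hx : Bs d big r x δ) : Bs d big r (d.h * x * d.h⁻¹) (F4.w * δ) :=
  ⟨fun a b c => by
    rw [hu' h a]
    exact (hx.cu ..).conj _, fun c hc => by
    rw [← hrc h hp hc, cj_cj', hx.hr c hc, ← conj_mul, hzz h, mul_left_comm]⟩

theorem rzsq {c : F4} (hc : Ph big c) (e : F4) : r c * d.z e * (r c * d.z e) = 1 := by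
  rw [mul_assoc, ← mul_assoc _ (r c), ← Ku h.toFr0 (rK h hp hc), mul_assoc, zz h.toFr0, mul_one,
    rr h hp hc]

variable (ho : Od d R O)
include ho

theorem orz {o : G} (h1 : o ∈ O) {c : F4} (hc : Ph big c) (e : F4) : Commute o (r c * d.z e) :=
  Commute.mul_right ((ho.le h1).2 _ ((hp.mem _).2 ⟨c, hc, rfl⟩)).symm (Ku h.toFr0 (ho.le h1).1 ..)

theorem Bs.zero (hx : Bs d big r x 0) : ∃ o ∈ O, ∃ c e, Ph big c ∧ x = o * (r c * d.z e) := by
  obtain ⟨k, hk, e, rfl⟩ := h.ker x (memN h hp (by simpa [h.hm.one] using hx.hr 1 ph1)) hx.cu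
  obtain ⟨o, h1, s, hs, rfl⟩ := ho.dec k ⟨hk, fun s hs => by
    obtain ⟨c, hc, rfl⟩ := (hp.mem s).1 hs
    have := hx.hr c hc
    rw [cj_mul, ← Ku h.toFr0 (rK h hp hc), mul_inv_cancel_right, mul_zero, Dt.z, h.hm.one,
      mul_one] at this
    exact (eq_mul_of_mul_inv_eq this).symm⟩
  obtain ⟨c, hc, rfl⟩ := (hp.mem s).1 hs
  exact ⟨o, h1, c, e, hc, mul_assoc ..⟩

theorem Bs.nor (hx : Bs d big r x δ) {o : G} (h1 : o ∈ O) : x * o * x⁻¹ ∈ O := by
  have h2 : Bs d big r o 0 := ⟨fun _ _ _ => Ku h.toFr0 (ho.le h1).1 .., fun c hc => by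
    rw [← (ho.le h1).2 _ ((hp.mem _).2 ⟨c, hc, rfl⟩)]
    simp [h.hm.one]⟩
  have h3 := (hx.mul h h2).mul h (hx.inv h)
  rw [add_zero, F4.add_self] at h3
  obtain ⟨o', r1, c, e, hc, r2⟩ := h3.zero h hp ho
  obtain ⟨n, hn⟩ := H99.Wr.odd_of_mem ho.odd h1
  have r3 : (x * o * x⁻¹) ^ (2 * n + 1) = 1 := by rw [conj_pow, ← hn, pow_orderOf_eq_one]; simp
  rw [r2, (orz h hp ho r1 hc e).mul_pow, pow_succ (r c * _), pow_mul (r c * _), sq, rzsq h hp hc,
    one_pow, one_mul] at r3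
  rw [r2, eq_inv_of_mul_eq_one_right r3]
  exact mul_mem r1 (inv_mem (pow_mem r1 _))

/-- A commutator with an element whose square lies in `Z`. -/
theorem Bs.comm (hx : Bs d big r x δ) (hy : Bs d big r y δ') (h0 : δ' ≠ 0)
    (h1 : ∀ o ∈ O, Commute y o) {e : F4} (h2 : y * y = d.z e) : ∃ e', x * y = y * x * d.z e' := by
  have h3 := ((hx.mul h hy).mul h (hx.inv h)).mul h (hy.inv h)
  rw [add_right_comm δ, F4.add_self, zero_add, F4.add_self] at h3
  obtain ⟨o, r1, c, e', hc, r2⟩ := h3.zero h hp ho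
  have r3 : x * y * x⁻¹ = o * (r c * d.z e' * y) := by rw [← mul_assoc, ← r2, inv_mul_cancel_right]
  have r4 : r c * d.z e' * y * (r c * d.z e' * y) = d.z (c * δ') * d.z e := by
    rw [← h2, ← one_mul (d.z (c * δ')), ← rzsq h hp hc e', mul_assoc _ (r c * _), mul_assoc (r c) _ (d.z _),
      ← zu h.toFr0, ← mul_assoc (r c), ← hy.hr c hc, ← (hy.cu 0 0 e').mul_inv_cancel]
    group
  have r5 : o * o * d.z (c * δ') = 1 := by
    have := congrArg (fun t => t * t) r3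
    simp only [conj_mul, h2, (hx.cu ..).mul_inv_cancel] at this
    rw [← sq, ((orz h hp ho r1 hc e').mul_right (h1 o r1).symm).mul_pow, sq, sq, r4, ← mul_assoc] at this
    simpa using this
  have r6 : o * o = 1 := H99.Wr.one_of_odd_sq (H99.Wr.odd_of_mem ho.odd (mul_mem r1 r1)) (by
    rw [eq_inv_of_mul_eq_one_left r5, ← mul_inv_rev, zz h.toFr0, inv_one])
  rw [r6, one_mul] at r5
  rw [H99.Wr.one_of_odd_sq (H99.Wr.odd_of_mem ho.odd r1) r6, one_mul,
    (mul_eq_zero.1 (h.hm.inj r5).2.2).resolve_right h0, r0 h hp, one_mul] at r3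
  exact ⟨e', by rw [eq_mul_of_mul_inv_eq r3, ((hy.mul h hx).cu ..).eq, mul_assoc]⟩

theorem exists_x : ∃ x e, Bs d big r x F4.w ∧ (∀ o ∈ O, Commute x o) ∧ x * x = d.z e := by
  obtain ⟨x, δ, h0, hx⟩ := exists_bs h hp
  have h1 := hx.mul h ((hx.inv h).conj h hp)
  have h2 : ∀ o ∈ O, Commute (x * (d.h * x⁻¹ * d.h⁻¹)) o := fun o r1 => by
    have r2 := (ho.le ((hx.inv h).nor h hp ho r1)).1 _ h.hA
    have r3 := (ho.le r1).1 _ (inv_mem h.hA)
    calc _ = x * (d.h * (x⁻¹ * o * x⁻¹⁻¹)) * x⁻¹ * d.h⁻¹ := by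
          rw [mul_assoc, mul_assoc, r3]; group
      _ = _ := by rw [r2]; group
  have h3 : δ + F4.w * δ ≠ 0 := (by decide : ∀ δ : F4, δ ≠ 0 → δ + F4.w * δ ≠ 0) δ h0
  generalize x * (d.h * x⁻¹ * d.h⁻¹) = y at h1 h2
  generalize δ + F4.w * δ = ε at h1 h3
  obtain ⟨k, m, ⟨n, rfl⟩, h4⟩ := Nat.exists_eq_two_pow_mul_odd (orderOf_pos y).ne'
  have h5 := h1.pow h n
  have h6 : ∀ o ∈ O, Commute (y ^ (2 * n + 1)) o := fun o r => (h2 o r).pow_left _
  have h7 : (y ^ (2 * n + 1)) ^ 2 ^ k = 1 := by rw [← pow_mul, mul_comm, ← h4, pow_orderOf_eq_one]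
  generalize y ^ (2 * n + 1) = s at h5 h6 h7
  obtain ⟨o, r1, c, e, hc, r2⟩ := (F4.add_self ε ▸ h5.mul h h5).zero h hp ho
  have r3 : o = 1 := H99.Wr.one_of_odd (H99.Wr.odd_of_mem ho.odd r1) (k := k + 1) (by
    have := congrArg (· ^ 2 ^ (k + 1)) r2
    simp only [(orz h hp ho r1 hc e).mul_pow] at this
    rwa [← sq, ← pow_mul, mul_comm 2, pow_succ 2 k, mul_assoc, pow_mul, h7, one_pow, mul_comm _ 2,
      pow_mul (r c * _), sq (r c * _), rzsq h hp hc, one_pow, mul_one, mul_comm 2, eq_comm] at this)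
  rw [r3, one_mul] at r2
  have r4 : s * (r c * d.z e) * s⁻¹ = r c * d.z e := by rw [← r2]; group
  rw [← conj_mul, h5.hr c hc, (h5.cu ..).mul_inv_cancel, mul_left_inj, mul_eq_left] at r4
  rw [(mul_eq_zero.1 (h.hm.inj r4).2.2).resolve_right h3, r0 h hp, one_mul] at r2
  have step : ∀ s ε e, Bs d big r s ε → (∀ o ∈ O, Commute s o) → s * s = d.z e →
      ∃ x e, Bs d big r x (F4.w * ε) ∧ (∀ o ∈ O, Commute x o) ∧ x * x = d.z e := fun s ε e a1 a2 a3 =>
    ⟨_, _, a1.conj h hp, fun o r => by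
      have := (a2 o r).conj d.h
      rwa [(ho.le r).1 _ h.hA, mul_inv_cancel_right] at this, by rw [conj_mul, a3, hzz h]⟩
  cases ε
  · exact (h3 rfl).elim
  · exact step s _ e h5 h6 r2
  · exact ⟨s, e, h5, h6, r2⟩
  · obtain ⟨s, e, a1, a2, a3⟩ := step s _ e h5 h6 r2
    exact step s _ e a1 a2 a3

end

theorem jobL1 : JobL1.{u} := by
  intro G _ _ d big R r h hp
  obtain ⟨O, ho⟩ := exists_od h hp
  obtain ⟨x, e₁, a1, a2, a3⟩ := exists_x h hp ho
  have h0 := h.toFr0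
  have cO : ∀ s, (∀ o ∈ O, Commute s o) → ∀ o ∈ O, Commute (d.h * s * d.h⁻¹) o := fun s a o r => by
    have := (a o r).conj d.h
    rwa [(ho.le r).1 _ h.hA, mul_inv_cancel_right] at this
  have b1 : Bs d big r (d.h * x * d.h⁻¹) F4.v := a1.conj h hp
  have b2 := cO x a2
  have b3 : d.h * x * d.h⁻¹ * (d.h * x * d.h⁻¹) = d.z (F4.w * e₁) := by rw [conj_mul, a3, hzz h]
  have c1 : Bs d big r (d.h * (d.h * x * d.h⁻¹) * d.h⁻¹) 1 := b1.conj h hp
  have c2 := cO _ b2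
  have c4 : d.h * (d.h * (d.h * x * d.h⁻¹) * d.h⁻¹) * d.h⁻¹ = x := by
    calc _ = d.h ^ 3 * x * (d.h ^ 3)⁻¹ := by rw [pow_three]; group
      _ = x := by rw [h.h3]; simp
  generalize hy : d.h * x * d.h⁻¹ = y at b1 b2 b3 c1 c2 c4
  generalize hs : d.h * y * d.h⁻¹ = s at c1 c2 c4
  obtain ⟨e₂, d1⟩ := c1.comm h hp ho a1 (by decide) a2 a3
  obtain ⟨e₃, d2⟩ := c1.comm h hp ho b1 (by decide) b2 b3
  obtain ⟨e₄, d3⟩ := b1.comm h hp ho a1 (by decide) a2 a3
  have za : ∀ e, d.z e * x = x * d.z e := fun e => (a1.cu ..).eq.symm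
  have zb : ∀ e, d.z e * y = y * d.z e := fun e => (b1.cu ..).eq.symm
  have zc : ∀ e, d.z e * s = s * d.z e := fun e => (c1.cu ..).eq.symm
  have za' : ∀ e t, d.z e * (x * t) = x * (d.z e * t) := fun e t => by rw [← mul_assoc, za, mul_assoc]
  have zb' : ∀ e t, d.z e * (y * t) = y * (d.z e * t) := fun e t => by rw [← mul_assoc, zb, mul_assoc]
  have zc' : ∀ e t, d.z e * (s * t) = s * (d.z e * t) := fun e t => by rw [← mul_assoc, zc, mul_assoc]
  have a3' : ∀ t, x * (x * t) = d.z e₁ * t := fun t => by rw [← mul_assoc, a3]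
  have b3' : ∀ t, y * (y * t) = d.z (F4.w * e₁) * t := fun t => by rw [← mul_assoc, b3]
  have c3 : s * s = d.z (F4.w * (F4.w * e₁)) := by rw [← hs, conj_mul, b3, hzz h]
  have c3' : ∀ t, s * (s * t) = d.z (F4.w * (F4.w * e₁)) * t := fun t => by rw [← mul_assoc, c3]
  have d1' : ∀ t, s * (x * t) = x * (s * (d.z e₂ * t)) := fun t => by simp only [← mul_assoc, d1]
  have d2' : ∀ t, s * (y * t) = y * (s * (d.z e₃ * t)) := fun t => by simp only [← mul_assoc, d2]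
  have d3' : ∀ t, y * (x * t) = x * (y * (d.z e₄ * t)) := fun t => by simp only [← mul_assoc, d3]
  have p1 : Bs d big r (x * y) 1 := a1.mul h b1
  have p2 : Bs d big r (y * s) F4.w := b1.mul h c1
  have q1 : d.h * (x * y) * d.h⁻¹ = y * s := by rw [← conj_mul, hy, hs]
  have q2 : ∃ e, d.h * (y * s) * d.h⁻¹ = x * y * (y * s) * d.z e := by
    rw [← conj_mul, hs, c4]
    exact ⟨F4.w * e₁ + e₂, by
      simp only [mul_assoc, d1, b3', zc', z_add h0, ← add_assoc, F4.add_self, zero_add]⟩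
  have q3 : ∃ e, x * y * (x * y) = d.z e := ⟨_, by
    simp only [mul_assoc, d3', a3', zb, b3', z_add h0]; rfl⟩
  have q4 : ∃ e, y * s * (y * s) = d.z e := ⟨_, by
    simp only [mul_assoc, d2', b3', zc, c3', z_add h0]; rfl⟩
  have o1 : ∀ o ∈ O, Commute (x * y) o := fun o r => (a2 o r).mul_left (b2 o r)
  have o2 : ∀ o ∈ O, Commute (y * s) o := fun o r => (b2 o r).mul_left (c2 o r)
  generalize x * y = p at p1 q1 q2 q3 o1
  generalize y * s = q at p2 q1 q2 q4 o2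
  obtain ⟨⟨f₂, q2⟩, ⟨f₃, q3⟩, f₄, q4⟩ := And.intro q2 (And.intro q3 q4)
  obtain ⟨f, q5⟩ := p1.comm h hp ho p2 (by decide) o2 q4
  have zp : ∀ e t, d.z e * (p * t) = p * (d.z e * t) := fun e t => by
    rw [← mul_assoc, ← (p1.cu ..).eq, mul_assoc]
  have zq : ∀ e t, d.z e * (q * t) = q * (d.z e * t) := fun e t => by
    rw [← mul_assoc, ← (p2.cu ..).eq, mul_assoc]
  have cm : p * q = q * p := by
    have r1 := congrArg (d.h * · * d.h⁻¹) q5
    simp only [← conj_mul, q1, q2, hzz h] at r1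
    rw [mul_assoc (p * q), ← (p2.cu ..).eq, ← mul_assoc, ← mul_assoc, ← mul_assoc, q5] at r1
    simp only [mul_assoc, zq, z_add h0, mul_right_inj] at r1
    have r2 : ∀ f f₂ : F4, f₂ = f + f₂ + F4.w * f → f = 0 := by decide
    rw [q5, r2 f f₂ (h.hm.ext r1).2.2, Dt.z, h.hm.one, mul_one]
  have cm' : ∀ t, q * (p * t) = p * (q * t) := fun t => by rw [← mul_assoc, ← cm, mul_assoc]
  have q3' : ∀ t, p * (p * t) = d.z f₃ * t := fun t => by rw [← mul_assoc, q3]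
  have q4' : ∀ t, q * (q * t) = d.z f₄ * t := fun t => by rw [← mul_assoc, q4]
  have z0 : d.z 0 = 1 := h.hm.one
  let b : F4 → G := fun t => match t with
    | .o => 1
    | .i => p
    | .w => q
    | .v => p * q
  have hb : ∀ t, Bs d big r (b t) t := fun t => by
    cases t
    exacts [Bs.one h, p1, p2, p1.mul h p2]
  have c : Commute p q := cm
  refine ⟨O, b, ho, rfl, fun s t => ?_, fun s t => ?_, fun t => (hb t).cu, fun t o r => ?_,
    fun t => (hb t).hr, fun t => ?_⟩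
  · cases s <;> cases t
    case i.i => exact ⟨f₃, q3.trans (one_mul _).symm⟩
    case w.w => exact ⟨f₄, q4.trans (one_mul _).symm⟩
    case i.v => exact ⟨f₃, (q3' q).trans (p2.cu ..).eq.symm⟩
    case w.i => exact ⟨0, by rw [z0, mul_one]; exact cm.symm⟩
    case w.v => exact ⟨f₄, (cm' q).trans (congrArg _ q4)⟩
    case v.i => exact ⟨f₃, by
      show p * q * p = q * _
      rw [cm, mul_assoc, q3]⟩
    case v.w => exact ⟨f₄, (mul_assoc ..).trans (congrArg _ q4)⟩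
    case v.v => exact ⟨f₃ + f₄, by
      show p * q * (p * q) = 1 * _
      rw [mul_assoc, cm', q3', q4, z_add h0, one_mul]⟩
    all_goals
      exact ⟨0, by rw [z0]; first | exact (one_mul _).trans (mul_one _).symm | rfl | exact (mul_one _).symm⟩
  · cases s <;> cases t
    all_goals first | exact Commute.refl _ | exact Commute.one_left _ | exact Commute.one_right _ | skip
    exacts [c, (Commute.refl p).mul_right c, c.symm, c.symm.mul_right (Commute.refl q),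
      (Commute.refl p).mul_left c.symm, c.mul_left (Commute.refl q)]
  · cases t
    exacts [Commute.one_left _, o1 o r, o2 o r, (o1 o r).mul_left (o2 o r)]
  · cases t
    · exact ⟨0, by rw [z0]; show _ * 1 * _ = 1 * 1; simp⟩
    · exact ⟨0, by rw [z0, mul_one]; exact q1⟩
    · exact ⟨f₂, q2⟩
    · refine ⟨f₄ + f₂, ?_⟩
      show d.h * (p * q) * d.h⁻¹ = p * _
      rw [← conj_mul, q1, q2, mul_assoc, cm', q4', z_add h0]

end H84.TL
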