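import Cfsg.Agent.H84.K3A

/-! HKS kit 3: matrices representing elements of `N(X)`; fields `ex`, `o4`, `slc`, `sy1`, `an`. -/

set_option autoImplicit false
set_option linter.unusedSectionVars false

namespace H84.K3

open MulAction Cfsg Subgroup H89.K H65 H7.HKS H31.HK H3.HK2 H98

universe u

variable {G Ω : Type u} [Group G] [Finite G] [MulAction G Ω] {F : Type} [Field F] [Fintype F]

/-- `g` acts on the image of `SL₂(F)` as the matrix `M`. -/
def Rp {x y : F → G} (H : SL2Rel x y) (g : G) (M : GL (Fin 2) F) : Prop :=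
  ∀ n n' : S2 F, (M : M2 F) * n = n' * M → g * H.hom n * g⁻¹ = H.hom n'

section Rp

variable {x y : F → G} {H : SL2Rel x y} {g g' : G} {M M' : GL (Fin 2) F}

theorem Rp.mul (r : Rp H g M) (r' : Rp H g' M') : Rp H (g * g') (M * M') := fun n n' e => by
  obtain ⟨m, hm⟩ := exists_cj M' n
  rw [Units.val_mul, mul_assoc, hm, ← mul_assoc, ← mul_assoc, Units.mul_left_inj] at e
  rw [← r _ _ e, ← r' _ _ hm]; group

theorem Rp.inv (r : Rp H g M) : Rp H g⁻¹ M⁻¹ := fun n n' e => by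
  rw [Units.inv_mul_eq_iff_eq_mul, ← mul_assoc, Units.eq_mul_inv_iff_mul_eq] at e
  rw [← r _ _ e.symm]; group

theorem rp_hom (m : S2 F) : Rp H (H.hom m) (Matrix.SpecialLinearGroup.toGL m) := fun n n' e => by
  rw [mul_inv_eq_iff_eq_mul, ← map_mul, ← map_mul]
  exact congrArg _ (Subtype.ext e)

theorem Rp.pow (r : Rp H g M) (k : ℕ) : Rp H (g ^ k) (M ^ k) := by
  induction k with
  | zero => simpa using rp_hom (H := H) 1
  | succ k ih => rw [pow_succ, pow_succ]; exact ih.mul r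

end Rp

theorem conj_hom' {x y : F → G} (H : SL2Rel x y) {g : G} {l : F} (hl : l ≠ 0) {σ : F ≃+* F}
    (hx : ∀ c, g * x c * g⁻¹ = x (l * σ c)) (hy : ∀ c, g * y c * g⁻¹ = y (l⁻¹ * σ c)) (m : S2 F) :
    g * H.hom m * g⁻¹ = H.hom (dg l hl (Matrix.SpecialLinearGroup.map (σ : F →+* F) m)) := by
  let f : S2 F →* S2 F := Matrix.SpecialLinearGroup.map (σ : F →+* F)
  have eU : ∀ t, dg l hl (f (sl2U t)) = sl2U (l * σ t) := fun t => by
    ext i j; fin_cases i <;> fin_cases j <;> simp [dg, f]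
  have eL : ∀ t, dg l hl (f (sl2L t)) = sl2L (l⁻¹ * σ t) := fun t => by
    ext i j; fin_cases i <;> fin_cases j <;> simp [dg, f]
  have mul : ∀ a b, g * H.hom a * g⁻¹ = H.hom (dg l hl (f a)) →
      g * H.hom b * g⁻¹ = H.hom (dg l hl (f b)) →
      g * H.hom (a * b) * g⁻¹ = H.hom (dg l hl (f (a * b))) := fun a b ha hb => by
    rw [map_mul f, dg_mul, map_mul, map_mul, ← ha, ← hb]; group
  have hU : ∀ t, g * H.hom (sl2U t) * g⁻¹ = H.hom (dg l hl (f (sl2U t))) := fun t => by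
    rw [eU, H.hom_U, H.hom_U, hx]
  induction m using sl2_induction with
  | hU t => exact hU t
  | hW =>
    rw [show (sl2W : S2 F) = sl2U 1 * sl2L (-1) * sl2U 1 by
      ext i j; fin_cases i <;> fin_cases j <;> simp [Matrix.mul_apply, Fin.sum_univ_two]]
    exact mul _ _ (mul _ _ (hU 1) (by rw [eL, H.hom_L, H.hom_L, hy])) (hU 1)
  | hmul a b ha hb => exact mul a b ha hb

theorem card_range {A : Type*} [Group A] [Finite A] (f : A →* G) {z : A} (h1 : z ≠ 1)
    (h2 : z * z = 1) (hk : ∀ m, f m = 1 → m = 1 ∨ m = z) :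
    (f z ≠ 1 → Nat.card f.range = Nat.card A) ∧ (f z = 1 → 2 * Nat.card f.range = Nat.card A) := by
  have c := f.ker.card_mul_index
  rw [index_ker] at c
  refine ⟨fun e => ?_, fun e => ?_⟩
  · rwa [(eq_bot_iff_forall f.ker).2 fun m hm => (hk m hm).resolve_right (by rintro rfl; exact e hm),
      card_bot, one_mul] at c
  · rwa [show f.ker = zpowers z from le_antisymm (fun m hm => by
      rcases hk m hm with rfl | rfl
      exacts [one_mem _, mem_zpowers _]) (zpowers_le.2 e), Nat.card_zpowers,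
      orderOf_eq_prime ((sq z).trans h2) h1] at c

namespace Lx

variable {U : Ω → Subgroup G} {x y : F → G} {X : Set G} {a b : Ω} (h : Lx U x y X a b)
include h

theorem hom_eq {m n : S2 F} (e : h.ld.rel.hom m = h.ld.rel.hom n) : m = n ∨ m = -n := by
  rcases h.cx.ker (m := m * n⁻¹) (by rw [map_mul, map_inv, e, mul_inv_cancel]) with k | k
  · exact .inl (mul_inv_eq_one.1 k)
  · exact .inr (by rw [mul_inv_eq_iff_eq_mul.1 k, neg_mul, one_mul])

theorem hom_inj (hz : sl2h x y (-1) ≠ 1) : Function.Injective h.ld.rel.hom :=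
  (injective_iff_map_eq_one _).2 fun _ e =>
    (h.cx.ker e).resolve_right (by rintro rfl; exact hz (hom_neg_one h.ld.rel ▸ e))

theorem range : h.ld.rel.hom.range = LX U X := h.cx.range.trans h.lx.symm

theorem rp_triv {g : G} {M : GL (Fin 2) F} (r : Rp h.ld.rel g M) : Triv Ω X g ↔ Sc (M : M2 F) := by
  rw [h.triv_iff]
  refine ⟨fun e => sc_of_cj h.cx.two_ne (det_ne M) fun n => ?_, fun ⟨c, hc⟩ l hl => ?_⟩
  · obtain ⟨n', hn⟩ := exists_cj M n
    have := r _ _ hn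
    rw [e _ (h.hom_mem n), mul_inv_cancel_right] at this
    rcases h.hom_eq this.symm with rfl | rfl
    · exact .inl hn
    · exact .inr (by rw [hn, Matrix.SpecialLinearGroup.coe_neg, neg_mul])
  · obtain ⟨n, rfl⟩ := h.exists_hom hl
    exact mul_inv_eq_iff_eq_mul.1 (r n n (by rw [hc]; simp))

theorem rp_ex {g : G} {d : ℤˣ} (r : Rl U x X a b g d 1) : ∃ M, Rp h.ld.rel g M := by
  obtain ⟨l, hl, k, hk, hn, c, c0, rfl, s, -⟩ := r
  obtain ⟨m, rfl⟩ := h.exists_hom hl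
  refine ⟨_, (rp_hom m).mul (M' := Matrix.GeneralLinearGroup.mkOfDetNeZero !![c, 0; 0, 1]
    (by simpa [Matrix.det_fin_two] using c0)) fun n n' e => ?_⟩
  rw [conj_hom h.ld.rel c0 s (h.semi_y hk hn s).2]
  congr 1
  have e := fun i j => congrFun (congrFun e i) j
  have e0 := e 0 0
  have e1 := e 0 1
  have e2 := e 1 0
  have e3 := e 1 1
  simp [Matrix.mul_apply, Fin.sum_univ_two] at e0 e1 e2 e3
  ext i j
  fin_cases i <;> fin_cases j <;> simp [dg]
  · exact mul_left_cancel₀ c0 (e0.trans (mul_comm _ _))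
  · exact e1
  · rw [e2]; field_simp
  · exact e3

theorem triv_hom {m : S2 F} : Triv Ω X (h.ld.rel.hom m) ↔ m = 1 ∨ m = -1 := by
  rw [h.triv_iff]
  constructor
  · intro e
    rcases h.cx.cent (h.cx.hom_mem m) (fun l hl => e l (h.lx.ge hl)) with k | k
    · exact h.cx.ker k
    · rcases h.hom_eq (k.trans (hom_neg_one h.ld.rel).symm) with k | k
      exacts [.inr k, .inl (by simpa using k)]
  · rintro (rfl | rfl) l hl
    · simp
    · rw [hom_neg_one]; exact (h.cx.zeta (h.lx.le hl)).symm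

theorem rl_triv {g : G} (hg : g ∈ normalizer X) {d : ℤˣ} {σ : F ≃+* F} (r : Rl U x X a b g d σ)
    (t : Triv Ω X g) : σ = 1 :=
  ((h.rl_inn hg r).2 ⟨1, one_mem _, fun c hc => by rw [t c hc, one_smul]⟩).2

theorem ex {s : ℕ} (h3 : Fintype.card F % 4 = 3) (hs : ¬ 2 ^ (s + 2) ∣ Fintype.card F + 1) {g : G}
    (h2 : Two g) (hi : Inn U X g) : Triv Ω X (g ^ 2 ^ s) := by
  obtain ⟨j, hj⟩ := h2
  obtain ⟨l, hl, e⟩ := hi
  have key : ∀ n : ℕ, ∀ c ∈ Fx Ω X, g ^ n • c = l ^ n • c := fun n c hc => by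
    induction n with
    | zero => simp
    | succ n ih =>
      rw [pow_succ', pow_succ', mul_smul, mul_smul, ih, e _ (fx_norm (h.LN (pow_mem hl n)) hc)]
  obtain ⟨m, rfl⟩ := h.exists_hom hl
  have h1 : m ^ 2 ^ (j + 1) = 1 := by
    rw [pow_succ, pow_mul]
    rcases (h.triv_hom (m := m ^ 2 ^ j)).1 (fun c hc => by
      rw [map_pow, ← key _ c hc, hj, one_smul]) with k | k <;> rw [k] <;> simp
  intro c hc
  rw [key _ c hc, ← map_pow]
  exact h.triv_hom.2 (pow_pm h3 hs h1) c hc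

theorem o4 (h3 : Fintype.card F % 4 = 3) {r : G} (hr : r ∈ normalizer X) (h4 : Triv Ω X (r ^ 4))
    (hn : ¬ Triv Ω X (r ^ 2)) :
    (∀ v ∈ normalizer X, Triv Ω X (v * v) → Triv Ω X (v * r * v⁻¹ * r⁻¹) →
      Triv Ω X v ∨ Triv Ω X (v * r ^ 2)) ∧
    (∀ v ∈ normalizer X, Triv Ω X (v * v) → Triv Ω X (v * r ^ 2 * v⁻¹ * (r ^ 2)⁻¹) →
      Triv Ω X v ∨ Triv Ω X (v * r ^ 2) ∨ Triv Ω X (v * r * v⁻¹ * r)) ∧
    ∀ v ∈ normalizer X, Triv Ω X (v * v * (r ^ 2)⁻¹) → Triv Ω X (v * r) ∨ Triv Ω X (v * r⁻¹) := by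
  obtain ⟨d, φ, R⟩ := h.exists_dφ
  have sq1 : ∀ σ : F ≃+* F, σ * σ = 1 → σ = 1 := fun σ e =>
    RingEquiv.ext (H21.NRL.aut_one h3 σ fun c => congrArg (· c) e)
  have tr : ∀ g : normalizer X, Triv Ω X g → φ g = 1 := fun g => h.rl_triv g.2 (R g)
  have rp : ∀ v (hv : v ∈ normalizer X), φ (⟨v, hv⟩ * ⟨v, hv⟩) = 1 → ∃ M, Rp h.ld.rel v M :=
    fun v hv e => h.rp_ex (sq1 _ (map_mul φ _ _ ▸ e) ▸ R ⟨v, hv⟩)
  have r2 : φ (⟨r, hr⟩ * ⟨r, hr⟩) = 1 := sq1 _ (by
    rw [← map_mul]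
    exact tr _ (by rwa [show r ^ 4 = r * r * (r * r) by rw [← sq, ← sq, ← pow_mul]] at h4))
  obtain ⟨M, m⟩ := rp r hr r2
  have k := o4_mat h.cx.two_ne M ((h.rp_triv (m.pow 4)).1 h4) (mt (h.rp_triv (m.pow 2)).2 hn)
  refine ⟨fun v hv e1 e2 => ?_, fun v hv e1 e2 => ?_, fun v hv e => ?_⟩
  · obtain ⟨V, n⟩ := rp v hv (tr _ e1)
    rw [h.rp_triv n, h.rp_triv (n.mul (m.pow 2))]
    exact (k V).1 ((h.rp_triv (n.mul n)).1 e1) ((h.rp_triv (((n.mul m).mul n.inv).mul m.inv)).1 e2)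
  · obtain ⟨V, n⟩ := rp v hv (tr _ e1)
    rw [h.rp_triv n, h.rp_triv (n.mul (m.pow 2)), h.rp_triv (((n.mul m).mul n.inv).mul m)]
    exact (k V).2.1 ((h.rp_triv (n.mul n)).1 e1)
      ((h.rp_triv (((n.mul (m.pow 2)).mul n.inv).mul (m.pow 2).inv)).1 e2)
  · obtain ⟨V, n⟩ := rp v hv (by
      have := tr (⟨v, hv⟩ * ⟨v, hv⟩ * (⟨r, hr⟩ * ⟨r, hr⟩)⁻¹) (by rwa [sq] at e)
      rwa [map_mul, map_inv, r2, inv_one, mul_one] at this)
    rw [h.rp_triv (n.mul m), h.rp_triv (n.mul m.inv)]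
    exact (k V).2.2 ((h.rp_triv ((n.mul n).mul (m.pow 2).inv)).1 e)

theorem slc1 (hz : sl2h x y (-1) ≠ 1) {Q : Subgroup G} (ho : Odd (Q.relIndex (LX U X))) {w : G}
    (hw : w ∈ normalizer X) (h2 : Triv Ω X (w * w)) (hc : ∀ g ∈ Q, w * g = g * w) : Triv Ω X w := by
  have inj := h.hom_inj hz
  rw [← h.range, ← index_comap] at ho
  obtain ⟨d, σ, r⟩ := h.rl_ex hw
  by_cases s : σ = 1
  · subst s
    obtain ⟨M, m⟩ := h.rp_ex r
    refine (h.rp_triv m).2 (by_contra fun n => ?_)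
    have key : ∀ i ∈ Q.comap h.ld.rel.hom, ∃ α β : F, (i : M2 F) = α • 1 + β • (M : M2 F) :=
      fun i hi => span_of_comm n (by
        obtain ⟨i', e⟩ := exists_cj M i
        have := m _ _ e
        rw [hc _ hi, mul_inv_cancel_right] at this
        rw [e, inj this])
    obtain ⟨i, hi, j, hj, e⟩ := q8_le h.odd ho
    obtain ⟨α, β, e1⟩ := key i hi
    obtain ⟨γ, δ, e2⟩ := key j hj
    refine e (Subtype.ext ?_)
    change (i : M2 F) * j = j * i
    rw [e1, e2]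
    simp only [mul_add, add_mul, smul_mul_assoc, mul_smul_comm, one_mul, mul_one]
    module
  · exfalso
    have s2 := h.rl_triv (mul_mem hw hw) (h.rl_mul r r) h2
    obtain ⟨θ, k, hθ, e⟩ := exists_theta2 h.odd
    have θ0 : θ ≠ 0 := by rintro rfl; exact hθ IsSquare.zero
    obtain ⟨g, hg⟩ := two_le ho (isPGroup_zpowers (x := Hm θ θ0) (k := k) (inj (by
      rw [map_pow, hom_H, map_one]
      have : ∀ n : ℕ, sl2h x y θ ^ n = sl2h x y (θ ^ n) := fun n => by
        induction n with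
        | zero => simp [h.ld.rel.h_one]
        | succ n ih => rw [pow_succ, ih, h.ld.rel.h_mul' (pow_ne_zero n θ0) θ0, pow_succ]
      rw [this, e, h.ld.rel.h_one])))
    have hn := hg (conj_mem_cj (mem_zpowers _))
    have tc : ∀ p q : S2 F, ((p * q * p⁻¹ : S2 F) : M2 F).trace = (q : M2 F).trace := fun p q => by
      rw [Matrix.SpecialLinearGroup.coe_mul, Matrix.trace_mul_comm,
        ← Matrix.SpecialLinearGroup.coe_mul, inv_mul_cancel_left]
    have t1 := tc g (Hm θ θ0)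
    generalize g * Hm θ θ0 * g⁻¹ = n at hn t1
    obtain ⟨l, hl, c, hk, hN, e, e0, rfl, s1, -⟩ := r
    obtain ⟨m, rfl⟩ := h.exists_hom hl
    have k1 := conj_hom' h.ld.rel e0 s1 (h.semi_y hk hN s1).2 n
    have k2 : m * dg e e0 (Matrix.SpecialLinearGroup.map (σ : F →+* F) n) * m⁻¹ = n := inj (by
      rw [map_mul, map_mul, map_inv, ← k1, ← mul_inv_eq_iff_eq_mul.2 (hc _ hn)]
      nth_rw 2 [← mul_inv_eq_iff_eq_mul.2 (hc _ hn)]
      group)
    have t2 := tc m (dg e e0 (Matrix.SpecialLinearGroup.map (σ : F →+* F) n))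
    rw [k2] at t2
    refine hθ (sq_of_tr s (fun c => congrArg (· c) s2) θ0 ?_)
    simp [Matrix.trace_fin_two, dg] at t1 t2
    rw [← t1, map_add, ← t2]

theorem slc2 (hz : sl2h x y (-1) ≠ 1) {g : G} (hg : g ∈ LX U X) (e : g * g = sl2h x y (-1)) :
    ∃ l ∈ LX U X, l * g * l⁻¹ = sl2n x y 1 := by
  obtain ⟨m, rfl⟩ := h.exists_hom hg
  obtain ⟨k, hk⟩ := conj_W h.odd (m := m) (h.hom_inj hz (by rw [map_mul, e, hom_neg_one]))
  exact ⟨_, h.hom_mem k, by rw [← map_inv, ← map_mul, ← map_mul, hk, h.ld.rel.hom_W]⟩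

theorem sy1 :
    Nat.card (LX U X) = (Fintype.card F + 1) * Fintype.card F * Nat.card ↥(LX U X ⊓ St G a b) ∧
    (sl2h x y (-1) ≠ 1 → Nat.card ↥(LX U X ⊓ St G a b) = Fintype.card F - 1) ∧
    (sl2h x y (-1) = 1 → 2 * Nat.card ↥(LX U X ⊓ St G a b) = Fintype.card F - 1) ∧
    IsCyclic ↥(LX U X ⊓ St G a b) ∧
    (3 < Fintype.card F → ⁅LX U X, LX U X⁆ = LX U X) ∧
    ∀ g ∈ St G a b, g ∈ normalizer X → (∀ l ∈ LX U X ⊓ St G a b, g * l = l * g) →
      ∃ l : F, l ≠ 0 ∧ ∀ c, g * x c * g⁻¹ = x (l * c) := by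
  classical
  have t := h.cx.two_ne
  let f : Fˣ →* G := MonoidHom.mk' (fun c => sl2h x y (c : F)) fun c d =>
    (h.ld.rel.h_mul' c.ne_zero d.ne_zero).symm
  have fr : f.range = LX U X ⊓ St G a b := le_antisymm
    (by rintro _ ⟨c, rfl⟩; exact ⟨h.h_mem c.ne_zero, h.cx.ha c.ne_zero, h.cx.hb c.ne_zero⟩)
    fun g hg => by
      obtain ⟨c, c0, rfl⟩ := h.cx.st (h.lx.le hg.1) hg.2
      exact ⟨Units.mk0 c c0, rfl⟩
  have pm : ∀ c : F, c ≠ 0 → sl2h x y c = 1 → c = 1 ∨ c = -1 := fun c hc e =>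
    h.cx.pm_of_comm hc (by rw [e, one_mul, mul_one])
  obtain ⟨c1, c2⟩ := card_range f (z := -1)
    (fun e => t (by have := congrArg Units.val e; simp at this; linear_combination -this))
    (by simp) fun m e => (pm m m.ne_zero e).imp Units.ext Units.ext
  obtain ⟨c3, c4⟩ := card_range h.ld.rel.hom (z := -1) (neg_ne t 1).symm (by simp)
    fun m => h.cx.ker
  rw [fr, Nat.card_units, Nat.card_eq_fintype_card (α := F)] at c1 c2
  rw [h.range, H57.card_sl_two, hom_neg_one, show Fintype.card F ^ 2 - 1 =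
    (Fintype.card F + 1) * (Fintype.card F - 1) by simpa using Nat.sq_sub_sq _ 1] at c3 c4
  refine ⟨?_, c1, c2, fr ▸ isCyclic_of_surjective _ f.rangeRestrict_surjective, fun h3 => ?_,
    fun g hg hn hc => ?_⟩
  · by_cases hz : sl2h x y (-1) = 1
    · have := c4 hz
      rw [← c2 hz] at this
      linear_combination (exp := 1) (Nat.eq_of_mul_eq_mul_left two_pos
        (show 2 * Nat.card (LX U X) = 2 * ((Fintype.card F + 1) * Fintype.card F *
          Nat.card ↥(LX U X ⊓ St G a b)) by linear_combination this))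
    · rw [c3 hz, c1 hz]; ring
  · obtain ⟨c, hc⟩ : ∃ c : F, c ∉ ({0, 1, -1} : Finset F) :=
      Finset.exists_mem_notMem_of_card_lt_card (t := Finset.univ)
        (Finset.card_le_three.trans_lt h3) |>.imp fun _ k => k.2
    simp only [Finset.mem_insert, Finset.mem_singleton, not_or] at hc
    rw [← h.range, MonoidHom.range_eq_map, ← map_commutator, ← commutator_def,
      Matrix.SL2.commutator_eq_top hc.1 fun e => (sq_eq_one_iff.1 e).elim hc.2.1 hc.2.2]
  · obtain ⟨l, σ, l0, s1, -, -, s4⟩ := h.semi hg hn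
    suffices k : ∀ c, σ c = c ∨ σ c = -c from ⟨l, l0, fun c => by rw [s1, aut_pm t k]⟩
    intro c
    by_cases c0 : c = 0
    · simp [c0]
    have s0 : σ c ≠ 0 := by simpa using c0
    have e := s4 c c0
    rw [hc (sl2h x y c) (fr.le ⟨Units.mk0 c c0, rfl⟩), mul_inv_cancel_right] at e
    have := pm (σ c * c⁻¹) (by simp [c0]) (by
      rw [← h.ld.rel.h_mul' s0 (inv_ne_zero c0), ← e, h.ld.rel.h_mul' c0 (inv_ne_zero c0),
        mul_inv_cancel₀ c0, h.ld.rel.h_one])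
    exact this.imp (fun k => by field_simp at k; exact k) fun k => by field_simp at k; exact k

end Lx

/-- An element acting as an involution on an elementary abelian group. -/
theorem inv_act' {E : Subgroup G} (h : ∀ e ∈ E, e * e = 1) {g : G} (hg : g ∈ normalizer (E : Set G))
    (h2 : ∀ e ∈ E, g * g * e = e * (g * g)) : ∃ I : Subgroup G, I ≤ E ⊓ centralizer {g} ∧
      Nat.card ↥(E ⊓ centralizer {g}) * Nat.card I = Nat.card E := by
  have cj : ∀ f : E, g * f * g⁻¹ ∈ E := fun f => (mem_normalizer_iff.1 hg f).1 f.2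
  have iv : ∀ f : E, (f : G)⁻¹ = f := fun f => inv_eq_of_mul_eq_one_right (h f f.2)
  let φ : E →* G := MonoidHom.mk' (fun f => f * (g * f * g⁻¹)) fun e f => by
    calc ((e * f : E) : G) * (g * (e * f : E) * g⁻¹) = e * (f * (g * e * g⁻¹)) * (g * f * g⁻¹) := by
          simp only [coe_mul]; group
      _ = _ := by rw [comm_of_sq h f.2 (cj e)]; group
  refine ⟨φ.range, ?_, ?_⟩
  · rintro _ ⟨f, rfl⟩
    refine ⟨mul_mem f.2 (cj f), mem_centralizer_singleton_iff.2 ?_⟩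
    change f * (g * f * g⁻¹) * g = g * (f * (g * f * g⁻¹))
    calc _ = (g * f * g⁻¹) * (f * (g * g)) * g⁻¹ := by rw [comm_of_sq h f.2 (cj f)]; group
      _ = _ := by rw [← h2 f f.2]; group
  · rw [← index_ker, ← φ.ker.card_mul_index, inf_comm, ← subgroupOf_map_subtype,
      card_map_of_injective E.subtype_injective]
    congr 3
    ext f
    change (f : G) ∈ centralizer {g} ↔ (f : G) * (g * f * g⁻¹) = 1
    rw [mem_centralizer_singleton_iff, mul_eq_one_iff_inv_eq, iv, eq_mul_inv_iff_mul_eq]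

theorem an {U : Ω → Subgroup G} (hU : Rg U) {X : Set G} {a b : Ω} {E : Subgroup G} (hab : a ≠ b)
    (hX : X ⊆ St G a b) (D : AD U X a E) {g : G} (hg : g ∈ normalizer X) :
    (∀ e ∈ E, Sw e a b → (g ∈ St G a b ∨ Sw g a b) → g * e = e * g) ∧
      (g ∈ St G a b → Triv Ω X (g * g) → ∀ r, Nat.card ↥(CU U X a ⊓ centralizer {g}) = r →
        Nat.card (CU U X a) = r ∨ Nat.card (CU U X a) = r * (r + 2)) := by
  have P := pa_of hX D
  obtain ⟨-, -, -, f4, -, f6, -⟩ := H72.HKS.kit1.fx hU hab hX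
  have hL : E ≤ LX U X := le_sup_left.trans D.sup.le
  have hn := D.norm hg
  refine ⟨fun e he hs hg => mul_inv_eq_iff_eq_mul.1 ((D.reg a (fx_a hX) b (fx_b hX)).unique
    ⟨(mem_normalizer_iff.1 hn e).1 he, ?_⟩ ⟨he, hs.1⟩), fun hs h2 r hr => ?_⟩
  · rcases hg with hg | hg
    · rw [mul_smul, mul_smul, inv_smul_eq_iff.2 (show a = g • a from hg.1.symm), hs.1]; exact hg.2
    · rw [mul_smul, mul_smul, inv_smul_eq_iff.2 hg.2.symm, hs.2, hg.1]
  have c1 := (kit2.aa hU hab hX D).1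
  have cm : ∀ e ∈ E, g • e • a = e • a → g * e = e * g := fun e he k =>
    mul_inv_eq_iff_eq_mul.1 (inv_mul_eq_one.1 (P.fix _
      (mul_mem (inv_mem he) ((mem_normalizer_iff.1 hn e).1 he)) (by
        rw [mul_smul, mul_smul, mul_smul, inv_smul_eq_iff.2 (show a = g • a from hs.1.symm), k,
          inv_smul_smul]))).symm
  have c2 : Nat.card ↥(E ⊓ centralizer {g}) = Nat.card (CU U (insert g X) a) + 1 :=
    (card_orb P inf_le_left fun c => ⟨fun h => by
      obtain ⟨e, he, rfl⟩ := (D.reg a (fx_a hX) c (mem_ins.1 h).2).exists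
      exact ⟨e, ⟨he, mem_centralizer_singleton_iff.2 (cm e he (mem_ins.1 h).1).symm⟩, rfl⟩,
      fun ⟨e, he, k⟩ => k ▸ mem_ins.2 ⟨fix_of_comm (mem_centralizer_singleton_iff.1 he.2) hs.1,
        fx_smul (f4 (hL he.1)) (fx_a hX)⟩⟩).trans
      (H72.HKS.kit1.fx hU hab (Set.insert_subset hs hX)).2.1
  rw [show CU U (insert g X) a = CU U X a ⊓ centralizer {g} by
    ext u
    simp only [mem_inf, mem_centralizer_iff, Set.forall_mem_insert, Set.mem_singleton_iff, forall_eq]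
    tauto, hr] at c2
  obtain ⟨I, i1, i2⟩ := inv_act' D.sq hn fun e he => f6 _ h2 e (hL he)
  obtain ⟨j, hj⟩ : r ∣ Nat.card (CU U X a) := hr ▸ card_dvd_of_le inf_le_left
  have i4 := card_le_of_le i1
  rw [c2] at i2 i4
  obtain ⟨t, ht⟩ := Nat.exists_eq_add_of_le' (Nat.card_pos (α := I))
  have i5 : t = 0 ∨ t = r := by
    rw [c1, hj, ht] at i2
    have : r ∣ t := (Nat.dvd_add_right (dvd_mul_right r (t + 1))).1 ⟨j, by linear_combination i2⟩
    exact (Nat.eq_zero_or_pos t).imp_right fun h => le_antisymm (by omega) (Nat.le_of_dvd h this)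
  rw [c1, ht] at i2
  exact i5.imp (fun e => by rw [e] at i2; omega) fun e => by rw [e] at i2; linarith

/-- Kit 3. -/
theorem kit3 : Kit3.{u} where
  out hU _ _ _ _ _ _ _ _ := out hU
  ex hU _ _ _ _ hab hX := fun ⟨_, _, _, _, _, L⟩ h3 hs _ =>
    have h := Lx.mk hU hab hX L
    h.ex (h.card ▸ h3) (h.card ▸ hs)
  o4 hU _ _ _ hab hX := fun ⟨_, _, _, _, _, L⟩ h3 _ =>
    have h := Lx.mk hU hab hX L
    h.o4 (h.card ▸ h3)
  slc hU _ _ _ _ _ _ _ _ hab hX L hz :=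
    have h := Lx.mk hU hab hX L
    ⟨fun _ _ ho _ => h.slc1 hz ho, fun _ => h.slc2 hz⟩
  sy1 hU _ _ _ _ _ _ _ _ hab hX L := (Lx.mk hU hab hX L).sy1
  an hU _ _ _ _ hab hX D _ := an hU hab hX D
  quat R z h2 _ _ := quat R z h2
  bur S v w h2 ho _ _ := bur S v w h2 ho
  syl := syl

end H84.K3
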