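import Cfsg.Agent.H84.SGW0
import Cfsg.Agent.H66.SGWB

/-! STD-G: `JobW5`. -/

set_option autoImplicit false
set_option linter.unusedSectionVars false

namespace H84.SG

open H98 Subgroup Cfsg Cfsg.Lie H63 H65 H64 H64.SG H66.SGW

universe u

variable {G : Type u} [Group G] [Finite G]

theorem two_le {H S : Subgroup G} (h : H ≤ S) {s : G} (h1 : s ∈ S) (h2 : s ∉ H) :
    2 * Nat.card H ≤ Nat.card S := by
  rw [card_eq_relIndex_mul H S, inf_eq_right.2 h]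
  refine Nat.mul_le_mul_right _ ?_
  have := (H.subgroupOf S).index_ne_zero_of_finite
  have : H.relIndex S ≠ 1 := fun e => h2 (relIndex_eq_one.1 e h1)
  unfold relIndex at *
  omega

theorem le_two {H S : Subgroup G} (h : ∀ a ∈ S, ∀ b ∈ S, a ∉ H → b ∉ H → a * b ∈ H) :
    Nat.card S ≤ 2 * Nat.card ↥(S ⊓ H) := by
  by_cases h1 : S ≤ H
  · rw [inf_eq_left.2 h1]; omega
  obtain ⟨s, hs, h1⟩ := SetLike.not_le_iff_exists.1 h1
  rw [card_eq_relIndex_mul H S, relIndex_eq_two_iff.2 ⟨s, hs, fun b hb => ?_⟩]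
  by_cases h2 : b ∈ H
  · exact .inr ⟨h2, fun h3 => h1 ((mul_mem_cancel_left h2).1 h3)⟩
  · exact .inl ⟨h b hb s hs h2 h1, h2⟩

theorem conj_cases {d n : G} (h4 : d * d * (d * d) = 1) (h2 : d * d ≠ 1) (hn : n ∈ Ns (zpowers d))
    (h : n ∉ Cz d) : n * d * n⁻¹ = d⁻¹ := by
  obtain ⟨k, hk⟩ := mem_zpowers_iff.1 (conj_mem_of_mem_normalizer hn (mem_zpowers d))
  have h5 : d ^ (4 : ℤ) = 1 := by rw [← h4, show (4 : ℤ) = 2 + 2 from rfl, zpow_add, zpow_two]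
  obtain ⟨j, rfl | rfl⟩ := Int.even_or_odd' k
  · refine absurd (conj_eq_one_iff.1 (?_ : n * (d * d) * n⁻¹ = 1)) h2
    rw [← conj_mul, ← hk, ← zpow_add, show 2 * j + 2 * j = 4 * j by ring, zpow_mul, h5, one_zpow]
  obtain ⟨i, rfl | rfl⟩ := Int.even_or_odd' j
  · rw [show 2 * (2 * i) + 1 = 4 * i + 1 by ring, zpow_add, zpow_mul, h5, one_zpow, one_mul, zpow_one] at hk
    exact absurd (mem_Cz.2 (eq_mul_inv_iff_mul_eq.1 hk)) h
  · rw [← hk, show 2 * (2 * i + 1) + 1 = 4 * (i + 1) + -1 by ring, zpow_add, zpow_mul, h5, one_zpow,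
      one_mul, zpow_neg_one]

theorem cj_zp (g d : G) : cjs g (zpowers d) = zpowers (g * d * g⁻¹) := MonoidHom.map_zpowers _ d

variable {D : ChevalleyDatum} [RS D] [Tab D] [Comm D] {F : Type} [Field F] [Finite F] [CharP F 2]
  {y : ℕ → F → G} {t : G}

/-- The graph and field part together. -/
def lam (T : Ty D F) : MulAut ↥(D.group F) →* Multiplicative (ZMod 2) × RingAut F := T.gr.prod T.fl

theorem lam_conj (T : Ty D F) (α β : MulAut ↥(D.group F)) : lam T (β * α * β⁻¹) = lam T α :=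
  Prod.ext (gr_conj T α β) (fl_conj T α β)

theorem lam_inn (T : Ty D F) (g : ↥(D.group F)) : lam T (MulAut.conj g) = 1 :=
  Prod.ext (fl_inn T g).2 (fl_inn T g).1

theorem lam_one (T : Ty D F) {α : MulAut ↥(D.group F)} (h : lam T α = 1) (h2 : Is2 α) :
    ∃ g, α = MulAut.conj g := T.inn α (congrArg Prod.fst h) (congrArg Prod.snd h) h2

theorem conj_aut {X : Type*} [Group X] (β : MulAut X) (g : X) :
    β * MulAut.conj g * β⁻¹ = MulAut.conj (β g) := by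
  ext x; simp

section

variable (T : Ty D F) (A : FA D F) (E : FD D F) (C : Comp D y) (w : Wr (GG D y) t)
include T A w

/-- A `2`-element of `M₀` that is trivial under `lam` on both factors. -/
theorem dec2 {u : G} (h1 : u ∈ Ns (G12 D y t)) (h2 : u ∈ Ns (GG D y)) (h3 : Is2 u)
    (h4 : lam T (C.ac u) = 1) (h5 : lam T (C.ac (t * u * t⁻¹)) = 1) :
    ∃ a ∈ GG D y, ∃ b ∈ cjs t (GG D y), Is2 a ∧ Is2 b ∧ u = a * b := by
  obtain ⟨g, e⟩ := lam_one T h4 (C.is2_ac h2 h3)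
  obtain ⟨g', e'⟩ := lam_one T h5 (C.is2_ac (w.cj_Ns h1 h2) (h3.conj t))
  obtain ⟨a, a1, -, -, a2, -, rfl, -⟩ := C.exists_split2 A.cen h2 h3 e
  obtain ⟨b, b1, -, -, b2, -, rfl, -⟩ := C.exists_split2 A.cen (w.cj_Ns h1 h2) (h3.conj t) e'
  have h6 := w.dec C.toCov h1 h2 a1 b1 e e'
  have h7 := h6 _ (mul_mem (mem_sup_left a1) (mem_sup_right (conj_mem_cj b1)))
  refine ⟨a, a1, _, conj_mem_cj b1, a2, b2.conj t, (inv_mul_eq_one.1 (w.one_of_C h6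
    ((a2.mul (b2.conj t) (w.cm' a1 b1)).inv.mul h3 ?_))).symm⟩
  rw [mul_inv_cancel_left] at h7
  rw [eq_mul_inv_iff_mul_eq, ← h7]

include E C

/-- The square of a swapping `2`-element commutes with an element of `T ∩ M`. -/
theorem w5_f {e : G} (h1 : e ∈ Ns (G12 D y t)) (h2 : e ∉ Ns (GG D y)) (h3 : e * e * (e * e) = 1) :
    ∃ a ∈ Ns (G12 D y t), IsConj t a ∧ a * (e * e) = e * e * a := by
  obtain ⟨S, s1, s2⟩ := exists_isSyl_le (is2_of_sq w.tt).zpowers (zpowers_le.2 w.t_mem)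
  replace s2 := s2 (mem_zpowers t)
  obtain ⟨m, m1, m2⟩ := s1.exists_cj_le (is2_of_sq_mem (is2_of_sq h3).zpowers (mem_zpowers _)).zpowers
    (zpowers_le.2 h1)
  replace m2 := m2 (conj_mem_cj (mem_zpowers e))
  have m3 : m * e * m⁻¹ ∉ Ns (GG D y) := fun h => h2 (by
    rw [← w.eps_eq_one ⟨e, h1⟩, ← mul_inv_cancel_comm (w.eps ⟨m, m1⟩) (w.eps _), ← map_inv, ← map_mul,
      ← map_mul, w.eps_eq_one]
    exact h)
  suffices ∃ a ∈ Ns (G12 D y t), IsConj t a ∧ a * (m * e * m⁻¹ * (m * e * m⁻¹)) =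
      m * e * m⁻¹ * (m * e * m⁻¹) * a by
    obtain ⟨a, a1, a2, a3⟩ := this
    refine ⟨m⁻¹ * a * m, mul_mem (mul_mem (inv_mem m1) a1) m1, a2.trans (isConj_iff.2 ⟨m⁻¹, by group⟩), ?_⟩
    calc _ = m⁻¹ * (a * (m * e * m⁻¹ * (m * e * m⁻¹))) * m := by group
      _ = _ := by rw [a3]; group
  replace h3 : m * e * m⁻¹ * (m * e * m⁻¹) * (m * e * m⁻¹ * (m * e * m⁻¹)) = 1 := by
    rw [conj_mul, conj_mul, h3]; group
  generalize m * e * m⁻¹ = c at m2 m3 h3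
  have c1 := s1.le m2
  have f1 := w.mul_Ns c1 c1 m3 m3
  have f2 := w.cj_Ns (mul_mem c1 c1) f1
  have f3 := w.mt_Ns c1 m3
  have f4 : C.ac (c * t) * C.ac (t * (c * c) * t⁻¹) * (C.ac (c * t))⁻¹ = C.ac (c * c) := by
    rw [← C.ac_conj f3 f2, show c * t * (t * (c * c) * t⁻¹) * (c * t)⁻¹ =
      c * (t * (t * (c * c) * t⁻¹) * t⁻¹) * c⁻¹ by group, w.cc]
    congr 1; group
  obtain ⟨g, hg⟩ := lam_one T (α := C.ac (c * c * (t * (c * c) * t⁻¹)⁻¹)) (by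
      rw [C.ac_mul _ f1 _ (inv_mem f2), C.ac_inv f2, map_mul, ← f4, lam_conj, map_inv, mul_inv_cancel])
    (C.is2_ac (mul_mem f1 (inv_mem f2)) (isPGroup_iff_is2.1 s1.isPGroup _ (mul_mem (mul_mem m2 m2)
      (inv_mem (mul_mem (mul_mem s2 (mul_mem m2 m2)) (inv_mem s2))))))
  obtain ⟨g, hg⟩ := E.inv (C.ac (t * (c * c) * t⁻¹)) (C.ac (c * t))
    (by rw [← C.ac_mul _ f2 _ f2, conj_mul, h3, mul_one, mul_inv_cancel, C.ac_one])
    ⟨g, by rw [f4, ← hg, C.ac_mul _ f1 _ (inv_mem f2), C.ac_inv f2, inv_mul_cancel_right]⟩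
  obtain ⟨l, l1, rfl⟩ := C.surj g
  have l2 := le_normalizer l1
  have l3 := w.B_Cs (conj_mem_cj l1)
  have l4 := Wr.B_le (conj_mem_cj (g := t) l1)
  rw [f4, ← C.ac_of_mem l1, ← C.ac_conj l2 f2] at hg
  obtain ⟨f, hf⟩ : ∃ f, f = t * l * t⁻¹ * (c * c) * (t * l * t⁻¹)⁻¹ := ⟨_, rfl⟩
  have g1 : f ∈ Ns (G12 D y t) := hf ▸ mul_mem (mul_mem l4 (mul_mem c1 c1)) (inv_mem l4)
  have g2 : f ∈ Ns (GG D y) := hf ▸ mul_mem (mul_mem (Cs_le_Ns _ l3) f1) (inv_mem (Cs_le_Ns _ l3))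
  have g3 := w.cj_Ns g1 g2
  have g4 : f * f = 1 := by rw [hf, conj_mul, h3]; group
  have g5 : C.ac (t * f * t⁻¹) = C.ac f := by
    nth_rewrite 2 [hf]
    rw [C.ac_conj (Cs_le_Ns _ l3) f1, C.ac_of_Cs l3, one_mul, inv_one, mul_one, hg, hf]
    nth_rewrite 3 4 [← w.cc l]
    congr 1; group
  obtain ⟨j, hj⟩ := w.odd_C (k := f * (t * f * t⁻¹)) (w.mem_C'.2 ⟨C.ac_ker _ (mul_mem g2 g3) (by
    rw [C.ac_mul _ g2 _ g3, g5, ← C.ac_mul _ g2 _ g2, g4, C.ac_one]), by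
    rw [← conj_mul, w.cc]
    exact C.ac_ker _ (mul_mem g3 g2) (by rw [C.ac_mul _ g3 _ g2, g5, ← C.ac_mul _ g2 _ g2, g4, C.ac_one])⟩)
  have g6 : (f * t) ^ (2 * j + 1) * (f * t) ^ (2 * j + 1) = 1 := by
    rw [← sq, ← pow_mul, mul_comm, pow_mul, ← hj, sq, w.ti, mul_assoc f t, ← mul_assoc t, pow_orderOf_eq_one]
  have g7 := H9.UF.dih g4 w.tt j
  have g8 := H9.UF.dih_inv g4 w.tt (2 * j + 1)
  rw [inv_eq_of_mul_eq_one_right g6, mul_inv_eq_iff_eq_mul] at g8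
  have g9 := pow_mem (mul_mem g1 w.t_mem) j
  refine ⟨(t * l * t⁻¹)⁻¹ * (((f * t) ^ j)⁻¹ * t * (f * t) ^ j) * (t * l * t⁻¹),
    mul_mem (mul_mem (inv_mem l4) (mul_mem (mul_mem (inv_mem g9) w.t_mem) g9)) l4,
    isConj_iff.2 ⟨(t * l * t⁻¹)⁻¹ * ((f * t) ^ j)⁻¹, by group⟩, ?_⟩
  rw [g7]
  generalize (f * t) ^ (2 * j + 1) = r at g8
  calc _ = (t * l * t⁻¹)⁻¹ * (f * (r * f)) * (t * l * t⁻¹) := by nth_rewrite 3 [hf]; group
    _ = _ := by rw [← g8]; nth_rewrite 1 [hf]; group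

/-- Every value of `lam` on `C(t)` is taken on `C(a, v)`. -/
theorem w5_corr {a v p : G} (a1 : a ∈ Ns (G12 D y t)) (a2 : a ∉ Ns (GG D y)) (w' : Wr (GG D y) a)
    (e : cjs a (GG D y) = cjs t (GG D y)) (v1 : v ∈ GG D y) (v2 : v * v = 1) (p1 : p ∈ Ns (G12 D y t))
    (p2 : p ∈ Ns (GG D y)) (p3 : t * p = p * t) :
    ∃ q ∈ Ns (G12 D y t) ⊓ Ns (GG D y) ⊓ (Cz a ⊓ Cz v), lam T (C.ac q) = lam T (C.ac p) := by
  have b1 := w.mt_Ns a1 a2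
  have key : ∀ b ∈ Ns (GG D y), lam T (C.ac (b * p * b⁻¹ * p⁻¹)) = 1 := fun b hb => by
    rw [C.ac_mul _ (mul_mem (mul_mem hb p2) (inv_mem hb)) _ (inv_mem p2), C.ac_conj hb p2, C.ac_inv p2,
      map_mul, lam_conj, map_inv, mul_inv_cancel]
  have c0 : a * (p * a * p⁻¹) = a * t * p * (a * t)⁻¹ * p⁻¹ := by
    rw [mul_assoc a t, p3]
    nth_rewrite 2 [← w'.ti]
    group
  have c1 : a * (p * a * p⁻¹) ∈ Ns (G12 D y t) := mul_mem a1 (mul_mem (mul_mem p1 a1) (inv_mem p1))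
  have c2 : a * (p * a * p⁻¹) ∈ Ns (GG D y) :=
    c0 ▸ mul_mem (mul_mem (mul_mem b1 p2) (inv_mem b1)) (inv_mem p2)
  have c3 : ∀ n, lam T (C.ac ((a * (p * a * p⁻¹)) ^ n)) = 1 := fun n => by
    rw [C.ac_pow c2, map_pow, c0, key _ b1, one_pow]
  have c4 : p * a * p⁻¹ * (p * a * p⁻¹) = 1 := by rw [conj_mul, w'.tt]; group
  obtain ⟨r, hr⟩ := H9.UF.exists_odd (a * (p * a * p⁻¹))
  obtain ⟨l, l1, k, k1, l2, k2, e1⟩ := dec2 T A C w (pow_mem c1 _) (pow_mem c2 _)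
    (isPGroup_iff_is2.1 hr _ (mem_zpowers _)) (c3 _) (by
      rw [← conj_pow, C.ac_pow (w.cj_Ns c1 c2), map_pow, c0,
        show t * (a * t * p * (a * t)⁻¹ * p⁻¹) * t⁻¹ = t * (a * t) * t⁻¹ * (t * p * t⁻¹) *
          (t * (a * t) * t⁻¹)⁻¹ * (t * p * t⁻¹)⁻¹ by group, p3, mul_inv_cancel_right p,
        key _ (w.cj_Ns (mul_mem a1 w.t_mem) b1), one_pow])
  have e2 := H9.UF.dih w'.tt c4 r
  have e3 := H9.UF.dih_inv w'.tt c4 (2 * r + 1)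
  rw [e1] at e2 e3
  have e4 := w.split (w.swap' a1 a2 k1) (inv_mem l1) (w.swap a1 a2 l1) (inv_mem k1) (k2.conj a) l2.inv
    (by rw [conj_mul, ← w.cm l1 k1, e3, w.cm l1 k1, mul_inv_rev])
  have m1 := pow_mem c1 r
  have m2 := pow_mem c2 r
  have m3 := c3 r
  generalize (a * (p * a * p⁻¹)) ^ r = m at e2 m1 m2 m3
  have n1 : l * m⁻¹ * p ∈ Ns (GG D y) := mul_mem (mul_mem (le_normalizer l1) (inv_mem m2)) p2
  have n2 : l * m⁻¹ * p ∈ Cz a := mem_Cz.2 (by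
    calc _ = l * (a * k * a⁻¹) * a * (l * m⁻¹ * p) := by rw [e4]; group
      _ = l * (a * (k * l)) * m⁻¹ * p := by group
      _ = _ := by rw [← w.cm l1 k1, ← e2]; group)
  obtain ⟨g, hg⟩ := E.inv (MulAut.conj (C.pi v)) (C.ac (l * m⁻¹ * p))
    (by rw [← map_mul, ← C.pi_mul _ v1 _ v1, v2, C.pi_one, map_one])
    ⟨C.ac (l * m⁻¹ * p) (C.pi v) * (C.pi v)⁻¹, by rw [conj_aut, ← map_mul, inv_mul_cancel_right]⟩
  obtain ⟨n, n3, rfl⟩ := C.surj g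
  rw [conj_aut, conj_aut, ← mul_inv_eq_one, ← map_inv, ← map_mul] at hg
  have d1 : H66.SGW.dg a n ∈ G12 D y t := by rw [G12, ← e]; exact Wr.dg_mem n3
  have d2 : C.ac ((H66.SGW.dg a n)⁻¹ * (l * m⁻¹ * p)) = (MulAut.conj (C.pi n))⁻¹ * C.ac (l * m⁻¹ * p) := by
    rw [C.ac_mul _ (inv_mem (w.AB_Ns d1)) _ n1, C.ac_inv (w.AB_Ns d1), C.ac_mul _ (le_normalizer n3) _
      (w'.B_Ns (conj_mem_cj n3)), C.ac_of_Cs (w'.B_Cs (conj_mem_cj n3)), mul_one, C.ac_of_mem n3]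
  have d3 := mul_mem (inv_mem (w.AB_Ns d1)) n1
  refine ⟨_, mem_inf.2 ⟨mem_inf.2 ⟨mul_mem (inv_mem (le_normalizer d1))
    (mul_mem (mul_mem (Wr.A_le l1) (inv_mem m1)) p1), d3⟩, mem_inf.2 ⟨mul_mem (inv_mem (mem_Cz.2 (w'.dg_t n3)))
    n2, mem_Cz.2 (C.comm_of_ac d3 v1 (is2_of_sq v2) ?_).symm⟩⟩, ?_⟩
  · rw [d2, MulAut.mul_apply, mul_inv_eq_one.1 (A.cen _ hg)]
    simp [mul_assoc]
  · rw [d2, C.ac_mul _ (mul_mem (le_normalizer l1) (inv_mem m2)) _ p2,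
      C.ac_mul _ (le_normalizer l1) _ (inv_mem m2), C.ac_inv m2, C.ac_of_mem l1]
    simp only [map_mul, map_inv, lam_inn, m3, inv_one, one_mul]

/-- A `2`-subgroup of `C(t, v)` is not larger than a Sylow subgroup of `C(a, v)`. -/
theorem w5_card {a v : G} (a1 : a ∈ Ns (G12 D y t)) (a2 : a ∉ Ns (GG D y)) (w' : Wr (GG D y) a)
    (e : cjs a (GG D y) = cjs t (GG D y)) (v1 : v ∈ GG D y) (v2 : v * v = 1) {Q : Subgroup G}
    (q1 : Q ≤ Ns (G12 D y t) ⊓ Ns (GG D y) ⊓ (Cz t ⊓ Cz v)) (q2 : IsPGroup 2 Q) :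
    ∃ Q' ≤ Ns (G12 D y t) ⊓ Ns (GG D y) ⊓ (Cz a ⊓ Cz v), IsPGroup 2 Q' ∧ Nat.card Q ≤ Nat.card Q' := by
  have := C.finite_X
  obtain ⟨Q', q3⟩ := exists_isSyl 2 (Ns (G12 D y t) ⊓ Ns (GG D y) ⊓ (Cz a ⊓ Cz v))
  refine ⟨Q', q3.le, q3.isPGroup, ?_⟩
  have n1 : Ns (G12 D y t) ⊓ Ns (GG D y) ⊓ (Cz a ⊓ Cz v) ≤ Ns (GG D y) := inf_le_left.trans inf_le_right
  have q4 := (q3.subgroupOf n1).map C.acH
  have fx : ∀ {n}, n ∈ Ns (GG D y) → n ∈ Cz v → C.ac n ∈ MulAction.stabilizer _ (C.pi v) :=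
    fun h1 h2 => C.ac_of_comm h1 v1 (mem_Cz.1 h2).symm
  obtain ⟨S, s1, s2⟩ := exists_isSyl_le q4.isPGroup (q4.le.trans (le_inf (le_comap_map (lam T) _) (by
    rintro _ ⟨n, hn, rfl⟩
    exact fx n.2 hn.2.2 : _ ≤ MulAction.stabilizer _ (C.pi v))))
  have s3 := (q4.map (lam T)).eq_of_le (s1.isPGroup.map _) (map_mono s2)
    (map_le_iff_le_comap.2 (s1.le.trans inf_le_left))
  have s4 := q4.eq_of_le s1.isPGroup s2 fun s hs => by
    obtain ⟨s', s5, s6⟩ := s3.le (mem_map_of_mem _ hs)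
    have s7 := mul_mem (inv_mem (s2 s5)) hs
    obtain ⟨g, hg⟩ := lam_one T (by rw [map_mul, map_inv, s6, inv_mul_cancel])
      (isPGroup_iff_is2.1 s1.isPGroup _ s7)
    obtain ⟨n, n3, rfl⟩ := C.surj g
    have d1 : H66.SGW.dg a n ∈ G12 D y t := by rw [G12, ← e]; exact Wr.dg_mem n3
    have d2 : C.ac (H66.SGW.dg a n) = s'⁻¹ * s := by
      rw [C.ac_mul _ (le_normalizer n3) _ (w'.B_Ns (conj_mem_cj n3)),
        C.ac_of_Cs (w'.B_Cs (conj_mem_cj n3)), mul_one, C.ac_of_mem n3, hg]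
    exact (mul_mem_cancel_left (inv_mem (q4.le s5))).1 ⟨⟨_, w.AB_Ns d1⟩, ⟨⟨le_normalizer d1, w.AB_Ns d1⟩,
      mem_Cz.2 (w'.dg_t n3), mem_Cz.2 (C.comm_of_ac (w.AB_Ns d1) v1 (is2_of_sq v2)
        (d2 ▸ (s1.le s7).2)).symm⟩, d2⟩
  have n2 : Q ≤ Ns (GG D y) := q1.trans (inf_le_left.trans inf_le_right)
  let f := C.acH.comp (inclusion n2)
  calc Nat.card Q = Nat.card f.range := by
        rw [← index_ker, show f.ker = ⊥ from eq_bot_iff.2 fun g hg => Subtype.ext (w.one_of_C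
          (w.mem_C'.2 ⟨C.ac_ker _ (n2 g.2) hg, by
            rw [mem_Cz.1 (q1 g.2).2.1, mul_inv_cancel_right]; exact C.ac_ker _ (n2 g.2) hg⟩)
          (isPGroup_iff_is2.1 q2 _ g.2)), index_bot]
    _ ≤ Nat.card S := s1.card_le (q2.of_surjective _ f.rangeRestrict_surjective) (by
        rintro _ ⟨g, rfl⟩
        obtain ⟨q, r1, r2⟩ := w5_corr T A E C w a1 a2 w' e v1 v2 (q1 g.2).1.1 (n2 g.2)
          (mem_Cz.1 (q1 g.2).2.1)
        exact ⟨⟨_, ⟨⟨q, n1 r1⟩, r1, rfl⟩, r2⟩, fx (n2 g.2) (q1 g.2).2.2⟩)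
    _ ≤ _ := by
        rw [s4, ← Nat.card_congr (subgroupOfEquivOfLe (q3.le.trans n1)).toEquiv]
        exact Nat.le_of_dvd Nat.card_pos (card_map_dvd _ _)

end

theorem jobW5 (hTy : JobTy) (hFA : JobFA) (hFD : JobFD) : JobW5.{u} := by
  intro D _ _ _ hD F _ _ _ G _ _ F₀ x t y C W P B uf v v1 ⟨v2, v3⟩ hN g g1 g2
  obtain ⟨T⟩ := hTy D hD F
  have A := hFA D hD F
  have E := hFD D hD F
  have w := wr_of W P B
  have vi := inv_eq_of_mul_eq_one_right v2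
  have d0 : v * t * (v * t) = v * (t * v * t⁻¹) := by rw [w.ti]; group
  have u1 := conj_mem_cj (g := t) v1
  have u2 : t * v * t⁻¹ * (t * v * t⁻¹) = 1 := by rw [conj_mul, v2]; group
  have u3 := w.cm v1 u1
  have d1 : v * t * (v * t) * (v * t * (v * t)) = 1 := by
    rw [d0, mul_assoc, ← mul_assoc _ v, ← u3, mul_assoc v, u2, mul_one, v2]
  have d2 : v * t * (v * t) ≠ 1 := fun e => v3 (w.eq_one v1 (by
    rw [eq_inv_of_mul_eq_one_left (d0.symm.trans e)]; exact inv_mem u1) (is2_of_sq v2))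
  have d3 : t * (v * t) * t⁻¹ = (v * t)⁻¹ := by rw [mul_inv_rev, vi, w.ti, mul_assoc, mul_assoc, w.tt, mul_one]
  have K := (H9.UF.jobK2 uf (IsConj.refl t) uf.mem).2
  obtain ⟨a, a1, a2, a3⟩ := w5_f T A E W.toComp w g1 g2 (by rw [conj_mul, conj_mul, d1]; group)
  obtain ⟨m, m1, n, n1, rfl⟩ := K (zpowers (v * t * (v * t))) g a (H9.UF.mem_nor_zp (by
    rw [← conj_mul, d3, mul_inv_rev (v * t)])) a2 a1 (by
    rw [cj_zp, ← conj_mul]; exact Cs_le_Ns _ (mem_Cs_zpowers.2 a3.symm))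
  refine mul_mem m1 ?_
  have e1 : n * (v * t) * n⁻¹ ∈ Ns (G12 D y t) := by
    simpa [mul_assoc] using mul_mem (mul_mem (inv_mem m1) g1) m1
  have e2 : n * (v * t) * n⁻¹ ∉ Ns (GG D y) := fun h => g2 (by
    rw [← w.eps_eq_one ⟨_, e1⟩, ← mul_inv_cancel_comm (w.eps ⟨m, m1⟩) (w.eps _), ← map_inv, ← map_mul,
      ← map_mul, w.eps_eq_one] at h
    simpa [mul_assoc] using h)
  have e3 : n * (v * t) * n⁻¹ * (n * (v * t) * n⁻¹) = v * (t * v * t⁻¹) := by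
    rw [conj_mul, ← d0]
    rcases eq_of_cyclic inferInstance (mem_zpowers _) (conj_mem_of_mem_normalizer n1 (mem_zpowers _))
      ⟨d1, d2⟩ (by rw [conj_mul, d1]; group) with h | h
    exacts [absurd (conj_eq_one_iff.1 h) d2, h]
  obtain ⟨c, hc⟩ : ∃ c, c = n * (v * t) * n⁻¹ := ⟨_, rfl⟩
  rw [← hc] at e1 e2 e3
  have e4 : c * (t * v * t⁻¹) * c⁻¹ = v := w.split (w.swap' e1 e2 u1) v1 (w.swap e1 e2 v1) u1
    ((is2_of_sq u2).conj c) (is2_of_sq v2) (by rw [conj_mul, ← u3, ← e3]; group)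
  have e5 : c * v * c⁻¹ = t * v * t⁻¹ := mul_left_cancel (a := v) (by
    nth_rewrite 1 [← e4]
    rw [conj_mul, ← u3, ← e3]; group)
  have b1 : v * c ∈ Ns (G12 D y t) := mul_mem (Wr.A_le v1) e1
  have b2 : v * c ∉ Ns (GG D y) := by rwa [mul_mem_cancel_left (le_normalizer v1)]
  have b3 : v * c * (v * c) = 1 := by
    calc _ = v * (c * v * c⁻¹) * (c * c) := by group
      _ = _ := by rw [e5, e3, ← d0, d1]
  have b4 : cjs (v * c) (GG D y) = cjs t (GG D y) := (WC.swap W B w.tt b1 b2).1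
  have w' : Wr (GG D y) (v * c) := ⟨b3, b4 ▸ w.comm, b4 ▸ w.odd, b2, fun m hm => by
    rw [b4] at hm
    exact (em _).imp_right fun h => w.mul_Ns hm b1 h b2⟩
  obtain ⟨S, s1, s2⟩ := exists_isSyl_le (is2_of_sq w.tt).zpowers (zpowers_le.2 (H9.UF.mem_nor_zp d3))
  have s3 := s1.le.trans hN
  obtain ⟨Q, q1, q2, q3⟩ := w5_card T A E W.toComp w b1 b2 w' b4 v1 v2
    (Q := S ⊓ Ns (GG D y) ⊓ Cz (v * t)) (fun s ⟨⟨r1, r2⟩, r3⟩ => by
      have r4 := w.fix (s3 r1) r2 v1 u1 (is2_of_sq v2) (by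
        rw [← d0]; exact ((show Commute (v * t) s from mem_Cz.1 r3).mul_left (mem_Cz.1 r3)).eq)
      exact ⟨⟨s3 r1, r2⟩, mem_Cz.2 (mul_left_cancel (a := v) (by
        rw [← mul_assoc, mem_Cz.1 r3, ← mul_assoc, ← mul_assoc, r4])), mem_Cz.2 r4⟩)
    (s1.isPGroup.to_le (inf_le_left.trans inf_le_left))
  have k1 := le_two (S := S) (H := Ns (GG D y)) fun a ha b hb => w.mul_Ns (s3 ha) (s3 hb)
  have k2 := le_two (S := S ⊓ Ns (GG D y)) (H := Cz (v * t)) fun a ha b hb h1 h2 => mem_Cz.2 (by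
    rw [eq_comm, ← mul_inv_eq_iff_eq_mul, show a * b * (v * t) * (a * b)⁻¹ =
      a * (b * (v * t) * b⁻¹) * a⁻¹ by group, conj_cases d1 d2 (s1.le hb.1) h2, ← conj_inv,
      conj_cases d1 d2 (s1.le ha.1) h1, inv_inv])
  have b5 : v * c * v * (v * c)⁻¹ = t * v * t⁻¹ := by
    rw [show v * c * v * (v * c)⁻¹ = v * (c * v * c⁻¹) * v⁻¹ by group, e5, u3, mul_inv_cancel_right]
  have q4 : ∀ s, (∀ q ∈ Q, s * q = q * s) → s ∈ Cs Q := fun s h q hq => (h q hq).symm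
  have q5 : v ∈ Cs Q := q4 v fun q hq => mem_Cz.1 (q1 hq).2.2
  have q6 : v * c ∈ Cs Q := q4 _ fun q hq => mem_Cz.1 (q1 hq).2.1
  have q7 : c ∈ Cs Q := (mul_mem_cancel_left q5).1 q6
  have c2 : Is2 c := hc ▸ (is2_of_sq_mem (is2_of_sq d1).zpowers (mem_zpowers _)).conj n
  have c3 : v * c * v⁻¹ = c⁻¹ := by rw [vi, eq_inv_iff_mul_eq_one, mul_assoc, b3]
  have p1 := isPGroup_sup_zpowers q2 (Cs_le_Ns _ q7) c2
  have c4 := H9.UF.mem_nor_zp c3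
  have p2 := isPGroup_sup_zpowers p1 (normalizer_inf_normalizer_le_normalizer_sup _ _
    ⟨Cs_le_Ns _ q5, c4⟩) (is2_of_sq v2)
  have p3 := two_le (le_sup_left : Q ≤ Q ⊔ zpowers v) (mem_sup_right (mem_zpowers v)) fun h =>
    v3 (w.eq_one v1 (by rwa [← b5, ← q6 v h, mul_inv_cancel_right] at u1) (is2_of_sq v2))
  have p4 := two_le (sup_le_sup_right (le_sup_left : Q ≤ Q ⊔ zpowers c) (zpowers v))
    (mem_sup_left (mem_sup_right (mem_zpowers c))) fun h => e2 ((sup_le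
      (q1.trans (inf_le_left.trans inf_le_right)) (zpowers_le.2 (le_normalizer v1)) : _ ≤ Ns (GG D y)) h)
  have p5 : Q ⊔ zpowers c ⊔ zpowers v ≤ Ns (cjs n (zpowers (v * t))) := by
    rw [cj_zp, ← hc]
    exact sup_le (sup_le (fun q hq => Cs_le_Ns _ (mem_Cs_zpowers.2 (q7 q hq).symm)) le_normalizer)
      (zpowers_le.2 c4)
  have s4 := s1.cj n
  rw [cj_normalizer] at s4
  obtain ⟨k, -, k3⟩ := (s4.of_card_ge p2 p5 (by rw [card_cj]; omega)).exists_cj_le s4.isPGroup s4.le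
  have k4 := k3 (conj_mem_cj (conj_mem_cj (s2 (mem_zpowers t))))
  obtain ⟨m', m2, n', n2, rfl⟩ := K (zpowers (v * t)) n _ (H9.UF.mem_nor_zp d3)
    (isConj_iff.2 ⟨k * n, by group⟩) ((sup_le (sup_le (q1.trans (inf_le_left.trans inf_le_left))
      (zpowers_le.2 e1)) (zpowers_le.2 (Wr.A_le v1)) : _ ≤ Ns (G12 D y t)) k4) (p5 k4)
  exact mul_mem m2 (hN n2)

end H84.SG
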