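/- STD-F4, slot SUP: Bruhat decomposition and supports in the top five root groups of `E₆(K)`. -/
import Cfsg.Agent.H64.SFMod
import Cfsg.Agent.H26.SGFR
import Cfsg.Agent.H26.SGFB

set_option autoImplicit false
set_option linter.unusedSectionVars false
set_option synthInstance.maxSize 4000

namespace H84.SfSup

open Subgroup H98 Cfsg Cfsg.Lie H63 H64 H65 H64.SG
open H26.SGB (Up)
open H46.SF (yE yE_short yE_long yE_left yE_right o1 o2 sh)
open H64.SF (QE Sup JobSup)

section gen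

variable {D : ChevalleyDatum} [RS D]

/-- `mem_WJ_of_fix` for an element permuting the listed roots. -/
theorem mem_WJ_of_perm {J : Set (Fin D.rank)} {w : (H64.wdata D).W} (A : List (Rt D × ℤ))
    (hw : (A.map fun a => (w.1 a.1, a.2)).Perm A)
    (h0 : ∀ i : Fin D.rank, 0 ≤ (A.map fun a => a.2 * D.cartan i a.1).sum)
    (h1 : ∀ i : Fin D.rank, i ∉ J → (A.map fun a => a.2 * D.cartan i a.1).sum ≠ 0) :
    w ∈ (H64.wdata D).WJ J := by
  have e : ∀ s : Rt D, (A.map fun a => a.2 * D.pairing s a.1).sum =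
      ∑ i : Fin D.rank, co D s i * (A.map fun a => a.2 * D.cartan i a.1).sum := fun s => by
    clear hw h0 h1
    induction A with
    | nil => simp
    | cons a A ih =>
      rw [List.map_cons, List.sum_cons, ih, pairing_eq, Finset.mul_sum, ← Finset.sum_add_distrib]
      exact Finset.sum_congr rfl fun i _ => by simp; ring
  refine WData.mem_WJ_of_Inv_subset _ w fun s hs => H64.mem_PhiJ_iff.2 fun i hi => ?_
  have e1 : (A.map fun a => a.2 * D.pairing (w.1 s) a.1).sum =
      (A.map fun a => a.2 * D.pairing s a.1).sum := by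
    rw [← (hw.map fun a => a.2 * D.pairing (w.1 s) a.1).sum_eq, List.map_map]
    exact congrArg _ (List.map_congr_left fun a _ => by
      simp only [Function.comp]; rw [pairing_apply w.2 s a.1])
  have p1 : ∀ i ∈ (Finset.univ : Finset (Fin D.rank)),
      0 ≤ co D s i.1 * (A.map fun a => a.2 * D.cartan i.1 a.1).sum :=
    fun (i : Fin D.rank) _ => mul_nonneg ((co_nonneg_iff s i).2 (hs.1 i)) (h0 i)
  rw [e, e] at e1
  have p2 := e1 ▸ Finset.sum_nonpos fun (i : Fin D.rank) _ => mul_nonpos_of_nonpos_of_nonneg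
    ((co_nonpos_iff (w.1 s) i).2 (not_pos_iff.1 hs.2 i)) (h0 i)
  have := (Finset.sum_eq_zero_iff_of_nonneg p1).1 (le_antisymm p2 (Finset.sum_nonneg p1)) i
    (Finset.mem_univ _)
  exact (co_eq_zero_iff s i).1 ((mul_eq_zero.1 this).resolve_right (h1 i hi))

theorem up_ht {k : ℤ} (hk : 1 ≤ k) : Up {r : Rt D | k ≤ ht r} :=
  fun _ hr => ⟨pos_iff_ht.2 (by have : k ≤ _ := hr; omega), fun _ h => le_trans hr h.le⟩

variable {F : Type*} [Field F] {G : Type*} [Group G] {x : ℕ → F → G}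

theorem U_conj_prod (h : StB D x) {k : ℤ} (hk : 1 ≤ k) (t : Rt D → F) {u : G} (hu : u ∈ UU D x)
    (L : List (Rt D)) (hL : ∀ r ∈ L, ht r = k) : ∃ z ∈ gen (XR D x) {r : Rt D | k + 1 ≤ ht r},
      u * (L.map fun r : Rt D => x r (t r)).prod * u⁻¹ = (L.map fun r : Rt D => x r (t r)).prod * z := by
  have hS := up_ht (D := D) (k := k + 1) (by omega)
  induction L with
  | nil => exact ⟨1, one_mem _, by simp⟩
  | cons r L ih =>
    obtain ⟨z, hz, e⟩ := ih fun s hs => hL s (List.mem_cons_of_mem _ hs)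
    have h1 := hS.comm h (r := r) (pos_iff_ht.2 (by have := hL r List.mem_cons_self; omega))
      (fun s hs => by have := hL r List.mem_cons_self; change k + 1 ≤ ht s; omega) (t r) hu
    have h2 : (L.map fun r : Rt D => x r (t r)).prod ∈ UU D x := list_prod_mem fun y hy => by
      obtain ⟨s, hs, rfl⟩ := List.mem_map.1 hy
      exact x_mem_gen (S := {r | Pos r})
        (pos_iff_ht.2 (by have := hL s (List.mem_cons_of_mem _ hs); omega)) _
    refine ⟨_, mul_mem (hS.conj h.toSt (inv_mem h2) h1) hz, ?_⟩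
    rw [List.map_cons, List.prod_cons]
    generalize (L.map fun r : Rt D => x r (t r)).prod = v at *
    calc _ = u * x r (t r) * u⁻¹ * (u * v * u⁻¹) := by group
      _ = _ := by rw [e]; group

/-- The Weyl part of `g` maps the leading support of `v` into the support of `g v g⁻¹`. -/
theorem supp (h : StB D x) {S : Set (Rt D)} (hS : Up S) {k : ℤ} (hk : 1 ≤ k) {L : List (Rt D)}
    (hnd : L.Nodup) (hL : ∀ r ∈ L, ht r = k) {t : Rt D → F} {b m u : G} (hb : b ∈ h.rgd.B)
    {w : (H64.wdata D).W} (hw : h.rgd.Act m w) (hu : u ∈ h.rgd.U)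
    (e : b * m * u * (L.map fun r : Rt D => x r (t r)).prod * (b * m * u)⁻¹ ∈ gen (XR D x) S)
    {r : Rt D} (hr : r ∈ L) (ht0 : t r ≠ 0) : w.1 r ∈ S := by
  classical
  obtain ⟨z, hz, e1⟩ := U_conj_prod h hk t hu L hL
  have hM : ∀ a, a ∈ (Set.toFinite {a : Rt D | k + 1 ≤ ht a}).toFinset.toList ↔ k + 1 ≤ ht a := by
    simp
  obtain ⟨y, hy, rfl⟩ := ((up_ht (D := D) (k := k + 1) (by omega)).closed h).exists_prod _
    (Finset.nodup_toList _) hM hz
  generalize hM' : (Set.toFinite {a : Rt D | k + 1 ≤ ht a}).toFinset.toList = M at *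
  have hMn : M.Nodup := hM' ▸ Finset.nodup_toList _
  have hd : ∀ a ∈ M, a ∉ L := fun a ha h1 => by have := (hM a).1 ha; have := hL a h1; omega
  refine act_mem_of_conj h.rgd (hS.closed h).commUp (fun r hr => (hS r hr).1) (L := L ++ M)
    (List.nodup_append.2 ⟨hnd, hMn, fun a ha b hb e => hd b hb (e ▸ ha)⟩)
    (fun a ha => pos_iff_ht.2 ?_) (y := fun a => if a ∈ L then x a (t a) else y a) (fun a => ?_) hw ?_
    (List.mem_append_left _ hr) ?_
  · rcases List.mem_append.1 ha with ha | ha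
    · have := hL a ha; omega
    · have := (hM a).1 ha; omega
  · split_ifs
    exacts [x_mem_XR D x a _, hy a]
  · rw [List.map_append, List.prod_append, List.map_congr_left (l := L) fun a ha => if_pos ha,
      List.map_congr_left (l := M) fun a ha => if_neg (hd a ha), ← e1]
    obtain ⟨c, hc, u', hu', e2⟩ := h.rgd.mem_B'.1 (inv_mem hb)
    have := h.rgd.h_conj_gen hc (hS.conj h.toSt hu' e)
    convert this using 1
    rw [show b = (c * u')⁻¹ by rw [← e2, inv_inv]]
    group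
  · rw [if_pos hr]
    exact fun e => ht0 (h.eq_zero_of_x_eq_one r e)

theorem bruhat (h : Ad D x) (g : G) : ∃ w b m u, b ∈ h.toStB.rgd.B ∧ h.toStB.rgd.Act m w ∧
    u ∈ h.toStB.rgd.U ∧ g = b * m * u ∧ h.toStB.rgd.Cell w g := by
  obtain ⟨w, hc⟩ := h.toStB.rgd.exists_cell (h.Gp_eq ▸ mem_top g)
  obtain ⟨m, hm, hmw⟩ := h.toStB.rgd.exists_mem_N_act w
  obtain ⟨b, hb, u, hu, e⟩ := hc.normal_form hm hmw
  exact ⟨w, b, m, u, hb, hmw, RGD.gen_Inv_le_U _ w hu, e, hc⟩

/-- Conjugation between root groups is linear. -/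
theorem lin_root [CharP F 2] (hD : ET D) (h : Ad D x) {τ : (Fin D.rank → Fˣ) →* G}
    (hτ : H46.TorOK D x τ) {r s : Rt D} {g : G} {a a' : F} (e : g * x r a * g⁻¹ = x s a') (l : F) :
    g * x r (l * a) * g⁻¹ = x s (l * a') := by
  have z := h.toSt.x_zero
  by_cases ha : a = 0
  · rw [ha, z, mul_one, mul_inv_cancel] at e
    rw [ha, h.toStB.eq_zero_of_x_eq_one s e.symm, mul_zero, z, z, mul_one, mul_inv_cancel]
  have ha' : a' ≠ 0 := by
    rintro rfl
    rw [z, mul_inv_eq_one, mul_eq_left] at e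
    exact ha (h.toStB.eq_zero_of_x_eq_one r e)
  obtain ⟨w, rfl⟩ := hD.exists_W r s
  obtain ⟨n, -, hn⟩ := exists_mv h.toStN w
  obtain ⟨v, hv⟩ := hD.exists_pairing r (a := 1) (by simp)
  have hk := h.toStN.hh_conj v r (div_ne_zero ha ha')
  rw [hD.pairing_comm, hv, zpow_one] at hk
  generalize hh D x v (a / a') = k at hk
  have h1 : k * n⁻¹ * g ∈ Cz (x r a) := mem_Cz.2 (by
    have := hk a'
    rw [div_mul_cancel₀ _ ha'] at this
    rw [← hn] at e
    calc _ = k * x r a' * k⁻¹ * (k * n⁻¹ * g) := by rw [this]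
      _ = k * n⁻¹ * (n * x r a' * n⁻¹) * g := by group
      _ = _ := by rw [← e]; group)
  rw [H26.SG.cz hD h hτ r ha] at h1
  have h2 := mem_Cz.1 (H26.SG.P0_le_Cz hD h.toSt r (l * a) h1)
  have h3 := hk (l * a')
  rw [show a / a' * (l * a') = l * a by field_simp] at h3
  rw [← hn]
  calc _ = n * k⁻¹ * (k * n⁻¹ * g * x r (l * a)) * g⁻¹ := by group
    _ = n * k⁻¹ * x r (l * a) * k * n⁻¹ := by rw [← h2]; group
    _ = _ := by rw [← h3]; group

end gen

section e6

abbrev R (r : ℕ) (h : r < 72 := by decide) : Rt chevE6 := ⟨r, h⟩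

theorem et : ET chevE6 := Or.inl rfl

/-- The height, computed. -/
def hc (r : ℕ) : ℤ := ∑ i : Fin chevE6.rank, co chevE6 r i

theorem ht_eq (r : Rt chevE6) : ht r = hc r := Finset.sum_congr rfl fun i _ => et.rt_eq r i

theorem t_ht : ∀ r < 72, (8 ≤ hc r ↔ r ∈ [66, 68, 69, 70, 71]) ∧ (9 ≤ hc r ↔ r ∈ [69, 70, 71]) ∧
    (10 ≤ hc r ↔ r ∈ [70, 71]) ∧ (11 ≤ hc r ↔ r = 71) := by decide +kernel

theorem t_hv : hc 66 = 8 ∧ hc 68 = 8 ∧ hc 69 = 9 ∧ hc 70 = 10 ∧ hc 71 = 11 := by decide +kernel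

theorem t_orth : ∀ r ∈ [66, 68, 69, 70, 71], ∀ s ∈ [66, 68, 69, 70, 71], chevE6.pairing r s = 0 →
    r = 66 ∧ s = 68 ∨ r = 68 ∧ s = 66 := by decide +kernel

theorem t_Q : ∀ s < 72, (∀ i : Fin chevE6.rank, 0 ≤ co chevE6 s i) →
    (co chevE6 s 0 = 0 ∧ co chevE6 s 5 = 0) ∨
      (0 ≤ chevE6.pairing 66 s ∧ 0 ≤ chevE6.pairing 68 s) := by decide +kernel

variable {K : Type} [Field K] [CharP K 2]

local notation "X" => xG chevE6 K

variable (K) in
/-- The root group datum of `E₆(K)`. -/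
noncomputable abbrev T := (ad chevE6 K).toStB.rgd

theorem y44 (a b : K) : yE K 44 a b = X 66 a * X 68 b := yE_short (by decide +kernel) a b
theorem y45 (a b : K) : yE K 45 a b = X 69 a := yE_long (by decide +kernel) a b
theorem y46 (a b : K) : yE K 46 a b = X 70 a := yE_long (by decide +kernel) a b
theorem y47 (a b : K) : yE K 47 a b = X 71 a := yE_long (by decide +kernel) a b

/-- The set of the nodes of `D₄`. -/
abbrev J4 : Set (Fin chevE6.rank) := {i | (i : ℕ) ≠ 0 ∧ (i : ℕ) ≠ 5}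

theorem up2 {c : Rt chevE6} (hc : ht c = 8) : Up {r : Rt chevE6 | r = c ∨ 9 ≤ ht r} := by
  rintro r (rfl | hr)
  · exact ⟨pos_iff_ht.2 (by omega), fun s h => Or.inr (by omega)⟩
  · exact ⟨pos_iff_ht.2 (by omega), fun s h => Or.inr (by omega)⟩

theorem pair {S : Set (Rt chevE6)} (hS : Up S) (h8 : ∀ r ∈ S, 8 ≤ ht r) {a b : K} (hab : a * b ≠ 0)
    {c m u : chevE6.group K} (hb : c ∈ (T K).B) {w : (H64.wdata chevE6).W} (hw : (T K).Act m w)
    (hu : u ∈ (T K).U) (e : c * m * u * yE K 44 a b * (c * m * u)⁻¹ ∈ gen (XR chevE6 X) S) :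
    R 66 ∈ S ∧ R 68 ∈ S ∧ [w.1 (R 66), w.1 (R 68)].Perm [R 66, R 68] := by
  have key := fun r => supp (ad chevE6 K).toStB hS (k := 8) (by omega) (L := [R 66, R 68])
    (by decide) (by simp [ht_eq, t_hv]) (t := fun r => if r = R 66 then a else b) hb hw hu
    (by rw [y44] at e; simpa [show R 68 ≠ R 66 by decide] using e) (r := r)
  have h1 := key (R 66) (by simp) (by simpa using left_ne_zero_of_mul hab)
  have h2 := key (R 68) (by simp) (by simpa [show R 68 ≠ R 66 by decide] using right_ne_zero_of_mul hab)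
  have h3 := t_orth _ ((t_ht _ (w.1 _).2).1.1 (ht_eq _ ▸ h8 _ h1)) _
    ((t_ht _ (w.1 _).2).1.1 (ht_eq _ ▸ h8 _ h2)) ((W_pairing w _ _).trans (by decide +kernel))
  rcases h3 with ⟨e1, e2⟩ | ⟨e1, e2⟩
  · rw [show w.1 (R 66) = R 66 from Fin.ext e1] at h1 ⊢
    rw [show w.1 (R 68) = R 68 from Fin.ext e2] at h2 ⊢
    exact ⟨h1, h2, .refl _⟩
  · rw [show w.1 (R 66) = R 68 from Fin.ext e1] at h1 ⊢
    rw [show w.1 (R 68) = R 66 from Fin.ext e2] at h2 ⊢
    exact ⟨h2, h1, .swap ..⟩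

theorem y44_mem (a b : K) : yE K 44 a b ∈ gen (XR chevE6 X) {r : Rt chevE6 | 8 ≤ ht r} := by
  rw [y44]
  exact mul_mem (x_mem_gen (r := R 66) (by simp [ht_eq, t_hv]) _)
    (x_mem_gen (r := R 68) (by simp [ht_eq, t_hv]) _)

theorem par' {g : chevE6.group K} {a b a' b' : K} (hab : a * b ≠ 0)
    (e : g * yE K 44 a b * g⁻¹ = yE K 44 a' b') : a' * b' ≠ 0 ∧ g ∈ (T K).PJ J4 := by
  obtain ⟨w, c, m, u, hb, hw, hu, rfl, hc⟩ := bruhat (ad chevE6 K) g
  refine ⟨fun h0 => ?_, (T K).mem_PJ_iff.2 ⟨w, ?_, hc⟩⟩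
  · rcases mul_eq_zero.1 h0 with rfl | rfl
    · rw [yE_right (by decide +kernel)] at e
      have := (pair (up2 (c := R 68) (by simp [ht_eq, t_hv]))
        (by rintro r (rfl | h); simp [ht_eq, t_hv]; omega)
        hab hb hw hu (by rw [e]; exact x_mem_gen (r := R 68) (by exact Or.inl rfl) _)).1
      simp [ht_eq, t_hv, Fin.ext_iff] at this
    · rw [yE_left] at e
      have := (pair (up2 (c := R 66) (by simp [ht_eq, t_hv]))
        (by rintro r (rfl | h); simp [ht_eq, t_hv]; omega)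
        hab hb hw hu (by rw [e]; exact x_mem_gen (r := R 66) (by exact Or.inl rfl) _)).2.1
      simp [ht_eq, t_hv, Fin.ext_iff] at this
  · have := (pair (up_ht (k := 8) (by omega)) (fun _ h => h) hab hb hw hu (e ▸ y44_mem a' b')).2.2
    exact mem_WJ_of_perm [(R 66, 1), (R 68, 1)] (this.map fun r => (r, (1 : ℤ)))
      (by decide +kernel) (by simp only [J4, Set.mem_ofPred_eq]; decide +kernel)

theorem Q_comm {q : chevE6.group K} (hq : q ∈ (T K).UJ J4) (a b : K) :
    q * yE K 44 a b * q⁻¹ = yE K 44 a b := by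
  have h := (ad chevE6 K).toSt
  have : (T K).UJ J4 ≤ Cz (yE K 44 a b) := SG.gen_le_iff.2 fun s hs t => by
    rcases t_Q s s.2 (fun i => et.rt_eq s i ▸ hs.1 i) with h1 | h1
    · refine absurd (H64.mem_PhiJ_iff.2 fun i hi => ?_) hs.2
      rw [et.rt_eq]
      rcases not_and_or.1 hi with h2 | h2 <;> rw [not_not.1 h2]
      exacts [h1.1, h1.2]
    · rw [mem_Cz, y44]
      exact (Commute.mul_left (et.comm_of_nonneg h (r := R 66) h1.1 a t)
        (et.comm_of_nonneg h (r := R 68) h1.2 b t)).eq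
  rw [← mem_Cz.1 (this hq), mul_inv_cancel_right]

theorem lin44 {g : chevE6.group K} {a b a' b' : K} (hab : a * b ≠ 0)
    (e : g * yE K 44 a b * g⁻¹ = yE K 44 a' b') (l : K) :
    g * yE K 44 (l * a) (l * b) * g⁻¹ = yE K 44 (l * a') (l * b') := by
  classical
  by_cases hl : l = 0
  · simp [hl, H46.SF.yE_zero]
  have h := ad chevE6 K
  have hg := (par' hab e).2
  rw [← (T K).UJ_sup_LJ, sup_comm] at hg
  obtain ⟨p, hp, q, hq, rfl⟩ := (mem_sup_left_norm ((T K).LJ_le_normalizer_UJ J4)).1 hg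
  obtain ⟨k, hk, v, hv, rfl⟩ := (mem_sup_left_norm ((T K).H_le_normalizer_gen _)).1 hp
  obtain ⟨d, hd⟩ := HH_chr h.toStN (inv_mem hk)
  have e1 : ∀ a b, k⁻¹ * yE K 44 a b * k⁻¹⁻¹ =
      yE K 44 (chr chevE6 d 66 * a) (chr chevE6 d 68 * b) := fun a b => by
    rw [y44, y44, ← hd (R 66), ← hd (R 68)]; group
  set c : Fin chevE6.rank → Kˣ := Pi.mulSingle ⟨0, by decide⟩ (Units.mk0 l hl) with hc
  have c1 : ∀ s : Rt chevE6, chr chevE6 c s = Units.mk0 l hl ^ co chevE6 s 0 := fun s => by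
    rw [chr_val, Finset.prod_eq_single ⟨0, by decide⟩ (fun i _ hi => by
      rw [hc, Pi.mulSingle_eq_of_ne hi, one_zpow]) (by simp), hc, Pi.mulSingle_eq_same, et.rt_eq]
  have d1 : ∀ a b, diagAut chevE6 c (yE K 44 a b) = yE K 44 (l * a) (l * b) := fun a b => by
    rw [y44, y44, map_mul, diagAut_xG, diagAut_xG, c1 (R 66), c1 (R 68),
      show co chevE6 (R 66) 0 = 1 by decide +kernel, show co chevE6 (R 68) 0 = 1 by decide +kernel]
    simp
  have d2 : diagAut chevE6 c v = v := by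
    refine (SG.gen_le_iff (K := (diagAut chevE6 c).toMonoidHom.eqLocus (MonoidHom.id _))).2
      (fun s hs t => ?_) hv
    have := H64.mem_PhiJ_iff.1 hs ⟨0, by decide⟩ (by simp)
    rw [et.rt_eq] at this
    change diagAut chevE6 c _ = X s t
    rw [diagAut_xG, c1, this, zpow_zero, Units.val_one, one_mul]
  have e2 : v * yE K 44 a b * v⁻¹ = yE K 44 (chr chevE6 d 66 * a') (chr chevE6 d 68 * b') := by
    rw [← e1, ← e, ← Q_comm hq a b, Q_comm hq a b]
    nth_rewrite 1 [← Q_comm hq a b]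
    group
  have e3 := congrArg (diagAut chevE6 c) e2
  rw [map_mul, map_mul, map_inv, d2, d1, d1, mul_left_comm l, mul_left_comm l, ← e1] at e3
  calc _ = k * (v * (q * yE K 44 (l * a) (l * b) * q⁻¹) * v⁻¹) * k⁻¹ := by group
    _ = _ := by rw [Q_comm hq, e3]; group

theorem y44_root {a b : K} (hab : a * b = 0) :
    ∃ (r : Rt chevE6) (c : K), ∀ l, yE K 44 (l * a) (l * b) = X r (l * c) := by
  rcases mul_eq_zero.1 hab with rfl | rfl
  · exact ⟨R 68, b, fun l => by rw [mul_zero]; exact yE_right (by decide +kernel) _⟩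
  · exact ⟨R 66, a, fun l => by rw [mul_zero]; exact yE_left _ _⟩

theorem one_root {r : Rt chevE6} {k : ℤ} (hr : ht r = k) (hk : 1 ≤ k) {a a' : K} (ha : a ≠ 0)
    {c m u : chevE6.group K} (hb : c ∈ (T K).B) {w : (H64.wdata chevE6).W} (hw : (T K).Act m w)
    (hu : u ∈ (T K).U) (e : c * m * u * X r a * (c * m * u)⁻¹ = X r a') : k ≤ hc (w.1 r) := by
  have := supp (ad chevE6 K).toStB (up_ht hk) hk (L := [r]) (by simp) (by simpa) (t := fun _ => a)
    hb hw hu (by simpa [-mul_inv_rev, e] using x_mem_gen (r := r) (S := {r | k ≤ ht r}) hr.ge a')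
    (r := r) (by simp) ha
  rwa [← ht_eq]

theorem jobSup : JobSup := fun K _ _ _ => by
  have h := ad chevE6 K
  have hτ := H67.torOK_xG (D := chevE6) (k := K)
  refine ⟨fun r hr g a b a' b' e l => ?_, fun g a b a' b' hab e =>
    ⟨(par' hab e).1, (T K).PJ_le_normalizer_UJ J4 (par' hab e).2⟩, fun g hg => ?_⟩
  · simp only [List.mem_cons, List.not_mem_nil, or_false] at hr
    rcases hr with rfl | rfl | rfl | rfl
    · by_cases hab : a * b = 0
      · have hab' : a' * b' = 0 := by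
          by_contra h1
          exact (par' (g := g⁻¹) (a' := a) (b' := b) h1 (by rw [← e]; group)).1 hab
        obtain ⟨r, c, h1⟩ := y44_root hab
        obtain ⟨s, c', h2⟩ := y44_root hab'
        rw [h1, h2]
        refine lin_root et h hτ ?_ l
        have h3 := h1 1
        have h4 := h2 1
        simp only [one_mul] at h3 h4
        rw [← h3, ← h4, e]
      · exact lin44 hab e l
    · rw [y45, y45] at e ⊢; exact lin_root et h hτ (r := R 69) (s := R 69) e l
    · rw [y46, y46] at e ⊢; exact lin_root et h hτ (r := R 70) (s := R 70) e l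
    · rw [y47, y47] at e ⊢; exact lin_root et h hτ (r := R 71) (s := R 71) e l
  · obtain ⟨w, c, m, u, hb, hw, hu, rfl, hc⟩ := bruhat h g
    obtain ⟨a, b, a', b', hab, e⟩ := hg 44 (by simp)
    have h1 := (pair (up_ht (k := 8) (by omega)) (fun _ h => h) hab hb hw hu
      (e ▸ y44_mem a' b')).2.2
    obtain ⟨a, b, a', b', hab, e⟩ := hg 45 (by simp)
    rw [y45, y45] at e
    have h2 := (t_ht _ (w.1 _).2).2.1.1 (one_root (r := R 69) ((ht_eq _).trans t_hv.2.2.1) (by omega)
      (left_ne_zero_of_mul hab) hb hw hu e)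
    obtain ⟨a, b, a', b', hab, e⟩ := hg 46 (by simp)
    rw [y46, y46] at e
    have h3 := (t_ht _ (w.1 _).2).2.2.1.1 (one_root (r := R 70) ((ht_eq _).trans t_hv.2.2.2.1)
      (by omega) (left_ne_zero_of_mul hab) hb hw hu e)
    obtain ⟨a, b, a', b', hab, e⟩ := hg 47 (by simp)
    rw [y47, y47] at e
    have h4 : w.1 (R 71) = R 71 := Fin.ext ((t_ht _ (w.1 _).2).2.2.2.1 (one_root (r := R 71)
      ((ht_eq _).trans t_hv.2.2.2.2) (by omega) (left_ne_zero_of_mul hab) hb hw hu e))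
    simp only [List.mem_cons, List.not_mem_nil, or_false] at h2 h3
    have h5 : w.1 (R 70) = R 70 := Fin.ext (h3.resolve_right fun e =>
      absurd (w.1.injective ((Fin.ext e).trans h4.symm)) (by decide))
    have h6 : w.1 (R 69) = R 69 := Fin.ext (h2.resolve_right fun e => e.elim
      (fun e => absurd (w.1.injective ((Fin.ext e).trans h5.symm)) (by decide))
      fun e => absurd (w.1.injective ((Fin.ext e).trans h4.symm)) (by decide))
    have h7 : w ∈ (H64.wdata chevE6).WJ ∅ :=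
      mem_WJ_of_perm [(R 69, 1), (R 70, 2), (R 71, 3), (R 66, 1), (R 68, 1)] (by
        simp only [List.map_cons, List.map_nil, h4, h5, h6]
        exact (((h1.map fun r => (r, (1 : ℤ))).cons _).cons _).cons _)
        (by decide +kernel) fun i _ => by clear * -; revert i; decide +kernel
    have := (T K).mem_PJ_iff.2 ⟨w, h7, hc⟩
    rwa [RGD.PJ_empty] at this

end e6

end H84.SfSup
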