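import Cfsg.Agent.H84.SfX4

/-! STD-F4 job `MX`: with a mirror family, the short family is not of type `E₆`. -/

set_option autoImplicit false
set_option linter.unusedSectionVars false
set_option synthInstance.maxSize 2000

namespace H84.SX

open Subgroup H64.SF
open H64.SG (Cz Cs mem_Cz)
open H67.SA (cm cm_eq_one)
open H46.SF (sh)
open H86.WR (XF US)
open H68 (rhoF4)
open H84.SP (inv_cm cm_swap conj_cm)

universe u

variable {F : Type} [Field F] [Finite F] [CharP F 2] {G : Type u} [Group G] {e e' : XF F →* G} {t : G}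
  {R R' : Type} [CommRing R] [CommRing R'] {ι : F →+* R} {ι' : F →+* R'} {σ : RingAut R}
  {σ' : RingAut R'} {η : R} {η' : R'} {y : ℕ → R → G} {y' : ℕ → R' → G} {k k' : Bool} {r s l : ℕ}
  {θ : MulAut G}

theorem tr_eta (Y : SY e θ k ι σ η y) : ι 1 = η + σ η := by
  rw [Y.rg.eta, ← add_assoc, two_eq Y, zero_add, map_one]

theorem c90_eta (Y : SY e θ true ι σ η y) (hr : S r) (hs : S s) (h : ip r s = 0) (d : F) :
    cm (y r η) (e (x F s d)) = e (x F (ad r s) d) := by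
  have := Y.c90 r s hr hs h η (ι d) d (by
    rw [(Y.rg.fix (ι d)).2 ⟨d, rfl⟩, ← add_mul, ← tr_eta Y, map_one, one_mul])
  rwa [Y.yx s hs] at this

theorem mx_true (h : CH e t) (m : Mir e e') (Y : TY e θ ι σ η y) (Y' : SY e' θ true ι' σ' η' y')
    (cr : Cr y y' 4) : False := by
  have s44 : S 44 := by decide +kernel
  have s29 : S 29 := by decide +kernel
  obtain ⟨d0, h0⟩ := Mir.sur m (r := 6) (by decide) (1 : F)
  obtain ⟨φ, ψ, -, -, m2, -⟩ := m.ex
  have d1 : d0 ≠ 0 := fun d1 => by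
    rw [d1, x_zero (by decide), map_one, ← e.map_one] at h0
    exact one_ne_zero ((x_eq_one (by decide)).1 (h.inj h0))
  have h1 := c90_eta Y' s44 (s := 18) (by decide +kernel) (by decide +kernel) d0
  rw [show ad 44 18 = 41 by decide +kernel, m2 41 (by decide +kernel),
    show rhoF4 41 = 29 from rfl, show (18 : ℕ) = rhoF4 6 from rfl, ← h0] at h1
  obtain ⟨n, hn⟩ := (Y.rg.fix (η * σ η)).1 (by rw [map_mul, Y.rg.ss, mul_comm])
  have h2 := Y.cl 44 6 s44 (by decide +kernel) (by decide +kernel) η 1 n hn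
  rw [show ad 44 6 = 29 by decide +kernel, show ad 44 29 = 47 by decide +kernel] at h2
  have c1 : Commute (y 44 η) (y' 44 η') := cr 44 47 s44 (by decide +kernel) (by decide +kernel) η η'
  have c2 : ∀ a, Commute (y 29 a) (y' 44 η') := fun a =>
    cr 29 47 s29 (by decide +kernel) (by decide +kernel) a η'
  have c3 : Commute (e (x F 47 (1 * n))) (y' 44 η') := by
    obtain ⟨d, hd⟩ := Mir.sur m (r := 47) (by decide) (1 * n)
    exact hd ▸ (Y'.cp 44 s44 44 (by decide +kernel) η' d).symm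
  have c4 : Commute (y 29 (η * ι 1) * e (x F 47 (1 * n))) ((e (x F 29 (ψ d0)))⁻¹ * y' 44 η') :=
    Commute.mul_left (Commute.mul_right (Commute.inv_right (Y.cp 29 s29 29 (by decide +kernel) _ _))
      (c2 _)) (Commute.mul_right (Commute.map (c0' 47 29 _ _) e).inv_right c3)
  have c5 : Commute ((y 29 (η * ι 1) * e (x F 47 (1 * n)))⁻¹ * y 44 η)
      ((e (x F 29 (ψ d0)))⁻¹ * y' 44 η') := by
    have := c1.map (MulAut.conj (e (x F 6 1)))
    rw [MulAut.conj_apply, MulAut.conj_apply] at this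
    rw [← h1, ← h2]
    convert this using 1 <;> rw [cm] <;> group
  have c7 := c4.mul_left c5
  rw [mul_inv_cancel_left] at c7
  have c6 := (c7.mul_right c1.inv_right).inv_right
  rw [mul_inv_cancel_right, inv_inv] at c6
  have h3 := c90_eta Y.toSY s44 s29 (by decide +kernel) (ψ d0)
  rw [cm_eq_one.2 c6.eq, ← e.map_one] at h3
  exact d1 ((map_eq_zero ψ).1 ((x_eq_one (by decide +kernel)).1 (h.inj h3).symm))

theorem mx_false (c : FC F) (h : CH e t) (m : Mir e e') (Y : SY e (MulAut.conj t) true ι σ η y)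
    (Y' : SY e' (MulAut.conj t) false ι' σ' η' y') : False := by
  have s44 : S 44 := by decide +kernel
  have s29 : S 29 := by decide +kernel
  obtain ⟨φ, ψ, -, m1, -, -⟩ := m.ex
  have a1 := y_t Y h.inv.1 s44 (tr_eta Y)
  have b1 := y_t Y' h.inv.1 s29 (tr_eta Y')
  have b2 := y_t Y' h.inv.1 s44 (tr_eta Y')
  rw [m1 29 s29, map_one, show rhoF4 29 = 41 from rfl] at b1
  rw [m1 44 s44, map_one, show rhoF4 44 = 47 from rfl] at b2
  have cb : ∀ r, S r → ∀ u < 48, rhoF4 u ∈ lP r → ∀ f, Commute (y' r η') (e (x F u f)) :=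
    fun r hr u hu h1 f => by
      obtain ⟨d, hd⟩ := Mir.sur m hu f
      exact hd ▸ y_cP Y' rfl hr h1 η' d
  have cw : ∀ u < 48, rhoF4 u ∈ lP 29 → rhoF4 u ∈ lP 44 → 0 ≤ ip 29 u → ∀ f,
      Commute (y' 29 η' * y' 44 η' * (e (x F 29 1) * y' 29 η' * (e (x F 29 1))⁻¹)) (e (x F u f)) :=
    fun u hu h1 h2 h3 f =>
      have := Commute.map (x_c0 s29.1 hu h3 1 f) e
      ((cb 29 s29 u hu h1 f).mul_left (cb 44 s44 u hu h2 f)).mul_left
        ((this.mul_left (cb 29 s29 u hu h1 f)).mul_left this.inv_left)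
  have sq : ∀ r < 48, e (x F r 1) * e (x F r 1) = 1 := fun r hr => by rw [← map_mul, x_sq hr, map_one]
  have p1 : e (x F 29 1) * t = t * e (x F 29 1) := h.cen _ ⟨_, rfl⟩
  have p2 : e (x F 29 1) * e (x F 41 1) * (e (x F 29 1))⁻¹ =
      e (x F 47 1) * (e (x F 44 1) * e (x F 41 1)) := by
    have := c2' 29 41 44 47 (1 : F) 1
    rw [one_pow, mul_one, c0' 44 47] at this
    rw [← mul_assoc, ← map_mul e (x F 47 1), ← this, cm]
    simp
  have c1 := fun u f (hu : u < 48 ∧ rhoF4 u ∈ lP 44) => cb 44 s44 u hu.1 hu.2 f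
  have c2 := fun u f (hu : u < 48 ∧ rhoF4 u ∈ lP 29) => cb 29 s29 u hu.1 hu.2 f
  have cw28 := cw 28 (by decide) (by decide +kernel) (by decide +kernel) (by decide +kernel) 1
  have w1 : y' 29 η' * y' 44 η' * (e (x F 29 1) * y' 29 η' * (e (x F 29 1))⁻¹) * t *
      (y' 29 η' * y' 44 η' * (e (x F 29 1) * y' 29 η' * (e (x F 29 1))⁻¹))⁻¹ = t * e (x F 44 1) := by
    calc _ = y' 29 η' * y' 44 η' * (e (x F 29 1) * (y' 29 η' * ((e (x F 29 1))⁻¹ * (t * e (x F 29 1))) *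
          (y' 29 η')⁻¹) * (e (x F 29 1))⁻¹) * (y' 44 η')⁻¹ * (y' 29 η')⁻¹ := by group
      _ = y' 29 η' * y' 44 η' * ((e (x F 29 1) * t) * (e (x F 29 1))⁻¹ *
          (e (x F 29 1) * e (x F 41 1) * (e (x F 29 1))⁻¹)) * (y' 44 η')⁻¹ * (y' 29 η')⁻¹ := by
        rw [← p1, inv_mul_cancel_left, b1]; group
      _ = y' 29 η' * ((y' 44 η' * t * (y' 44 η')⁻¹) * (y' 44 η' *
          (e (x F 47 1) * (e (x F 44 1) * e (x F 41 1))) * (y' 44 η')⁻¹)) * (y' 29 η')⁻¹ := by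
        rw [p1, p2]; group
      _ = y' 29 η' * t * (y' 29 η')⁻¹ * (y' 29 η' * (e (x F 44 1) * e (x F 41 1)) * (y' 29 η')⁻¹) := by
        rw [b2, ((c1 47 1 (by decide +kernel)).mul_right ((c1 44 1 (by decide +kernel)).mul_right
          (c1 41 1 (by decide +kernel)))).eq, mul_inv_cancel_right, mul_assoc t,
          ← mul_assoc (e (x F 47 1)), sq 47 (by decide)]; group
      _ = _ := by
        rw [b1, ((c2 44 1 (by decide +kernel)).mul_right (c2 41 1 (by decide +kernel))).eq,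
          mul_inv_cancel_right, (Commute.map (c0' 44 41 (1 : F) 1) e).eq, mul_assoc t,
          ← mul_assoc (e (x F 41 1)), sq 41 (by decide), one_mul]
  generalize y' 29 η' * y' 44 η' * (e (x F 29 1) * y' 29 η' * (e (x F 29 1))⁻¹) = w at cw cw28 w1
  obtain ⟨ζ, hζ, h2⟩ := h.ca c.cB (g := (y 44 η)⁻¹ * w) (mem_Cz.2 (by
      calc t * ((y 44 η)⁻¹ * w) = (y 44 η)⁻¹ * (y 44 η * t * (y 44 η)⁻¹) * w := by group
        _ = _ := by rw [a1, ← w1]; group)) fun u hu f => by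
    obtain ⟨k1, k2, k3, k4, k5⟩ := (by decide +kernel : ∀ u ∈ [17, 22, 25, 30, 36, 38, 39, 40, 42, 43,
      45, 46, 47], u < 48 ∧ rhoF4 u ∈ lP 29 ∧ rhoF4 u ∈ lP 44 ∧ 0 ≤ ip 29 u ∧ u ∈ lY 44) u hu
    exact (Commute.inv_left (Y.cp 44 s44 u k5 η f)).mul_left (cw u k1 k2 k3 k4 f)
  have c3 : Commute (e ζ) (e (x F 28 1)) := Commute.map (mem_Cz.1 (US_le (K := Cz (x F 28 1))
    (fun r hr h1 a => mem_Cz.2 (x_c0 (by decide) h1
      ((by decide +kernel : ∀ r ∈ [29, 41, 44, 47], 0 ≤ ip 28 r) r hr) 1 a)) hζ)).symm e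
  have c4 : Commute ((y 44 η)⁻¹ * w) (e (x F 28 1)) := by
    rcases h2 with h2 | h2 <;> rw [h2]
    exacts [c3, Commute.mul_left (h.cen _ ⟨_, rfl⟩).symm c3]
  have c5 := (c4.mul_left cw28.inv_left).inv_left
  rw [mul_inv_cancel_right, inv_inv] at c5
  have h3 := c90_eta Y s44 (s := 28) (by decide +kernel) (by decide +kernel) (1 : F)
  rw [cm_eq_one.2 c5.eq, ← e.map_one] at h3
  exact one_ne_zero ((x_eq_one (by decide +kernel)).1 (h.inj h3).symm)

theorem jobMX (hFC : JobFC) (hTL : JobTL.{u}) : JobMX.{u} := by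
  intro F _ _ _ G _ _ e t R _ ι σ η y e' R' _ ι' σ' η' y' k k' h m Y Y' cr
  cases k
  · rfl
  cases k'
  · exact (mx_false (hFC F) h m Y Y').elim
  · exact (mx_true h m ((hTL F G e t R ι σ η y).1 _ Y) Y' cr).elim

end H84.SX
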