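import Cfsg.Agent.H84.SfPb
import Cfsg.Agent.H86.F4Kit
import Cfsg.Agent.H59.SOInd

/-! STD-F4 job `P2b`, part 3: the relations in `F₄(F)`, the Weyl group, the job. -/

set_option autoImplicit false
set_option linter.unusedSectionVars false

namespace H84.SP

open Subgroup H64.SF Cfsg.Lie H63 H64
open H64.SG (Cz Cs Ns cjs mem_Cz)
open H67.SA (cm)
open H46.SF (sh)
open H86.WR (XF US)
open H86.F4 (R stB GS_le x_mem)
open H59.SO (exists_ind ind_conj_iff)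

universe u

theorem vc_inj : ∀ r < 48, ∀ s < 48, vc r = vc s → r = s := by decide +kernel

theorem sh_eq : ∀ r < 48, sh r = decide (ip r r = 4) ∧ ip r r ≠ 0 := by decide +kernel

theorem rf_facts : ∀ s < 48, ∀ r < 48, rf s r < 48 ∧ 2 * ip r s / ip s s * ip s s = 2 * ip r s ∧
    rf s (rf s r) = r := by decide +kernel

theorem findIdx_range {p : ℕ → Bool} {n : ℕ} (h : (List.range n).findIdx p < n) :
    p ((List.range n).findIdx p) = true := by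
  have := List.findIdx_getElem (xs := List.range n) (p := p) (w := by simpa using h)
  rwa [List.getElem_range] at this

theorem lc_spec {a b : ℤ} {r s : ℕ} (h : lc a r b s < 48) : vc (lc a r b s) =
    (a * (vc r).1 + b * (vc s).1, a * (vc r).2.1 + b * (vc s).2.1,
      a * (vc r).2.2.1 + b * (vc s).2.2.1, a * (vc r).2.2.2 + b * (vc s).2.2.2) :=
  eq_of_beq (findIdx_range h)

theorem lc_eq {a b : ℤ} {r s v : ℕ} (hv : v < 48) (h : vc v =
    (a * (vc r).1 + b * (vc s).1, a * (vc r).2.1 + b * (vc s).2.1,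
      a * (vc r).2.2.1 + b * (vc s).2.2.1, a * (vc r).2.2.2 + b * (vc s).2.2.2)) :
    lc a r b s = v := by
  have h1 : lc a r b s < 48 :=
    List.findIdx_lt_length_of_exists (xs := List.range 48) ⟨v, List.mem_range.2 hv, beq_of_eq h⟩
  exact vc_inj _ h1 v hv ((lc_spec h1).trans h.symm)

theorem wy_rf {s : ℕ} (hs : s < 48) : Wy (rf s) := by
  have k : ∀ r < 48, ∀ v < 48, ip (rf s r) (rf s v) = ip r v := fun r hr v hv => by
    obtain ⟨h1, h2, -⟩ := rf_facts s hs r hr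
    obtain ⟨h3, h4, -⟩ := rf_facts s hs v hv
    rw [ip, rf, rf, lc_spec h1, lc_spec h3]
    generalize 2 * ip r s / ip s s = c at h2
    generalize 2 * ip v s / ip s s = d at h4
    simp only [ip] at h2 h4 ⊢
    refine mul_left_cancel₀ (two_ne_zero' ℤ) ?_
    linear_combination d * h2 + c * h4
  refine ⟨fun r hr => (rf_facts s hs r hr).1, fun r hr => ?_, k, fun r hr v hv h => ?_,
    fun r hr => ⟨_, (rf_facts s hs r hr).1, (rf_facts s hs r hr).2.2⟩⟩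
  · rw [(sh_eq _ (rf_facts s hs r hr).1).1, k r hr r hr, (sh_eq r hr).1]
  · obtain ⟨h1, h2, -⟩ := rf_facts s hs r hr
    obtain ⟨h3, h4, -⟩ := rf_facts s hs v hv
    obtain ⟨h5, h6, -⟩ := rf_facts s hs _ h
    have e : 2 * ip (ad r v) s / ip s s = 2 * ip r s / ip s s + 2 * ip v s / ip s s := by
      refine mul_right_cancel₀ (sh_eq s hs).2 ?_
      rw [h6, add_mul, h2, h4, ip, ad, lc_spec h, ip, ip]
      ring
    refine (lc_eq h5 ?_).symm
    rw [rf, lc_spec h5, e, rf, rf, lc_spec h1, lc_spec h3, ad, lc_spec h]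
    simp only [Prod.mk.injEq]
    refine ⟨?_, ?_, ?_, ?_⟩ <;> ring

theorem wy_id : Wy id := ⟨fun _ h => h, fun _ _ => rfl, fun _ _ _ _ => rfl, fun _ _ _ _ _ => rfl,
  fun s h => ⟨s, h, rfl⟩⟩

theorem Wy.comp {ω ω' : ℕ → ℕ} (h : Wy ω) (h' : Wy ω') : Wy (ω ∘ ω') where
  lt r hr := h.lt _ (h'.lt r hr)
  sh r hr := (h.sh _ (h'.lt r hr)).trans (h'.sh r hr)
  ip r hr s hs := (h.ip _ (h'.lt r hr) _ (h'.lt s hs)).trans (h'.ip r hr s hs)
  ad r hr s hs e := by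
    have := h'.ad r hr s hs e
    exact (congrArg ω this).trans (h.ad _ (h'.lt r hr) _ (h'.lt s hs) (this ▸ h'.lt _ e))
  sur s hs := by
    obtain ⟨r, h1, rfl⟩ := h.sur s hs
    obtain ⟨r, h2, rfl⟩ := h'.sur r h1
    exact ⟨r, h2, rfl⟩

theorem refl_val (s r : Rt chevF4) : (refl s r : ℕ) = rf s r := by
  have h1 : ∀ s < 48, ∀ r < 48, ∀ i < 4,
      certF4.rtc (rf s r) i = certF4.rtc r i - chevF4.pairing s r * certF4.rtc s i := by
    decide +kernel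
  exact congrArg Fin.val (rt_inj (r := refl s r) (s := ⟨rf s r, (rf_facts s s.2 r r.2).1⟩) (by
    rw [rt_refl]; funext i; exact (h1 s s.2 r r.2 i i.2).symm))

/-- The odd terms of the commutator formula. -/
def oT (r s : ℕ) : List (ℕ × ℕ × ℕ) :=
  ((chevF4.commTerms s r).filter fun c => c.2.1 % 2 = 1).map fun c => (c.1, c.2.2)

theorem neg_val : ∀ r < 48, chevF4.neg r = 47 - r := by decide +kernel

set_option synthInstance.maxSize 2000 in
theorem oT_facts : ∀ r < 48, ∀ s < 48, (0 ≤ ip r s → r ≠ 47 - s ∧ (r = s ∨ oT r s = [])) ∧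
    (ip r s < 0 → r ≠ s ∧ (sh r = sh s → s ≠ 47 - r → r ≠ 47 - s ∧ oT r s = [(ad r s, 1, 1)]) ∧
      (sh r = true → sh s = false → r ≠ 47 - s ∧
        oT r s = [(ad r s, 1, 1), (ad r (ad r s), 1, 2)])) := by decide +kernel

variable {F : Type} [Field F] [CharP F 2]

theorem cm_x {r s : ℕ} (hr : r < 48) (hs : s < 48) (h1 : r ≠ s) (h2 : r ≠ 47 - s) (a b : F) :
    cm (x F r a) (x F s b) = ((oT r s).map fun c => x F c.1 (b ^ c.2.1 * a ^ c.2.2)).prod := by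
  have h := (stB F).toSt
  have := h.commutator_eq (r := R s hs) (s := R r hr) (fun e => h1 (congrArg Fin.val e))
    (fun e => h2 ((congrArg Fin.val e).trans (neg_val s hs))) b a
  rw [CharTwo.neg_eq, CharTwo.neg_eq] at this
  refine this.trans ?_
  have k : ∀ c ∈ chevF4.commTerms s r, c.1 < 48 := fun c hc =>
    (commTerms_spec (r := R s hs) (s := R r hr) hc).1
  rw [ChevalleyDatum.commWord, oT]
  change wd _ (List.map _ (chevF4.commTerms s r)) = _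
  generalize chevF4.commTerms s r = l at k
  induction l with
  | nil => rfl
  | cons c l ih =>
    rw [List.map_cons, wd_cons, ih fun d hd => k d (List.mem_cons_of_mem _ hd), List.filter_cons]
    rcases Int.emod_two_eq_zero_or_one c.2.1 with e | e
    · rw [H86.F4.cast_even e, zero_mul, zero_mul, h.x_zero (R _ (k c List.mem_cons_self)), one_mul,
        if_neg (by simp [e])]
    · have : ((c.2.1 : ℤ) : F) = 1 := by
        rw [← sub_eq_zero, ← Int.cast_one, ← Int.cast_sub]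
        exact H86.F4.cast_even (by omega)
      rw [if_pos (by simp [e]), this, one_mul, CharTwo.neg_eq]
      rfl

theorem x_c0 {r s : ℕ} (hr : r < 48) (hs : s < 48) (h : 0 ≤ ip r s) (a b : F) :
    x F r a * x F s b = x F s b * x F r a := by
  by_cases e : r = s
  · subst e; exact (stB F).toSt.x_comm (R r hr) a b
  obtain ⟨h1, h2⟩ := (oT_facts r hr s hs).1 h
  rw [← H67.SA.cm_eq_one, cm_x hr hs e h1, h2.resolve_left e]
  rfl

theorem x_c1 {r s : ℕ} (hr : r < 48) (hs : s < 48) (h0 : sh r = sh s) (h : ip r s < 0)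
    (h1 : s ≠ 47 - r) (a b : F) : cm (x F r a) (x F s b) = x F (ad r s) (a * b) := by
  obtain ⟨h2, h3, -⟩ := (oT_facts r hr s hs).2 h
  rw [cm_x hr hs h2 (h3 h0 h1).1, (h3 h0 h1).2]
  simp [mul_comm]

theorem x_c2 {r l : ℕ} (hr : S r) (hl : L l) (h : ip r l < 0) (a b : F) :
    cm (x F r a) (x F l b) = x F (ad r l) (a * b) * x F (ad r (ad r l)) (a ^ 2 * b) := by
  obtain ⟨h2, -, h3⟩ := (oT_facts r hr.1 l hl.1).2 h
  rw [cm_x hr.1 hl.1 h2 (h3 hr.2 hl.2).1, (h3 hr.2 hl.2).2]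
  simp [mul_comm]

theorem x_inj {r : ℕ} (hr : r < 48) {a : F} (h : x F r a = 1) : a = 0 :=
  (stB F).eq_zero_of_x_eq_one (R r hr) h

theorem n_conj {s r : ℕ} (hs : s < 48) (hr : r < 48) (a : F) :
    n F s * x F r a * (n F s)⁻¹ = x F (rf s r) a :=
  (H64.SG.nn_conj2 (stB F).toStN (R s hs) (R r hr) a).trans (by rw [refl_val])

theorem exists_wy {g : XF F} (hg : g ∈ NW F) :
    ∃ ω, Wy ω ∧ ∀ r < 48, ∀ a, g * x F r a * g⁻¹ = x F (ω r) a := by
  induction hg using closure_induction'' with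
  | mem g hg =>
    obtain ⟨s, hs, rfl⟩ := hg
    exact ⟨_, wy_rf hs, fun r hr => n_conj hs hr⟩
  | inv_mem g hg =>
    obtain ⟨s, hs, rfl⟩ := hg
    refine ⟨_, wy_rf hs, fun r hr a => ?_⟩
    rw [← n_conj hs hr, show (n F s)⁻¹ = n F s from
      ((stB F).toSt.nn_inv (R s hs) 1).trans (by rw [CharTwo.neg_eq])]
    rw [show (n F s)⁻¹ = n F s from ((stB F).toSt.nn_inv (R s hs) 1).trans (by rw [CharTwo.neg_eq])]
  | one => exact ⟨_, wy_id, fun r _ a => by simp⟩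
  | mul g k _ _ h1 h2 =>
    obtain ⟨ω, h1, h3⟩ := h1
    obtain ⟨ω', h2, h4⟩ := h2
    exact ⟨_, h1.comp h2, fun r hr a => by
      rw [Function.comp, ← h3 _ (h2.lt r hr), ← h4 r hr]; group⟩

theorem mem_Z {r : ℕ} (hr : r < 48) {g : XF F} : g ∈ Z F r ↔ ∃ a, g = x F r a := by
  refine ⟨fun h => (stB F).toSt.mem_XR.1 (GS_le (K := XR chevF4 (xG chevF4 F) (R r hr))
    (fun s hs a => ?_) h), by rintro ⟨a, rfl⟩; exact x_mem (List.mem_singleton_self r) hr a⟩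
  rw [List.mem_singleton.1 hs]
  exact x_mem_XR chevF4 _ (R r hr) a

set_option synthInstance.maxSize 2000 in
theorem x_eq {r s : ℕ} (hr : S r) (hs : S s) {a : F} (h : x F r 1 = x F s a) : r = s := by
  by_contra e
  obtain ⟨v, v1, v2, v3, v4, v5, v6⟩ := (by decide +kernel : ∀ r < 48, ∀ s < 48, sh r = true →
    sh s = true → r ≠ s → ∃ v < 48, 0 ≤ ip s v ∧ ip r v < 0 ∧ sh r = sh v ∧ v ≠ 47 - r ∧
      ad r v < 48) r hr.1 s hs.1 hr.2 hs.2 e
  have := x_c1 hr.1 v1 v4 v3 v5 (1 : F) 1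
  rw [h, H67.SA.cm_eq_one.2 (x_c0 hs.1 v1 v2 a 1), mul_one] at this
  exact one_ne_zero (x_inj v6 this.symm)

variable {G : Type u} [Group G] {e : XF F →* G} {t : G} {k : F}

theorem mem_Cs_US {l : List ℕ} (hl : ∀ r ∈ l, r < 48) {w : G} :
    w ∈ Cs ((US F l).map e) ↔ ∀ r ∈ l, ∀ a, e (x F r a) * w = w * e (x F r a) := by
  refine ⟨fun h r hr a => h _ ⟨_, x_mem hr (hl r hr) a, rfl⟩, fun h => ?_⟩
  rintro _ ⟨g, hg, rfl⟩
  exact (mem_Cz.1 (GS_le (K := (Cz w).comap e) (fun r hr a => mem_Cz.2 (h r hr a).symm) hg)).symm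

theorem cy_iff {r : ℕ} {w : G} : w ∈ Cs ((Y F r).map e) ↔ CY (fun r c => e (x F r c)) r w :=
  mem_Cs_US fun _ hs => (mem_lY.1 hs).1

theorem mem_mapZ {r : ℕ} (hr : r < 48) {w : G} : w ∈ (Z F r).map e ↔ ∃ a, w = e (x F r a) :=
  ⟨by rintro ⟨g, hg, rfl⟩; obtain ⟨a, rfl⟩ := (mem_Z hr).1 hg; exact ⟨a, rfl⟩,
    by rintro ⟨a, rfl⟩; exact ⟨_, (mem_Z hr).2 ⟨a, rfl⟩, rfl⟩⟩

theorem ct (h : CH e t) {l l' : List ℕ} (c : CA F l l') {w : G} (h1 : t * w = w * t)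
    (h2 : ∀ r ∈ l, ∀ a, e (x F r a) * w = w * e (x F r a)) :
    ∃ ζ ∈ US F l', w = e ζ ∨ w = e ζ * t := by
  obtain ⟨β, i⟩ := exists_ind h.inj (h.cz (mem_Cz.2 h1))
  obtain ⟨ζ, hζ, rfl⟩ := c β fun r hr a => h.inj (by rw [← i, ← h2 r hr, mul_inv_cancel_right])
  have h3 : e ζ * t = t * e ζ := h.cen _ ⟨ζ, rfl⟩
  exact ⟨ζ, hζ, (h.ck _ (mul_mem (mem_Cz.2 h1) (inv_mem (mem_Cz.2 h3.symm))) (ind_conj_iff.1 i)).imp
    (fun h4 => mul_inv_eq_one.1 h4) fun h4 => (mul_inv_eq_iff_eq_mul.1 h4).trans h3.symm⟩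

theorem mv_of (h : CH e t) {g : XF F} {ω : ℕ → ℕ} (h1 : Wy ω)
    (h2 : ∀ r < 48, ∀ a, g * x F r a * g⁻¹ = x F (ω r) a) :
    Mv (fun r c => e (x F r c)) t (e g) ω :=
  ⟨h1, (h.cen _ ⟨g, rfl⟩).symm, fun r hr a => by rw [← h2 r hr, map_mul, map_mul, map_inv]⟩

theorem Mv.comp {x : ℕ → F → G} {n n' : G} {ω ω' : ℕ → ℕ} (h : Mv x t n ω) (h' : Mv x t n' ω') :
    Mv x t (n * n') (ω ∘ ω') :=
  ⟨h.toWy.comp h'.toWy, Commute.mul_right h.nt h'.nt, fun r hr a => by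
    rw [Function.comp, ← h.cj _ (h'.lt r hr), ← h'.cj r hr]; group⟩

theorem env (c : FC F) (h : CH e t) (tr : Tr e t k) : Env (fun r c => e (x F r c)) t k where
  add r hr a b := by rw [← map_mul, (stB F).add r hr]
  inj r hr a h1 := x_inj hr (h.inj (h1.trans e.map_one.symm))
  c0 r hr s hs h1 a b := by rw [← map_mul, x_c0 hr hs h1, map_mul]
  c1 r hr s hs h1 h2 h3 a b := by rw [← x_c1 hr hs h1 h2 h3]; simp [cm]
  c2 r l hr hl h1 a b := by rw [← map_mul, ← x_c2 hr hl h1]; simp [cm]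
  xt r _ a := h.cen _ ⟨_, rfl⟩
  tt := h.inv.1
  nt r hr a h1 := by
    obtain ⟨v, v1, v3, v4, v5, v6⟩ := (by decide +kernel : ∀ r < 48, ∃ v < 48, ip r v < 0 ∧
      sh r = sh v ∧ v ≠ 47 - r ∧ ad r v < 48) r hr
    have h2 : x F v 1 * x F r a = x F r a * x F v 1 :=
      h.inj (by rw [map_mul, map_mul, ← h1]; exact h.cen _ ⟨_, rfl⟩)
    have := x_c1 hr v1 v4 v3 v5 a 1
    rw [H67.SA.cm_eq_one.2 h2.symm, mul_one] at this
    rw [x_inj v6 this.symm, show x F r 0 = 1 from (stB F).toSt.x_zero (R r hr), map_one] at h1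
    exact h.inv.2 h1
  kY w h1 h2 := by
    obtain ⟨ζ, h3, h4⟩ := ct h c.cY h1 fun r hr => h2 r
      ((by decide +kernel : ∀ r ∈ lQ 44 ++ [21, 22, 23, 24, 25, 26], r ∈ lY 44) r hr)
    obtain ⟨a, rfl⟩ := (mem_Z (by decide)).1 h3
    exact ⟨a, h4⟩
  kL w h1 h2 := by
    obtain ⟨ζ, h3, h4⟩ := ct h c.cL h1 h2
    have h5 : Z F 44 ≤ Cs (Z F 40) := fun g hg v hv => by
      obtain ⟨a, rfl⟩ := (mem_Z (by decide)).1 hg
      obtain ⟨b, rfl⟩ := (mem_Z (by decide)).1 hv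
      exact x_c0 (by decide) (by decide) (by decide +kernel) b a
    obtain ⟨p, hp, q, hq, rfl⟩ := (H98.mem_sup_right_norm (h5.trans (H64.SG.Cs_le_Ns _))).1
      (GS_le (K := Z F 40 ⊔ Z F 44) (fun r hr a => by
        rcases List.mem_pair.1 hr with rfl | rfl
        · exact mem_sup_left ((mem_Z (by decide)).2 ⟨a, rfl⟩)
        · exact mem_sup_right ((mem_Z (by decide)).2 ⟨a, rfl⟩)) h3)
    obtain ⟨a, rfl⟩ := (mem_Z (by decide)).1 hp
    obtain ⟨b, rfl⟩ := (mem_Z (by decide)).1 hq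
    exact ⟨a, b, by rwa [map_mul] at h4⟩
  tr d := let ⟨w, h1, h2⟩ := tr d; ⟨w, cy_iff.1 h1, h2⟩
  mv r s hr hs h1 := by
    have m := fun s (hs : s < 48) => mv_of h (wy_rf hs) fun r hr => n_conj (F := F) hs hr
    obtain ⟨p, -, p1, p2, rfl⟩ := (by decide +kernel : ∀ r < 48, sh r = true → ∃ p ∈ [(0, 6), (0, 10),
      (0, 12), (0, 13), (1, 13), (0, 14), (1, 14), (2, 14), (3, 14), (0, 15), (0, 1), (0, 2), (0, 4),
      (0, 5), (0, 3), (0, 7), (0, 8), (0, 9), (1, 10), (0, 11), (1, 12), (2, 13), (4, 14), (0, 0)],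
      p.1 < 48 ∧ p.2 < 48 ∧ rf p.1 (rf p.2 44) = r) r hr.1 hr.2
    have m1 := (m _ p1).comp (m _ p2)
    obtain ⟨s, s1, rfl⟩ := m1.sur s hs.1
    obtain ⟨q, -, q1, q2, q3, rfl⟩ := (by decide +kernel : ∀ s < 48, sh s = true → ip 44 s = -2 →
      ∃ q ∈ [(15, 20), (15, 21), (15, 16), (15, 17), (15, 18), (15, 19), (16, 20), (0, 0)],
      q.1 < 48 ∧ q.2 < 48 ∧ rf q.1 (rf q.2 44) = 44 ∧ rf q.1 (rf q.2 14) = s) s s1
      ((m1.S s1).1 hs).2 ((m1.ip 44 (by decide) s s1).symm.trans h1)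
    exact ⟨_, _, m1.comp ((m _ q1).comp (m _ q2)), congrArg (rf p.1 ∘ rf p.2) q3, rfl⟩

theorem fam [Finite G] (h : CH e t) (E : Env (fun r c => e (x F r c)) t k) : Fam e t k E.AA where
  le r hr w hw := by
    obtain ⟨a, rfl⟩ := (mem_mapZ hr.1).1 hw
    exact (E.mem_AA hr).2 (E.il_x hr a)
  sq r hr a ha := let ⟨_, _, h1, _⟩ := ha hr; h1
  nt r hr ha := E.il_nt hr.1 (ha hr)
  tc r hr a ha := let ⟨c, h1, _⟩ := ha hr; ⟨c, h1.2, fun _ hs h2 => E.tc hr h1 hs h2⟩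
  onto r hr c := let ⟨w, h1, h2⟩ := E.il_onto hr c; ⟨w, fun _ => h1, h2.2⟩
  fix r hr a ha h1 := let ⟨_, h2, _, h3⟩ := ha hr
    (mem_mapZ hr.1).2 (h3 (E.tl_zero hr.1 h2 (mem_Cz.1 h1)))
  cp r hr a ha := let ⟨_, h1, _⟩ := ha hr; cy_iff.2 h1.1
  intr r hr w h1 c h2 := (E.intr hr ⟨cy_iff.1 h1, h2⟩).imp (fun h _ => h) fun h _ => h
  eqv g hg r s hr hs h1 := by
    obtain ⟨ω, h2, h3⟩ := exists_wy hg
    have m := mv_of h h2 h3
    obtain ⟨a, h4⟩ := (mem_Z hs.1).1 (h1 ▸ ⟨_, (mem_Z hr.1).2 ⟨1, rfl⟩, h3 r hr.1 1⟩ :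
      x F (ω r) 1 ∈ Z F s)
    obtain rfl := x_eq ((h2.S hr.1).2 hr) hs h4
    refine le_antisymm ?_ fun b hb => ⟨(e g)⁻¹ * b * e g, fun _ => (m.il hr.1).1 ?_, by
      simp [mul_assoc]⟩
    · rintro _ ⟨b, hb, rfl⟩ _
      exact (m.il hr.1).2 (hb hr)
    · simpa [mul_assoc] using hb hs
  tor r hr s hs l hl := mem_normalizer_fintype fun w hw _ =>
    il_tor (h.cen _ ⟨_, rfl⟩).symm (fun v hv => ⟨_, zpow_ne_zero (chevF4.pairing s v) hl, fun a => by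
      rw [← map_inv, ← map_mul, ← map_mul, (stB F).toStN.hh_conj (R s hs) (R v hv) hl]⟩) hr.1 (hw hr)
  col r s hr hs h1 a ha b hb := E.il_col hr hs h1 (ha hr) (hb hs)
  neg r s hr hs h1 a ha d _ := E.il_neg hr hs h1 (ha hr) d

theorem jobP2b (hFC : JobFC) : JobP2b.{u} := fun F _ _ _ _ _ _ _ _ _ h tr =>
  ⟨_, fam h (env (hFC F) h tr)⟩

end H84.SP
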