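import Cfsg.Agent.H84.SfPc

/-! STD-F4 job `P3a`: the commutators of the big root subgroups at `90` and `120` degrees. -/

set_option autoImplicit false
set_option linter.unusedSectionVars false

namespace H84.SP

open Subgroup H64.SF Cfsg.Lie H63 H64
open H64.SG (Cz Cs Ns cjs mem_Cz)
open H67.SA (cm cm_eq_one)
open H46.SF (sh)
open H86.WR (XF US)
open H86.F4 (R stB GS_le x_mem)

universe u

variable {F : Type} [Field F] [CharP F 2] {G : Type u} [Group G]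

theorem cm_comm1 {a b y : G} (h1 : Commute a y) (h2 : Commute a (b⁻¹ * y * b)) :
    Commute y (cm a b) := by
  calc y * cm a b = a * b * a⁻¹ * ((a * (b⁻¹ * (a⁻¹ * y * a) * b) * a⁻¹) * b⁻¹) := by rw [cm]; group
    _ = _ := by rw [mul_assoc a⁻¹, ← h1.eq, inv_mul_cancel_left, h2.eq, cm]; group

theorem cm_swap (a b : G) : cm a b = (cm b a)⁻¹ := by rw [cm, cm]; group

theorem conj_cm (n a b : G) : n * cm a b * n⁻¹ = cm (n * a * n⁻¹) (n * b * n⁻¹) := by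
  rw [cm, cm]; group

theorem inv_cm {a : G} (ha : a * a = 1) (b : G) : a * cm a b * a⁻¹ = (cm a b)⁻¹ := by
  calc _ = (a * a) * b * a⁻¹ * b⁻¹ * a⁻¹ := by rw [cm]; group
    _ = b * a * b⁻¹ * a⁻¹ := by rw [ha, one_mul, inv_eq_of_mul_eq_one_right ha]
    _ = _ := by rw [cm]; group

/-- The abstract form of `Fam`. -/
structure Fm (x : ℕ → F → G) (t : G) (k : F) (A : ℕ → Subgroup G) : Prop extends Env x t k where
  le : ∀ r, S r → ∀ a, x r a ∈ A r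
  sq : ∀ r, S r → ∀ a ∈ A r, a * a = 1
  tca : ∀ r, S r → ∀ a ∈ A r, ∃ c, a * t * a⁻¹ = t * x r c ∧
    ∀ s, S s → ip r s = 0 → ∀ d, cm a (x s d) = x (ad r s) (k * c * d)
  onto : ∀ r, S r → ∀ c, ∃ a ∈ A r, a * t * a⁻¹ = t * x r c
  fix : ∀ r, S r → ∀ a ∈ A r, t * a = a * t → ∃ c, a = x r c
  cp : ∀ r, S r → ∀ a ∈ A r, CY x r a
  col : ∀ r s, S r → S s → ip r s = 2 → ∀ a ∈ A r, ∀ b ∈ A s, b * a = a * b
  neg : ∀ r s, S r → S s → ip r s = -2 → ∀ a ∈ A r, ∀ d, cm a (x s d) ∈ A (ad r s)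
  kQ : ∀ w, t * w = w * t → (∀ s ∈ lQ 44 ++ [21, 22, 23, 24, 25, 26], ∀ a, x s a * w = w * x s a) →
    ∃ a, w = x 44 a ∨ w = x 44 a * t
  kP : ∀ w, t * w = w * t → (∀ s ∈ lY 44, s ∈ lY 29 → ∀ a, x s a * w = w * x s a) →
    ∃ a b c, w = x 29 a * x 44 b * x 47 c ∨ w = x 29 a * x 44 b * x 47 c * t
  mv0 : ∀ r s, S r → S s → ip r s = 0 → ∃ n ω, Mv x t n ω ∧ ω 44 = r ∧ ω 29 = s ∧
    ∀ v, S v → ∀ a, a ∈ A (ω v) ↔ n⁻¹ * a * n ∈ A v
  mv2 : ∀ r s, S r → S s → ip r s = -2 → ∃ n ω, Mv x t n ω ∧ ω 33 = r ∧ ω 40 = s ∧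
    ∀ v, S v → ∀ a, a ∈ A (ω v) ↔ n⁻¹ * a * n ∈ A v

namespace Fm

variable {x : ℕ → F → G} {t : G} {k : F} {A : ℕ → Subgroup G} {r s : ℕ} {a b : G}
  (E : Fm x t k A)
include E

theorem inv (hr : S r) (ha : a ∈ A r) : a⁻¹ = a := inv_eq_of_mul_eq_one_right (E.sq r hr a ha)

theorem zero_of_comm (r s : ℕ) {c : F} (h : x s 1 * x r c = x r c * x s 1)
    (h0 : S r ∧ S s ∧ ip r s = -2 := by decide +kernel) : c = 0 := by
  have := E.cj1 h0.1 h0.2.1 h0.2.2 1 c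
  rw [h, mul_inv_cancel_right, left_eq_mul, one_mul] at this
  exact E.inj _ (add_facts r h0.1.1 s h0.2.1.1 h0.1.2 h0.2.1.2 h0.2.2).1.1 _ this

theorem pol0 (ha : a ∈ A 44) (hb : b ∈ A 29) : ∃ u v w, cm a b = x 29 u * x 44 v * x 47 w := by
  have s44 : S 44 := by decide +kernel
  have s29 : S 29 := by decide +kernel
  obtain ⟨c, a1, a2⟩ := E.tca 44 s44 a ha
  obtain ⟨d, b1, b2⟩ := E.tca 29 s29 b hb
  have a3 := fun u => a2 29 s29 (by decide +kernel) u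
  have b3 := fun u => b2 44 s44 (by decide +kernel) u
  rw [show ad 44 29 = 47 by decide +kernel] at a3
  rw [show ad 29 44 = 47 by decide +kernel] at b3
  have a4 : ∀ u, a * x 29 u * a⁻¹ = x 47 (k * c * u) * x 29 u := fun u => by rw [← a3, cm]; group
  have b4 : ∀ u, b * x 44 u * b⁻¹ = x 47 (k * d * u) * x 44 u := fun u => by rw [← b3, cm]; group
  have ca := E.cp 44 s44 a ha
  have cb := E.cp 29 s29 b hb
  have ai := E.inv s44 ha
  have bi := E.inv s29 hb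
  have h1 : cm a b * t * (cm a b)⁻¹ = t := by
    calc _ = a * b * (a⁻¹ * (b⁻¹ * t * b⁻¹⁻¹) * a⁻¹⁻¹) * b⁻¹ * a⁻¹ := by rw [cm]; group
      _ = a * (b * ((a * t * a⁻¹) * (a * x 29 d * a⁻¹)) * b⁻¹) * a⁻¹ := by
        rw [show b⁻¹ * t * b⁻¹⁻¹ = t * x 29 d by rw [bi, b1], show a⁻¹ * (t * x 29 d) * a⁻¹⁻¹ =
          a * (t * x 29 d) * a⁻¹ by rw [ai, ai]]; group
      _ = a * ((b * t * b⁻¹) * (b * x 44 c * b⁻¹) * (b * (x 47 (k * c * d) * x 29 d) * b⁻¹)) * a⁻¹ := by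
        rw [a1, a4]; group
      _ = a * (t * x 44 c) * a⁻¹ := by
        rw [b1, b4, ← ((cb.nat 47 _).mul_left (cb.nat 29 _)).eq, mul_inv_cancel_right,
          mul_right_comm k d c, (E.xc 47 44 _ _).eq, mul_assoc (t * _), mul_assoc (x 44 c),
          ← mul_assoc (x 47 _), E.x_sq (by decide), one_mul, (E.xc 44 29 _ _).eq, mul_assoc t,
          ← mul_assoc (x 29 d), E.x_sq (by decide), one_mul]
      _ = a * t * a⁻¹ * x 44 c := by rw [mul_assoc, mul_assoc, (ca.nat 44 c).inv_right.eq]; group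
      _ = t := by rw [a1, mul_assoc, E.x_sq (by decide), mul_one]
  obtain ⟨u, v, w, e | e⟩ := E.kP _ (mul_inv_eq_iff_eq_mul.1 h1).symm fun s h1 h2 f =>
    (((Commute.mul_right (ca s h1 f) (cb s h2 f)).mul_right (Commute.inv_right (ca s h1 f))).mul_right
      (Commute.inv_right (cb s h2 f)))
  · exact ⟨u, v, w, e⟩
  have h2 : a * cm a b * a⁻¹ * cm a b = 1 := by rw [inv_cm (E.sq 44 s44 a ha), inv_mul_cancel]
  have h3 : x 47 (k * c * u) * x 44 c = 1 := by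
    have c1 := ((ca.nat 44 v).mul_left (ca.nat 47 w)).eq
    have c2 : Commute (x 44 c) (x 29 u * x 44 v * x 47 w * t) :=
      (((E.xc 44 29 _ _).mul_right (E.xc 44 44 _ _)).mul_right (E.xc 44 47 _ _)).mul_right
        (E.xt 44 (by decide) c)
    have c3 : x 29 u * x 44 v * x 47 w * t * (x 29 u * x 44 v * x 47 w * t) = 1 := by
      have p1 : Commute (x 29 u * x 44 v) (x 47 w) := (E.xc 29 47 _ _).mul_left (E.xc 44 47 _ _)
      have p2 : Commute (x 29 u * x 44 v * x 47 w) t := (Commute.mul_left (E.xt 29 (by decide) u)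
        (E.xt 44 (by decide) v)).mul_left (E.xt 47 (by decide) w)
      rw [← pow_two, p2.mul_pow, p1.mul_pow, (E.xc 29 44 u v).mul_pow]
      simp [pow_two, E.x_sq, E.tt]
    rw [e] at h2
    calc _ = x 47 (k * c * u) * (x 29 u * x 44 v * x 47 w * t) *
          (x 44 c * (x 29 u * x 44 v * x 47 w * t)) := by
          rw [c2.eq, mul_assoc (x 47 _), ← mul_assoc _ _ (x 44 c), c3, one_mul]
      _ = (a * x 29 u * a⁻¹) * ((x 44 v * x 47 w) * a * a⁻¹) * (a * t * a⁻¹) *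
          (x 29 u * x 44 v * x 47 w * t) := by rw [a4, a1]; group
      _ = 1 := by rw [c1, ← h2]; group
  have h4 : c = 0 := E.zero_of_comm 44 13 (by
    rw [eq_inv_of_mul_eq_one_right h3]; exact (E.xc 13 47 _ _).inv_right)
  rw [h4, E.x_zero s44.1, mul_one, mul_inv_eq_iff_eq_mul] at a1
  obtain ⟨f, rfl⟩ := E.fix 44 s44 a ha a1.symm
  exact ⟨0, 0, k * d * f, by
    rw [cm_swap, b3, E.x_inv (by decide), E.x_zero s44.1, E.x_zero s29.1, one_mul, one_mul]⟩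

theorem pol1 (hr : S r) (hs : S s) (h : ip r s = 0) (ha : a ∈ A r) (hb : b ∈ A s) :
    ∃ u v w, cm a b = x s u * x r v * x (ad r s) w := by
  obtain ⟨n, ω, m, rfl, rfl, hA⟩ := E.mv0 r s hr hs h
  obtain ⟨u, v, w, e⟩ := E.pol0 ((hA 44 (by decide +kernel) a).1 ha)
    ((hA 29 (by decide +kernel) b).1 hb)
  refine ⟨u, v, w, ?_⟩
  rw [← m.ad 44 (by decide) 29 (by decide) (by decide +kernel), show ad 44 29 = 47 by decide +kernel,
    ← m.cj 29 (by decide), ← m.cj 44 (by decide), ← m.cj 47 (by decide), conj_mul, conj_mul, ← e,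
    conj_cm]
  simp [mul_assoc]

theorem pol2 (ha : a ∈ A 44) (hb : b ∈ A 29) : ∃ w, cm a b = x 47 w := by
  have s44 : S 44 := by decide +kernel
  have s29 : S 29 := by decide +kernel
  have s40 : S 40 := by decide +kernel
  have s10 : S 10 := by decide +kernel
  have s36 : S 36 := by decide +kernel
  obtain ⟨d, b1, -⟩ := E.tca 29 s29 b hb
  obtain ⟨c, -, a2⟩ := E.tca 44 s44 a ha
  obtain ⟨a', ha', a1⟩ := E.onto 40 s40 d
  have h0 := E.neg 40 10 s40 s10 (by decide +kernel) a' ha' 1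
  have h1 := E.neg 44 10 s44 s10 (by decide +kernel) a ha 1
  have h2 := E.cj1 s40 s10 (by decide +kernel) 1 d
  rw [show ad 40 10 = 29 by decide +kernel] at h0 h2
  rw [show ad 44 10 = 36 by decide +kernel] at h1
  have ca := E.cp 40 s40 a' ha'
  have h3 : cm a' (x 10 1) * t * (cm a' (x 10 1))⁻¹ = t * x 29 d := by
    calc _ = a' * x 10 1 * (a'⁻¹ * ((x 10 1)⁻¹ * (t * x 10 1)) * a'⁻¹⁻¹) * (x 10 1)⁻¹ * a'⁻¹ := by
          rw [cm]; group
      _ = a' * ((x 10 1 * t) * (x 10 1)⁻¹ * (x 10 1 * x 40 d * (x 10 1)⁻¹)) * a'⁻¹ := by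
          rw [← E.xt 10 s10.1, inv_mul_cancel_left, E.inv s40 ha', a1]; group
      _ = a' * t * a'⁻¹ * (a' * (x 40 d * x 29 d) * a'⁻¹) := by
          rw [E.xt 10 s10.1, h2, one_mul]; group
      _ = _ := by
          rw [a1, ← ((ca.nat 40 d).mul_left (ca.nat 29 d)).eq, mul_inv_cancel_right, mul_assoc,
            ← mul_assoc (x 40 d), E.x_sq s40.1, one_mul]
  obtain ⟨f, hf⟩ := E.fix 29 s29 _ (mul_mem (inv_mem h0) hb) (by
    calc t * ((cm a' (x 10 1))⁻¹ * b) =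
        (cm a' (x 10 1))⁻¹ * (cm a' (x 10 1) * t * (cm a' (x 10 1))⁻¹) * b := by group
      _ = _ := by rw [h3, ← b1]; group)
  obtain ⟨u, v, w, e⟩ := E.pol1 s40 s36 (by decide +kernel) ha' h1
  obtain ⟨u', v', w', e'⟩ := E.pol0 ha h0
  rw [show ad 40 36 = 47 by decide +kernel] at e
  have h4 : cm a (cm a' (x 10 1)) = cm a' (cm a (x 10 1)) := by
    have c1 := E.col 44 40 s44 s40 (by decide +kernel) a ha a' ha'
    have c2 := E.col 36 29 s36 s29 (by decide +kernel) _ h1 _ h0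
    calc _ = cm (a * a' * a⁻¹) (a * x 10 1 * a⁻¹) * (cm a' (x 10 1))⁻¹ := by rw [← conj_cm, cm]
      _ = cm a' (cm a (x 10 1)) * (cm a (x 10 1) * cm a' (x 10 1)) * (cm a (x 10 1))⁻¹ *
          (cm a' (x 10 1))⁻¹ := by
          rw [← c1, mul_inv_cancel_right]; simp only [cm]; group
      _ = _ := by rw [← c2]; group
  rw [h4, e] at e'
  have u0 : u' = 0 := E.zero_of_comm 29 35 (by
    have := ((E.xc 35 36 1 u).mul_right (E.xc 35 40 1 v)).mul_right (E.xc 35 47 1 w)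
    rw [e'] at this
    have := (this.mul_right (E.xc 35 47 1 w').inv_right).mul_right (E.xc 35 44 1 v').inv_right
    rwa [mul_inv_cancel_right, mul_inv_cancel_right] at this)
  have v0 : v' = 0 := E.zero_of_comm 44 13 (by
    have := ((E.xc 13 36 1 u).mul_right (E.xc 13 40 1 v)).mul_right (E.xc 13 47 1 w)
    rw [e', u0, E.x_zero s29.1, one_mul] at this
    have := this.mul_right (E.xc 13 47 1 w').inv_right
    rwa [mul_inv_cancel_right] at this)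
  rw [u0, v0, E.x_zero s29.1, E.x_zero s44.1, one_mul, one_mul, ← e, ← h4] at e'
  have h5 := a2 29 s29 (by decide +kernel) f
  rw [show ad 44 29 = 47 by decide +kernel] at h5
  refine ⟨w' + k * c * f, ?_⟩
  calc cm a b = cm a (cm a' (x 10 1)) * (cm a' (x 10 1) * cm a (x 29 f)) * (cm a' (x 10 1))⁻¹ := by
        rw [← hf]; generalize cm a' (x 10 1) = z; simp only [cm]; group
    _ = _ := by
        rw [h5, ← ((E.cp 29 s29 _ h0).nat 47 _).eq, e', ← E.add 47 (by decide)]; group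

theorem pol (hr : S r) (hs : S s) (h : ip r s = 0) (ha : a ∈ A r) (hb : b ∈ A s) :
    ∃ w, cm a b = x (ad r s) w := by
  obtain ⟨n, ω, m, rfl, rfl, hA⟩ := E.mv0 r s hr hs h
  obtain ⟨w, e⟩ := E.pol2 ((hA 44 (by decide +kernel) a).1 ha) ((hA 29 (by decide +kernel) b).1 hb)
  refine ⟨w, ?_⟩
  rw [← m.ad 44 (by decide) 29 (by decide) (by decide +kernel), show ad 44 29 = 47 by decide +kernel,
    ← m.cj 47 (by decide), ← e, conj_cm]
  simp [mul_assoc]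

set_option synthInstance.maxSize 2000 in
theorem neg0 (ha : a ∈ A 33) (hb : b ∈ A 40) : cm a b ∈ A 44 := by
  have s44 : S 44 := by decide +kernel
  have s33 : S 33 := by decide +kernel
  have s40 : S 40 := by decide +kernel
  obtain ⟨c, a1, a2⟩ := E.tca 33 s33 a ha
  obtain ⟨d, b1, b2⟩ := E.tca 40 s40 b hb
  have a3 := E.neg 33 40 s33 s40 (by decide +kernel) a ha
  have b3 := E.neg 40 33 s40 s33 (by decide +kernel) b hb
  rw [show ad 33 40 = 44 by decide +kernel] at a3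
  rw [show ad 40 33 = 44 by decide +kernel] at b3
  have ca := E.cp 33 s33 a ha
  have cb := E.cp 40 s40 b hb
  have ai := E.inv s33 ha
  have bi := E.inv s40 hb
  have ka := fun w hw => E.col 44 33 s44 s33 (by decide +kernel) w hw a ha
  have kb := fun w hw => E.col 44 40 s44 s40 (by decide +kernel) w hw b hb
  have h1 : ∀ s ∈ lQ 44 ++ [21, 22, 23, 24, 25, 26], ∀ f, Commute (x s f) (cm a b) := fun s hs f => by
    have ea : a⁻¹ * x s f * a = cm a (x s f) * x s f := by rw [cm, ai]; group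
    have eb : b⁻¹ * x s f * b = cm b (x s f) * x s f := by rw [cm, bi]; group
    rcases (by decide +kernel : ∀ s ∈ lQ 44 ++ [21, 22, 23, 24, 25, 26],
      s ∈ lY 33 ∧ (s ∈ lY 40 ∨ s = 33 ∨ S s ∧ ip 40 s = 0 ∧ ad 40 s ∈ lY 33) ∨
      s ∈ lY 40 ∧ (s = 40 ∨ S s ∧ ip 33 s = 0 ∧ ad 33 s ∈ lY 40)) s hs with ⟨p, q⟩ | ⟨p, q⟩
    · refine cm_comm1 (ca s p f).symm ?_
      rw [eb]
      refine Commute.mul_right ?_ (ca s p f).symm
      rcases q with q | rfl | ⟨q1, q2, q3⟩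
      · rw [cm_eq_one.2 (cb s q f).symm]; exact Commute.one_right a
      · exact ka _ (b3 f)
      · rw [b2 s q1 q2]; exact (ca _ q3 _).symm
    · rw [cm_swap]
      refine (cm_comm1 (cb s p f).symm ?_).inv_right
      rw [ea]
      refine Commute.mul_right ?_ (cb s p f).symm
      rcases q with rfl | ⟨q1, q2, q3⟩
      · exact kb _ (a3 f)
      · rw [a2 s q1 q2]; exact (cb _ q3 _).symm
  have ea : a * x 40 d * a⁻¹ = cm a (x 40 d) * x 40 d := by rw [cm]; group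
  have eb : b * x 33 c * b⁻¹ = cm b (x 33 c) * x 33 c := by rw [cm]; group
  have e1 := E.c1 33 s33.1 40 s40.1 (by decide +kernel) (by decide +kernel) (by decide) c d
  rw [show ad 33 40 = 44 by decide +kernel] at e1
  have p1 := a3 d
  have p2 := b3 c
  generalize cm a (x 40 d) = a₁ at ea p1
  generalize cm b (x 33 c) = b₁ at eb p2
  have h2 : cm a b * t * (cm a b)⁻¹ = t * (a₁ * b₁ * x 44 (c * d)) := by
    have c1 := E.cp 44 s44 _ p1
    have c2 := E.cp 44 s44 _ p2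
    calc _ = a * b * (a⁻¹ * (b⁻¹ * t * b⁻¹⁻¹) * a⁻¹⁻¹) * b⁻¹ * a⁻¹ := by rw [cm]; group
      _ = a * (b * ((a * t * a⁻¹) * (a * x 40 d * a⁻¹)) * b⁻¹) * a⁻¹ := by
        rw [show b⁻¹ * t * b⁻¹⁻¹ = t * x 40 d by rw [bi, b1], show a⁻¹ * (t * x 40 d) * a⁻¹⁻¹ =
          a * (t * x 40 d) * a⁻¹ by rw [ai, ai]]; group
      _ = a * ((b * t * b⁻¹) * (b * x 33 c * b⁻¹) * (b * (a₁ * x 40 d) * b⁻¹)) * a⁻¹ := by
        rw [a1, ea]; group
      _ = (a * t * a⁻¹) * (a * x 40 d * a⁻¹) * (a * (b₁ * x 33 c * a₁) * a⁻¹) *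
          (a * x 40 d * a⁻¹) := by
        rw [b1, eb, (Commute.mul_right (kb _ p1) (cb.nat 40 d).symm).eq]; group
      _ = t * (x 33 c * a₁) * (x 40 d * b₁) * x 33 c * (a₁ * a₁) * x 40 d := by
        rw [a1, ea, ((Commute.mul_right (ka _ p2) (ca.nat 33 c).symm).mul_right (ka _ p1)).eq]; group
      _ = t * a₁ * (x 33 c * b₁) * x 40 d * x 33 c * x 40 d := by
        rw [E.sq 44 s44 _ p1, (c1.nat 33 c).eq, (c2.nat 40 d).eq]; group
      _ = _ := by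
        rw [(c2.nat 33 c).eq, ← e1, cm, E.x_inv s33.1, E.x_inv s40.1]; group
  have p3 := mul_mem (mul_mem p1 p2) (E.le 44 s44 (c * d))
  generalize a₁ * b₁ * x 44 (c * d) = a₀ at h2 p3
  obtain ⟨f, rfl⟩ := E.fix 44 s44 _ p3 (by
    have : t * a₀ * (t * a₀) = 1 := by rw [← h2, conj_mul, E.tt, mul_one, mul_inv_cancel]
    rw [← inv_eq_of_mul_eq_one_right this, mul_inv_rev, E.inv s44 p3,
      inv_eq_of_mul_eq_one_right E.tt])
  obtain ⟨a₄, p4, h4⟩ := E.onto 44 s44 f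
  obtain ⟨g, e | e⟩ := E.kQ (a₄⁻¹ * cm a b) (by
      calc t * (a₄⁻¹ * cm a b) = a₄⁻¹ * (a₄ * t * a₄⁻¹) * cm a b := by group
        _ = _ := by rw [h4, ← h2]; group) fun s hs f =>
    Commute.mul_right ((E.cp 44 s44 _ p4).inv s ((by decide +kernel :
      ∀ r ∈ lQ 44 ++ [21, 22, 23, 24, 25, 26], r ∈ lY 44) s hs) f) (h1 s hs f)
  · rw [inv_mul_eq_iff_eq_mul.1 e]
    exact mul_mem p4 (E.le 44 s44 g)
  have p5 := mul_mem p4 (E.le 44 s44 g)
  rw [inv_mul_eq_iff_eq_mul, ← mul_assoc] at e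
  generalize a₄ * x 44 g = a₅ at e p5
  obtain ⟨f', h5, -⟩ := E.tca 44 s44 _ p5
  have h6 := inv_cm (E.sq 33 s33 a ha) b
  have h7 : x 33 c = x 44 f' := by
    rw [e, ← mul_assoc, ka _ p5, mul_assoc, mul_assoc, ← mul_assoc a, a1, mul_inv_rev,
      inv_eq_of_mul_eq_one_right E.tt] at h6
    rw [E.inv s44 p5] at h5 h6
    rw [← mul_right_inj t, ← h5, mul_assoc, ← h6, ← mul_assoc, E.sq 44 s44 _ p5, one_mul]
  have h8 : c = 0 := E.zero_of_comm 33 40 (by rw [h7]; exact E.xc 40 44 _ _)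
  rw [h8, E.x_zero s33.1, mul_one, mul_inv_eq_iff_eq_mul] at a1
  obtain ⟨f, rfl⟩ := E.fix 33 s33 a ha a1.symm
  rw [cm_swap]
  exact inv_mem (b3 f)

theorem neg2 (hr : S r) (hs : S s) (h : ip r s = -2) (ha : a ∈ A r) (hb : b ∈ A s) :
    cm a b ∈ A (ad r s) := by
  obtain ⟨n, ω, m, rfl, rfl, hA⟩ := E.mv2 r s hr hs h
  have := E.neg0 ((hA 33 (by decide +kernel) a).1 ha) ((hA 40 (by decide +kernel) b).1 hb)
  rw [← m.ad 33 (by decide) 40 (by decide) (by decide +kernel), show ad 33 40 = 44 by decide +kernel,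
    hA 44 (by decide +kernel)]
  simpa [cm, mul_assoc] using this

end Fm

/-- `g ∈ NW` acts on the roots as `ω`. -/
structure Ac (g : XF F) (ω : ℕ → ℕ) : Prop extends Wy ω where
  mem : g ∈ NW F
  cj : ∀ r < 48, ∀ a, g * x F r a * g⁻¹ = x F (ω r) a

theorem ac_rf {s : ℕ} (hs : s < 48) : Ac (n F s) (rf s) :=
  ⟨wy_rf hs, subset_closure ⟨s, hs, rfl⟩, fun _ hr => n_conj hs hr⟩

theorem Ac.comp {g g' : XF F} {ω ω' : ℕ → ℕ} (h : Ac g ω) (h' : Ac g' ω') : Ac (g * g') (ω ∘ ω') :=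
  ⟨h.toWy.comp h'.toWy, mul_mem h.mem h'.mem, fun r hr a => by
    rw [Function.comp, ← h.cj _ (h'.lt r hr), ← h'.cj r hr]; group⟩

theorem Ac.cjZ {g : XF F} {ω : ℕ → ℕ} (h : Ac g ω) {r : ℕ} (hr : r < 48) :
    cjs g (Z F r) = Z F (ω r) := by
  ext w
  rw [mem_Z (h.lt r hr)]
  refine ⟨?_, by rintro ⟨a, rfl⟩; exact ⟨_, (mem_Z hr).2 ⟨a, rfl⟩, h.cj r hr a⟩⟩
  rintro ⟨v, hv, rfl⟩
  obtain ⟨a, rfl⟩ := (mem_Z hr).1 hv
  exact ⟨a, h.cj r hr a⟩

theorem ac1 {r : ℕ} (hr : S r) : ∃ (g : XF F) (ω : ℕ → ℕ), Ac g ω ∧ ω 44 = r := by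
  obtain ⟨p, -, p1, p2, rfl⟩ := (by decide +kernel : ∀ r < 48, sh r = true → ∃ p ∈ [(0, 6), (0, 10),
    (0, 12), (0, 13), (1, 13), (0, 14), (1, 14), (2, 14), (3, 14), (0, 15), (0, 1), (0, 2), (0, 4),
    (0, 5), (0, 3), (0, 7), (0, 8), (0, 9), (1, 10), (0, 11), (1, 12), (2, 13), (4, 14), (0, 0)],
    p.1 < 48 ∧ p.2 < 48 ∧ rf p.1 (rf p.2 44) = r) r hr.1 hr.2
  exact ⟨_, _, (ac_rf p1).comp (ac_rf p2), rfl⟩

theorem ac0 {r s : ℕ} (hr : S r) (hs : S s) (h : ip r s = 0) :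
    ∃ (g : XF F) (ω : ℕ → ℕ), Ac g ω ∧ ω 44 = r ∧ ω 29 = s := by
  obtain ⟨g, ω, m, rfl⟩ := ac1 (F := F) hr
  obtain ⟨s, s1, rfl⟩ := m.sur s hs.1
  obtain ⟨q, q1, q2, rfl⟩ := (by decide +kernel : ∀ s < 48, sh s = true → ip 44 s = 0 →
    ∃ q < 48, rf q 44 = 44 ∧ rf q 29 = s) s s1 ((m.S s1).1 hs).2
    ((m.ip 44 (by decide) s s1).symm.trans h)
  exact ⟨_, _, m.comp (ac_rf q1), congrArg ω q2, rfl⟩

theorem ac2 {r s : ℕ} (hr : S r) (hs : S s) (h : ip r s = -2) :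
    ∃ (g : XF F) (ω : ℕ → ℕ), Ac g ω ∧ ω 33 = r ∧ ω 40 = s := by
  obtain ⟨g, ω, m, rfl⟩ := ac1 (F := F) hr
  obtain ⟨s, s1, rfl⟩ := m.sur s hs.1
  obtain ⟨q, -, q1, q2, q3, q4⟩ := (by decide +kernel : ∀ s < 48, sh s = true → ip 44 s = -2 →
    ∃ q ∈ [(15, 20), (15, 21), (15, 16), (15, 17), (15, 18), (15, 19), (16, 20), (0, 0)],
    q.1 < 48 ∧ q.2 < 48 ∧ (rf q.1 ∘ rf q.2 ∘ rf 15 ∘ rf 20 ∘ rf 40) 33 = 44 ∧
      (rf q.1 ∘ rf q.2 ∘ rf 15 ∘ rf 20 ∘ rf 40) 40 = s) s s1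
    ((m.S s1).1 hs).2 ((m.ip 44 (by decide) s s1).symm.trans h)
  have m' := (ac_rf (F := F) q1).comp ((ac_rf q2).comp ((ac_rf (s := 15) (by decide)).comp
    ((ac_rf (s := 20) (by decide)).comp (ac_rf (s := 40) (by decide)))))
  generalize rf q.1 ∘ rf q.2 ∘ rf 15 ∘ rf 20 ∘ rf 40 = ω' at q3 q4 m'
  exact ⟨_, _, m.comp m', congrArg ω q3, congrArg ω q4⟩

variable {e : XF F →* G} {t : G} {k : F} {A : ℕ → Subgroup G}

theorem mem_three {r s v : ℕ} (h : r < 48 ∧ s < 48 ∧ v < 48 ∧ 0 ≤ ip r s ∧ 0 ≤ ip r v ∧ 0 ≤ ip s v)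
    {g : XF F} (hg : g ∈ US F [r, s, v]) : ∃ a b c, g = x F r a * x F s b * x F v c := by
  obtain ⟨h1, h2, h3, h4, h5, h6⟩ := h
  have z := fun r (hr : r < 48) => show x F r 0 = 1 from (stB F).toSt.x_zero (R r hr)
  let f : Multiplicative (F × F × F) →* XF F := MonoidHom.mk'
    (fun p => x F r p.toAdd.1 * x F s p.toAdd.2.1 * x F v p.toAdd.2.2) fun p q => by
      rw [((show Commute _ _ from (x_c0 h1 h3 h5 _ _).symm).mul_right
        (x_c0 h2 h3 h6 _ _).symm).mul_mul_mul_comm,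
        (show Commute _ _ from (x_c0 h1 h2 h4 _ _).symm).mul_mul_mul_comm, (stB F).add r h1,
        (stB F).add s h2, (stB F).add v h3]
      rfl
  obtain ⟨p, hp⟩ := GS_le (K := f.range) (fun u hu a => by
    simp only [List.mem_cons, List.not_mem_nil, or_false] at hu
    rcases hu with rfl | rfl | rfl
    · exact ⟨Multiplicative.ofAdd (a, 0, 0), by simp [f, z, h2, h3]⟩
    · exact ⟨Multiplicative.ofAdd (0, a, 0), by simp [f, z, h1, h3]⟩
    · exact ⟨Multiplicative.ofAdd (0, 0, a), by simp [f, z, h1, h2]⟩) hg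
  exact ⟨_, _, _, hp.symm⟩

theorem tr_of (h : CH e t) (f : Fam e t k A) : Tr e t k := fun c => by
  have s44 : S 44 := by decide +kernel
  obtain ⟨a, ha, h1⟩ := f.onto 44 s44 c
  obtain ⟨c', h2⟩ := f.tc 44 s44 a ha
  obtain rfl := (stB F).x_injective (R 44) (h.inj (mul_left_cancel (h1.symm.trans h2.1)))
  exact ⟨a, f.cp 44 s44 ha, h2⟩

theorem Ac.mem_A (f : Fam e t k A) {g : XF F} {ω : ℕ → ℕ} (m : Ac g ω) {v : ℕ} (hv : S v) (a : G) :
    a ∈ A (ω v) ↔ (e g)⁻¹ * a * e g ∈ A v := by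
  rw [← f.eqv g m.mem v _ hv ((m.S hv.1).2 hv) (m.cjZ hv.1)]
  exact ⟨by rintro ⟨b, hb, rfl⟩; simpa [mul_assoc] using hb, fun h => ⟨_, h, by simp [mul_assoc]⟩⟩

theorem fm (c : FC F) (h : CH e t) (f : Fam e t k A) : Fm (fun r c => e (x F r c)) t k A where
  toEnv := env c h (tr_of h f)
  le r hr a := f.le r hr ((mem_mapZ hr.1).2 ⟨a, rfl⟩)
  sq := f.sq
  tca := f.tc
  onto := f.onto
  fix r hr a ha h1 := (mem_mapZ hr.1).1 (f.fix r hr a ha (mem_Cz.2 h1))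
  cp r hr a ha := cy_iff.1 (f.cp r hr ha)
  col r s hr hs h1 a ha b hb := f.col r s hr hs h1 ha b hb
  neg := f.neg
  kQ w h1 h2 := by
    obtain ⟨ζ, h3, h4⟩ := ct h c.cY h1 h2
    obtain ⟨a, rfl⟩ := (mem_Z (by decide)).1 h3
    exact ⟨a, h4⟩
  kP w h1 h2 := by
    obtain ⟨ζ, h3, h4⟩ := ct h c.cP h1 fun r hr =>
      have := (by decide +kernel : ∀ r ∈ [17, 22, 24, 25, 26, 30, 31, 32, 36, 38, 39, 40, 42, 43, 45,
        46, 47], r ∈ lY 44 ∧ r ∈ lY 29) r hr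
      h2 r this.1 this.2
    obtain ⟨a, b, d, rfl⟩ := mem_three (by decide +kernel) h3
    exact ⟨a, b, d, by rwa [map_mul, map_mul] at h4⟩
  mv0 r s hr hs h1 := let ⟨_, _, m, h2, h3⟩ := ac0 (F := F) hr hs h1
    ⟨_, _, mv_of h m.toWy m.cj, h2, h3, fun _ hv => m.mem_A f hv⟩
  mv2 r s hr hs h1 := let ⟨_, _, m, h2, h3⟩ := ac2 (F := F) hr hs h1
    ⟨_, _, mv_of h m.toWy m.cj, h2, h3, fun _ hv => m.mem_A f hv⟩

theorem jobP3a (hFC : JobFC) : JobP3a.{u} := fun F _ _ _ _ _ _ _ _ _ _ h f =>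
  ⟨f, fun r s hr hs h1 _ ha _ hb => (mem_mapZ ((by decide +kernel : ∀ r < 48, ∀ s < 48,
      sh r = true → sh s = true → ip r s = 0 → ad r s < 48) r hr.1 s hs.1 hr.2 hs.2 h1)).2
      ((fm (hFC F) h f).pol hr hs h1 ha hb),
    fun _ _ hr hs h1 _ ha _ hb => (fm (hFC F) h f).neg2 hr hs h1 ha hb⟩

end H84.SP
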