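import Cfsg.Agent.H64.SFBasic
import Cfsg.Agent.H84.SfP3

/-! STD-F4 job `X4`: the short family and the long family commute. -/

set_option autoImplicit false
set_option linter.unusedSectionVars false
set_option synthInstance.maxSize 2000

namespace H84.SX

open Subgroup H64.SF
open H64.SG (Cz Cs mem_Cz)
open H67.SA (cm cm_eq_one)
open H46.SF (sh)
open H86.WR (XF US)
open H68 (rhoF4)
open H84.SP (inv_cm cm_swap conj_cm)

universe u

variable {F : Type} [Field F] [Finite F] [CharP F 2] {G : Type u} [Group G] {e e' : XF F →* G} {t : G}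
  {R R' : Type} [CommRing R] [CommRing R'] {ι : F →+* R} {ι' : F →+* R'} {σ : RingAut R}
  {σ' : RingAut R'} {η : R} {η' : R'} {y : ℕ → R → G} {y' : ℕ → R' → G} {k k' : Bool} {r s l : ℕ}

theorem mem_two (hs : s < 48) (hl : l < 48) (h : 0 ≤ ip s l) {g : XF F} (hg : g ∈ US F [s, l]) :
    ∃ a b, g = x F s a * x F l b := by
  obtain ⟨a, b, c, rfl⟩ := H84.SP.mem_three ⟨hs, hl, hl, h, h, (ip_pos l hl).le⟩
    (US_mono (l' := [s, l, l]) (by simp) hg)
  exact ⟨a, b + c, by rw [mul_assoc, x_add hl]⟩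

theorem Mir.sur (m : Mir e e') (hr : r < 48) (c : F) : ∃ d, e (x F r c) = e' (x F (rhoF4 r) d) := by
  obtain ⟨φ, ψ, -, h1, h2, -⟩ := m.symm.ex
  cases h : sh r
  exacts [⟨_, h2 r ⟨hr, h⟩ c⟩, ⟨_, h1 r ⟨hr, h⟩ c⟩]

section SY

variable {θ : MulAut G} (Y : SY e θ k ι σ η y)
include Y

theorem two_eq (a : R) : a + a = 0 := by
  rw [← two_mul, ← map_ofNat ι 2, CharTwo.two_eq_zero, map_zero, zero_mul]

theorem y_zero (hr : S r) : y r 0 = 1 := by
  have := Y.add r hr 0 0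
  rwa [add_zero, mul_eq_left] at this

theorem y_sq (hr : S r) (a : R) : y r a * y r a = 1 := by rw [Y.add r hr, two_eq Y, y_zero Y hr]

theorem y_inv (hr : S r) (a : R) : (y r a)⁻¹ = y r a := inv_eq_of_mul_eq_one_right (y_sq Y hr a)

theorem exists_tr (a : R) : ∃ c, ι c = a + σ a :=
  (Y.rg.fix _).1 (by rw [map_add, Y.rg.ss, add_comm])

/-- The twist is an involution. -/
theorem tw_tw (b : Bool) (a : R) : (if b then σ (if b then σ a else a) else if b then σ a else a) = a := by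
  cases b <;> simp [Y.rg.ss]

theorem y_cP (hk : k = false) (hr : S r) (hs : s ∈ lP r) (a : R) (c : F) :
    y r a * e (x F s c) = e (x F s c) * y r a := by
  obtain ⟨h1, h2⟩ := mem_lP.1 hs
  by_cases h : s ∈ lY r
  · exact Y.cp r hr s h a c
  have h3 : S s ∧ ip r s = 0 ∧ ad r s < 48 := (by decide +kernel : ∀ r < 48, ∀ s < 48, sh r = true →
    0 ≤ ip r s → s ∉ lY r → S s ∧ ip r s = 0 ∧ ad r s < 48) r hr.1 s h1 hr.2 h2 h
  obtain ⟨d, hd⟩ := (Y.rg.fix (a * σ (ι c) + σ a * ι c)).1 (by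
    rw [map_add, map_mul, map_mul, Y.rg.ss, Y.rg.ss, add_comm])
  have := Y.c90 r s hr h3.1 h3.2.1 a (ι c) d hd
  rwa [hk, if_neg (by simp), x_zero h3.2.2, map_one, cm_eq_one, Y.yx s h3.1] at this

end SY

theorem y_t (Y : SY e (MulAut.conj t) k ι σ η y) (tt : t * t = 1) (hr : S r) {a : R} {c : F}
    (hc : ι c = a + σ a) : y r a * t * (y r a)⁻¹ = t * e (x F r c) := by
  have := Y.ty r hr a
  rw [MulAut.conj_apply, inv_eq_of_mul_eq_one_right tt] at this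
  rw [← Y.yx r hr, hc, add_comm, ← Y.add r hr, ← this, y_inv Y hr, ← mul_assoc, ← mul_assoc,
    ← mul_assoc, tt, one_mul]

theorem mv_of (Y : SY e (MulAut.conj t) k ι σ η y) (tt : t * t = 1) : Mv e t :=
  ⟨y 44 η, 1, one_ne_zero, y_t Y tt (by decide +kernel) (by
    rw [Y.rg.eta, ← add_assoc, two_eq Y, zero_add, map_one]),
    Y.cp 44 (by decide +kernel) 44 (by decide +kernel) _ _⟩

theorem step1 (h : CH e t) {T : List ℕ} (ca : CA F T [s, l]) (hs : s < 48) (hl : l < 48)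
    (h0 : 0 ≤ ip s l) (sT : s ∈ T) (lT : l ∈ T) {a b : G} {c d : F} (aa : a * a = 1) (bb : b * b = 1)
    (a1 : a * t * a⁻¹ = t * e (x F s c)) (b1 : b * t * b⁻¹ = t * e (x F l d))
    (a2 : ∀ u ∈ T, ∀ f, Commute a (e (x F u f))) (b2 : ∀ u ∈ T, ∀ f, Commute b (e (x F u f)))
    (a3 : c = 0 → ∃ f, a = e (x F s f)) : ∃ u v, cm a b = e (x F s u * x F l v) := by
  have sq : ∀ r < 48, ∀ f, e (x F r f) * e (x F r f) = 1 := fun r hr f => by
    rw [← map_mul, x_sq hr, map_one]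
  have c1 : ∀ f g, Commute (e (x F s f)) (e (x F l g)) := fun f g => Commute.map (x_c0 hs hl h0 f g) e
  have h1 : cm a b * t * (cm a b)⁻¹ = t := by
    calc _ = a * b * (a⁻¹ * (b⁻¹ * t * b⁻¹⁻¹) * a⁻¹⁻¹) * b⁻¹ * a⁻¹ := by rw [cm]; group
      _ = a * (b * ((a * t * a⁻¹) * (a * e (x F l d) * a⁻¹)) * b⁻¹) * a⁻¹ := by
        have ai := inv_eq_of_mul_eq_one_right aa
        rw [show b⁻¹ * t * b⁻¹⁻¹ = t * e (x F l d) by rw [inv_eq_of_mul_eq_one_right bb, b1],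
          show a⁻¹ * (t * e (x F l d)) * a⁻¹⁻¹ = a * (t * e (x F l d)) * a⁻¹ by rw [ai, ai]]; group
      _ = a * ((b * t * b⁻¹) * (b * (e (x F s c) * e (x F l d)) * b⁻¹)) * a⁻¹ := by
        rw [a1, (a2 l lT d).eq]; group
      _ = a * t * a⁻¹ * (a * e (x F s c) * a⁻¹) := by
        rw [b1, ((b2 s sT c).mul_right (b2 l lT d)).eq, mul_inv_cancel_right, (c1 c d).eq,
          mul_assoc t, ← mul_assoc (e (x F l d)), sq l hl]; group
      _ = t := by rw [a1, (a2 s sT c).eq, mul_inv_cancel_right, mul_assoc, sq s hs, mul_one]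
  obtain ⟨ζ, hζ, h2⟩ := h.ca ca (mem_Cz.2 (mul_inv_eq_iff_eq_mul.1 h1).symm) fun u hu f =>
    ((((a2 u hu f).mul_left (b2 u hu f)).mul_left (a2 u hu f).inv_left).mul_left (b2 u hu f).inv_left)
  obtain ⟨u, v, rfl⟩ := mem_two hs hl h0 hζ
  rcases h2 with h2 | h2
  · exact ⟨u, v, h2⟩
  have h3 := inv_cm aa b
  have h4 : e (x F s u * x F l v) * e (x F s u * x F l v) = 1 := by
    rw [map_mul, (c1 u v).symm.mul_mul_mul_comm, sq s hs, sq l hl, mul_one]
  have h5 : Commute a (e (x F s u * x F l v)) := by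
    rw [map_mul]; exact (a2 s sT u).mul_right (a2 l lT v)
  rw [h2, mul_inv_rev, inv_eq_of_mul_eq_one_right h4, inv_eq_of_mul_eq_one_right h.inv.1,
    h.cen _ ⟨_, rfl⟩, ← mul_assoc, mul_assoc (a * t), h5.symm.inv_right.eq, ← mul_assoc, a1,
    mul_left_inj, mul_eq_left, ← e.map_one] at h3
  obtain ⟨f, rfl⟩ := a3 ((x_eq_one hs).1 (h.inj h3))
  exact ⟨0, 0, by rw [cm_eq_one.2 (b2 s sT f).symm.eq, x_zero hs, x_zero hl, mul_one, map_one]⟩

/-- The numerical data of the two cases. -/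
abbrev Dt (T : List ℕ) (s l s' p : ℕ) : Prop := S s ∧ l < 48 ∧ S s' ∧ S p ∧ rhoF4 s = l ∧ 0 ≤ ip s l ∧
  s ∈ T ∧ l ∈ T ∧ s' ∈ T ∧ p ∈ T ∧ ip s' p = -2 ∧ ad s' p = s ∧ rf p s = s' ∧ rf p l = l ∧
  rf (rhoF4 p) s = s ∧ 0 ≤ ip l p ∧ p ≠ 47 - s' ∧ 0 ≤ ip s' s

theorem step2 (h : CH e t) (m : Mir e e') (Y : SY e (MulAut.conj t) k ι σ η y)
    (Y' : SY e' (MulAut.conj t) k' ι' σ' η' y') {T : List ℕ} (ca : CA F T [s, l]) {s' p : ℕ}
    (D : Dt T s l s' p) (a2 : ∀ a, ∀ u ∈ T, ∀ f, Commute (y s a) (e (x F u f)))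
    (b2 : ∀ b, ∀ u ∈ T, ∀ f, Commute (y' s b) (e (x F u f))) (a : R) (b : R') :
    ∃ u, cm (y' s b) (y s a) = e (x F s u) := by
  obtain ⟨hs, hl, hs', hp, d1, d2, sT, lT, sT', pT, d3, d4, d5, d6, d7, d8, d9, d10⟩ := D
  obtain ⟨φ, ψ, -, m1, -, -⟩ := m.ex
  obtain ⟨-, -, -, -, -, m2⟩ := m.symm.ex
  have k1 : ∀ a b, ∃ u v, cm (y s a) (y' s b) = e (x F s u * x F l v) := fun a b => by
    obtain ⟨c, hc⟩ := exists_tr Y a
    obtain ⟨d, hd⟩ := exists_tr Y' b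
    refine step1 h ca hs.1 hl d2 sT lT (y_sq Y hs a) (y_sq Y' hs b) (y_t Y h.inv.1 hs hc)
      (by rw [y_t Y' h.inv.1 hs hd, m1 s hs, d1]) (a2 a) (b2 b) fun c0 => ?_
    obtain ⟨f, rfl⟩ := (Y.rg.fix a).1 (by
      rw [c0, map_zero] at hc
      rw [← add_zero (σ a), hc, add_left_comm, two_eq Y, add_zero])
    exact ⟨f, Y.yx s hs f⟩
  have k2 : ∀ a b, ∃ u v, cm (y s' a) (y' s b) = e (x F s' u * x F l v) := fun a b => by
    obtain ⟨u, v, e1⟩ := k1 (if sh p && k then σ a else a) (if sh (rhoF4 p) && k' then σ' b else b)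
    have e2 := Y.nw s hs p hp.1 (if sh p && k then σ a else a)
    have e3 := Y'.nw s hs _ (rho_lt p hp.1).1 (if sh (rhoF4 p) && k' then σ' b else b)
    rw [tw_tw Y, d5] at e2
    rw [tw_tw Y', d7, ← m2 p hp.1] at e3
    refine ⟨u, v, ?_⟩
    rw [← e2, ← e3, ← conj_cm, e1, ← map_inv, ← map_mul, ← map_mul, ← conj_mul, n_conj hp.1 hs.1,
      n_conj hp.1 hl, d5, d6]
  obtain ⟨u, v, e1⟩ := k2 (if k then σ a else a) b
  have e2 := Y.c120 s' p hs' hp d3 (if k then σ a else a) (ι 1)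
  rw [Y.yx p hp, map_one, mul_one, tw_tw Y, d4] at e2
  have e3 := x_c1 hs'.1 hp.1 (hs'.2.trans hp.2.symm) (by omega) d9 u (1 : F)
  rw [d4, mul_one] at e3
  have e4 : cm (x F s' u * x F l v)⁻¹ (x F p 1) = x F s u := by
    rw [mul_inv_rev, x_inv hl, x_inv hs'.1, ← x_c0 hs'.1 hl (by rw [← d5, ← d6, ip_rf hp.1 hs.1 hl]; exact d2),
      ← e3, cm, cm, mul_assoc (x F s' u), x_c0 hl hp.1 d8]
    group
  refine ⟨u, ?_⟩
  have c1 : Commute (y s a) (e (x F s' u * x F l v)⁻¹) := by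
    rw [map_inv, map_mul]; exact ((a2 a s' sT' u).mul_right (a2 a l lT v)).inv_right
  have c2 := (a2 a s sT u).eq
  have e5 : e (cm (x F s' u * x F l v)⁻¹ (x F p 1)) = cm (e (x F s' u * x F l v)⁻¹) (e (x F p 1)) := by
    simp only [cm, map_mul, map_inv]
  rw [e4] at e5
  have e6 : y' s b * y s' (if k then σ a else a) * (y' s b)⁻¹ =
      e (x F s' u * x F l v)⁻¹ * y s' (if k then σ a else a) := by rw [map_inv, ← e1, cm]; group
  calc _ = y' s b * cm (y s' (if k then σ a else a)) (e (x F p 1)) * (y' s b)⁻¹ * (y s a)⁻¹ := by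
        rw [e2, cm]
    _ = e (x F s' u * x F l v)⁻¹ * cm (y s' (if k then σ a else a)) (e (x F p 1)) *
        (e (x F s' u * x F l v)⁻¹)⁻¹ * cm (e (x F s' u * x F l v)⁻¹) (e (x F p 1)) * (y s a)⁻¹ := by
        rw [conj_cm, e6, (b2 b p pT 1).eq, mul_inv_cancel_right]; simp only [cm]; group
    _ = _ := by rw [e2, ← c1.eq, mul_inv_cancel_right, ← e5, c2, mul_inv_cancel_right]

theorem step3 (h : CH e t) (m : Mir e e') (hs : S s) {a b : G} (h1 : ∃ u, cm b a = e (x F s u))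
    (h2 : ∃ u, cm a b = e' (x F s u)) : a * b = b * a := by
  obtain ⟨u, h1⟩ := h1
  obtain ⟨v, h2⟩ := h2
  obtain ⟨φ, ψ, -, m1, -, -⟩ := m.ex
  rw [cm_swap, h1, m1 s hs, ← map_inv, x_inv hs.1] at h2
  by_cases u0 : u = 0
  · rw [u0, x_zero hs.1, map_one, cm_eq_one] at h1
    exact h1.symm
  have := (rho_lt s hs.1).2.2.1
  rw [← x_ne hs.1 (rho_lt s hs.1).1 u0 (h.inj h2), hs.2] at this
  exact absurd this (by decide)

theorem trans {P : ℕ → ℕ → Prop} (hP : ∀ q < 48, ∀ s l, S s → L l → P s l → P (rf q s) (rf q l))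
    {i : ℤ} (h0 : ∀ l, L l → ip 44 l = i → P 44 l) (hs : S s) (hl : L l) (h : ip s l = i) :
    P s l := by
  have k : ∀ w, Wd w → ∀ s l, S s → L l → P s l → P (act w s) (act w l) := fun w hw s l hs hl h => by
    induction w with
    | nil => exact h
    | cons q w ih =>
      have h1 : Wd w := fun v hv => hw v (List.mem_cons_of_mem _ hv)
      exact hP q (hw q List.mem_cons_self) _ _ ⟨(act_lt h1 hs.1).1, (act_lt h1 hs.1).2.trans hs.2⟩
        ⟨(act_lt h1 hl.1).1, (act_lt h1 hl.1).2.trans hl.2⟩ (ih h1)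
  obtain ⟨-, h1, h2⟩ := wd0_spec s hs.1
  rw [hs.2, if_pos rfl] at h2
  have h3 : act (wd0 s) (act (wd0 s).reverse l) = l := by simpa using act_reverse h1.reverse hl.1
  have h4 := act_lt h1.reverse hl.1
  have := k _ h1 44 _ (by decide +kernel) ⟨h4.1, h4.2.trans hl.2⟩ (h0 _ ⟨h4.1, h4.2.trans hl.2⟩ (by
    rw [← ip_act h1 (by decide) h4.1, h2, h3, h]))
  rwa [h2, h3] at this

theorem cr_rf (m : Mir e e') {θ : MulAut G} (Y : SY e θ k ι σ η y) (Y' : SY e' θ k' ι' σ' η' y') :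
    ∀ q < 48, ∀ s l, S s → L l → (∀ a b, y s a * y' (rhoF4 l) b = y' (rhoF4 l) b * y s a) →
      ∀ a b, y (rf q s) a * y' (rhoF4 (rf q l)) b = y' (rhoF4 (rf q l)) b * y (rf q s) a :=
  fun q hq s l hs hl h a b => by
    obtain ⟨-, -, -, -, -, m2⟩ := m.symm.ex
    have e2 := Y.nw s hs q hq (if sh q && k then σ a else a)
    have e3 := Y'.nw (rhoF4 l) ⟨(rho_lt l hl.1).1, by rw [(rho_lt l hl.1).2.2.1, hl.2]; rfl⟩ _
      (rho_lt q hq).1 (if sh (rhoF4 q) && k' then σ' b else b)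
    rw [tw_tw Y] at e2
    rw [tw_tw Y', (ip_rho q hq l hl.1).2.2, ← m2 q hq] at e3
    rw [← e2, ← e3, conj_mul, conj_mul, h]

theorem four (c : FC F) (h : CH e t) (m : Mir e e') (Y : SY e (MulAut.conj t) k ι σ η y)
    (Y' : SY e' (MulAut.conj t) k' ι' σ' η' y') (a : R) (b : R') :
    ∃ u, cm (y' 44 b) (y 44 a) = e (x F 44 u) := by
  have k : ∀ u ∈ [24, 26, 31, 32, 33, 34, 35, 36, 37, 38, 39, 40, 42, 43, 44, 45, 46, 47],
      u < 48 ∧ u ∈ lY 44 ∧ rhoF4 u ∈ lY 44 := by decide +kernel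
  refine step2 (s' := 40) (p := 33) h m Y Y' c.c45 (by decide +kernel)
    (fun a u hu f => Y.cp 44 (by decide +kernel) u (k u hu).2.1 a f) (fun b u hu f => ?_) a b
  obtain ⟨d, hd⟩ := Mir.sur m (k u hu).1 f
  exact hd ▸ Y'.cp 44 (by decide +kernel) _ (k u hu).2.2 b d

theorem zero (c : FC F) (h : CH e t) (m : Mir e e') (Y : SY e (MulAut.conj t) false ι σ η y)
    (Y' : SY e' (MulAut.conj t) false ι' σ' η' y') (a : R) (b : R') :
    ∃ u, cm (y' 39 b) (y 39 a) = e (x F 39 u) := by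
  have k : ∀ u ∈ (lP 39).filter (· ∈ lP 45), u < 48 ∧ u ∈ lP 39 ∧ rhoF4 u ∈ lP 39 := by
    decide +kernel
  refine step2 (s' := 35) (p := 29) h m Y Y' c.c90 (by decide +kernel)
    (fun a u hu f => y_cP Y rfl (by decide +kernel) (k u hu).2.1 a f) (fun b u hu f => ?_) a b
  obtain ⟨d, hd⟩ := Mir.sur m (k u hu).1 f
  exact hd ▸ y_cP Y' rfl (by decide +kernel) (k u hu).2.2 b d

theorem jobX4 (hFC : JobFC) : JobX4.{u} := by
  intro F _ _ _ G _ _ e t R _ ι σ η y e' R' _ ι' σ' η' y' k k' h m Y Y'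
  have h' := m.ch h (mv_of Y' h.inv.1)
  have P := cr_rf m Y Y'
  refine ⟨fun s l hs hl hi => trans P (fun l hl hi => ?_) hs hl hi, ?_⟩
  · obtain ⟨q, q1, q2, q3⟩ := (by decide +kernel : ∀ l < 48, sh l = false → ip 44 l = 4 →
      ∃ q < 48, rf q 44 = 44 ∧ rf q 47 = l) l hl.1 hl.2 hi
    have := P q q1 44 47 (by decide +kernel) (by decide +kernel) fun a b =>
      step3 h m (by decide +kernel) (four (hFC F) h m Y Y' a b) (four (hFC F) h' m.symm Y' Y b a)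
    rwa [q2, q3] at this
  · rintro rfl rfl s l hs hl hi
    refine trans P (fun l hl hi => ?_) hs hl hi
    obtain ⟨q, -, q1, q2, q3, q4, q5⟩ := (by decide +kernel : ∀ l < 48, sh l = false → ip 44 l = 0 →
      ∃ q ∈ [(15, 20), (15, 16), (15, 17), (15, 21), (15, 22), (15, 18), (15, 19), (16, 20), (16, 17), (16, 18), (17, 19), (15, 15)],
        q.1 < 48 ∧ q.2 < 48 ∧ rf q.1 44 = 44 ∧ rf q.2 44 = 44 ∧ rf q.1 (rf q.2 32) = l)
      l hl.1 hl.2 hi
    have h1 := P 34 (by decide) 39 45 (by decide +kernel) (by decide +kernel) fun a b =>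
      step3 h m (by decide +kernel) (zero (hFC F) h m Y Y' a b) (zero (hFC F) h' m.symm Y' Y b a)
    rw [show rf 34 39 = 44 by decide +kernel, show rf 34 45 = 32 by decide +kernel] at h1
    have h2 := P _ q2 44 32 (by decide +kernel) (by decide +kernel) h1
    rw [q4] at h2
    have h3 := rf_lt _ q2 32 (by decide)
    have h4 := P _ q1 44 _ (by decide +kernel) ⟨h3.1, h3.2.2.1.trans (by decide +kernel)⟩ h2
    rwa [q3, q5] at h4

end H84.SX
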