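import Cfsg.Agent.H84.SfW1
import Cfsg.Agent.H98.Coprime

/-! STD-F4, wreath endgame: `JobCT`. -/

set_option autoImplicit false
set_option linter.unusedSectionVars false

namespace H84.SfW

open H64.SG (O2 Syl Cz Cs Ns cjs Is2 Inv2 UF IsO2 fx mem_Cs mem_Cz mem_fx isPGroup_iff_is2
  is2_of_sq syl_iff)
open H67.SA (St cI cm mem_cI mem_cjs conj_mem_cjs card_cjs conj_mem_St mem_St_of_finite)
open H59.SO Subgroup Function H98 H86.WR
open H18.SA (rel_mul_card)

section Gen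

variable {G : Type*} [Group G] [Finite G] {O R T A : Subgroup G}

theorem inf_odd (hO : Odd (Nat.card O)) (hR : IsPGroup 2 R) : O ⊓ R = ⊥ :=
  eq_bot_iff.2 fun g hg =>
    (isPGroup_iff_is2.1 hR g hg.2).eq_one (H64.SG.odd_orderOf_of_mem hO hg.1)

/-- An odd group and a `2`-group that normalise each other commute. -/
theorem le_Cs_of_odd (hO : Odd (Nat.card O)) (hR : IsPGroup 2 R) (h1 : O ≤ Ns R) (h2 : R ≤ Ns O) :
    O ≤ Cs R := commutator_eq_bot_iff_le_centralizer.1 (eq_bot_iff.2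
  ((le_inf (commutator_le_left' h2) (commutator_le_right' h1)).trans (inf_odd hO hR).le))

/-- Burnside for a central Sylow `2`-subgroup. -/
theorem odd_O2_of_central (hT : IsSyl 2 T A) (h : A ≤ Cs T) : Odd (Nat.card (O2 A)) := by
  obtain ⟨P, hP⟩ := hT.exists_sylow_map
  have h1 := H7.hasNPC_iff_not_dvd.1 ((H7.hasNPC_iff_sylow P).2 ⟨_, inferInstance,
    MonoidHom.ker_transferSylow_isComplement' P fun a _ b hb =>
      Subtype.ext (h a.2 b (hP ▸ ⟨b, hb, rfl⟩))⟩)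
  rw [← res_subgroupOf, Nat.card_congr (subgroupOfEquivOfLe (res_le A)).toEquiv,
    ← H64.SG.O2_eq] at h1
  exact Nat.not_even_iff_odd.1 fun h => h1 (even_iff_two_dvd.1 h)

end Gen

variable {X : Type} [Group X] [Finite X] {U D A R : Subgroup X} {q : ℕ} {β : MulAut X}

theorem oc_of (bt : FC X q) (y : X) (hy : Inv2 y) (O : Subgroup X) (h1 : O ≤ Cz y)
    (h2 : Odd (Nat.card O)) (h3 : Cz y ≤ Ns O) : O = ⊥ := by
  obtain ⟨R, r1, r2, r3, -⟩ := bt y hy
  have e : Cs (zpowers y) = Cz y := Subgroup.ext fun _ => H64.SG.mem_Cs_zpowers.trans mem_Cz.symm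
  have k := thompson_AB r1 (is2_of_sq hy.1).zpowers
    (res_eq_self_of_coprime (Nat.coprime_two_right.2 h2)) (zpowers_le.2 (r2 (mem_Cz.2 rfl)))
    (h1.trans r2) (by
      rw [commutator_comm, commutator_eq_bot_iff_le_centralizer]; exact h1.trans e.ge)
    (le_centralizer_iff.1 (le_Cs_of_odd h2 (r1.to_le inf_le_left)
      (le_normalizer_inf (h1.trans r2) (le_normalizer_of_le (h1.trans e.ge)))
      (inf_le_right.trans (e.le.trans h3))))
  rw [← inf_odd h2 r1, left_eq_inf]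
  exact (le_centralizer_iff.1 k).trans r3

section WF

variable (w : WF U D A q)
include w

theorem R_le (hR : R = D ∨ R = A) : R ≤ U := by
  rcases hR with rfl | rfl
  exacts [w.le.1.trans (commutator_le_of_le le_rfl le_rfl),
    w.le.2.trans (commutator_le_of_le le_rfl le_rfl)]

theorem U_le_Ns (hR : R = D ∨ R = A) : U ≤ Ns R := fun u hu => by
  have k := w.inv (fun a => u * a * u⁻¹) ⟨⟨fun a ha => mul_mem (mul_mem hu ha) (inv_mem hu),
    fun a _ b _ h => by simpa using h, fun a ha =>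
      ⟨u⁻¹ * a * u, mul_mem (mul_mem (inv_mem hu) ha) hu, by group⟩⟩, fun a _ b _ => by group⟩
  refine mem_normalizer_of_cj_le ?_
  rintro _ ⟨a, ha, rfl⟩
  rcases hR with rfl | rfl
  exacts [k.1 a ha, k.2 a ha]

theorem exists_cen : ∃ z ∈ U, z ≠ 1 ∧ z ∈ Cs U := by
  have : Nontrivial U := Finite.one_lt_card_iff_nontrivial.1
    (by rw [w.card]; exact Nat.one_lt_pow (by norm_num) w.two)
  obtain ⟨⟨z, hz⟩, h2⟩ := (nontrivial_iff_exists_ne 1).1 w.syl.2.1.center_nontrivial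
  exact ⟨z, z.2, fun k => h2 (Subtype.ext (Subtype.ext k)), fun a ha =>
    congrArg Subtype.val (mem_center_iff.1 hz ⟨a, ha⟩)⟩

theorem Cs_le (hR : R = D ∨ R = A) : Cs R ≤ U := by
  have s := syl_iff.1 w.syl
  have n1 : U ≤ Ns (Cs R) := le_normalizer_centralizer (U_le_Ns w hR)
  have s1 := s.inf_of_le_normalizer le_top n1
  have o := odd_O2_of_central s1 (centralizer_le fun a ha => ((w.cr R hR).1 a ha.1 ha.2).1)
  obtain ⟨z, z1, z2, z3⟩ := exists_cen w
  obtain ⟨z4, z5⟩ := (w.cr R hR).1 z z1 (centralizer_le (R_le w hR) z3)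
  obtain ⟨R', r1, r2, r3, -⟩ := w.bt z ⟨z5, z2⟩
  have r4 : R' ≤ U := s.le_of_le_normalizer r1 le_top
    (le_trans (fun u hu => mem_Cz.2 (z3 u hu).symm) r2)
  have k := le_Cs_of_odd o r1 ((H64.SG.O2_le _).trans
    (le_trans (fun a ha => mem_Cz.2 (ha z z4)) r2)) (r4.trans (n1.trans (H64.SG.Ns_le_Ns_O2 _)))
  have k1 : O2 (Cs R) = ⊥ := by rw [← inf_odd o r1, left_eq_inf]; exact k.trans r3
  rw [H64.SG.O2_eq, res_eq_bot_iff] at k1
  exact (s1.eq_of_isPGroup k1).ge.trans inf_le_left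

theorem quot_mem (h : ∀ u ∈ R, β u = u) {g : X} (hg : g ∈ Ns R) : g⁻¹ * β g ∈ Cs R := fun u hu => by
  have := h _ (conj_mem_of_mem_normalizer hg hu)
  rw [map_mul, map_mul, h u hu, map_inv] at this
  calc _ = g⁻¹ * (g * u * g⁻¹) * β g := by group
    _ = _ := by rw [← this]; group

theorem odd_fix (hR : R = D ∨ R = A) (h : ∀ u ∈ R, β u = u) (ho : Odd (orderOf β)) {g : X}
    (hg : g ∈ Ns R) : β g = g := by
  have k := quot_mem w h hg
  obtain ⟨k1, k2⟩ := (w.cr R hR).1 _ (Cs_le w hR k) k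
  refine H64.SG.mem_of_sq_mem (K := MulAction.stabilizer (MulAut X) g) ?_ ho
  change β (β g) = g
  have k3 := h _ k1
  rw [map_mul, map_inv, inv_mul_eq_iff_eq_mul] at k3
  rw [k3, ← mul_inv_cancel_left g (β g), mul_assoc, mul_inv_cancel_left, k2, mul_one]

theorem odd_one (hR : R = D ∨ R = A) (h : ∀ u ∈ R, β u = u) (ho : Odd (orderOf β)) : β = 1 := by
  have k : ∀ u ∈ U, β u = u := fun u hu => odd_fix w hR h ho (U_le_Ns w hR hu)
  have : (⊤ : Subgroup X) ≤ fx β := w.top.ge.trans ((closure_le _).2 (by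
    rintro _ ⟨u, hu, p, hp, rfl⟩
    have : β p = p := hp.elim
      (odd_fix w (.inl rfl) (fun a ha => k a (R_le w (.inl rfl) ha)) ho)
      (odd_fix w (.inr rfl) (fun a ha => k a (R_le w (.inr rfl) ha)) ho)
    exact mul_mem (mul_mem this (k u hu)) (inv_mem this)))
  exact MulEquiv.ext fun a => this (mem_top a)

theorem ct_of (R : Subgroup X) (hR : R = D ∨ R = A) (β : MulAut X) (h : ∀ u ∈ R, β u = u) :
    ∃ ζ ∈ R, ζ * ζ = 1 ∧ β = MulAut.conj ζ := by
  have k : ∀ u ∈ U, u⁻¹ * β u ∈ U ⊓ Cs R := fun u hu =>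
    have := quot_mem w h (U_le_Ns w hR hu)
    ⟨Cs_le w hR this, this⟩
  obtain ⟨i, j, e0, e1, e2⟩ := H64.SG.exists_two_odd β
  rw [odd_one w hR (fun u hu => (MulAction.stabilizer (MulAut X) u).pow_mem (h u hu) j) e2,
    mul_one] at e0
  have k1 : β ∈ cI U := by
    by_contra k2
    refine absurd ((w.ub β (mem_St_of_finite fun u hu => by
      simpa using mul_mem hu (k u hu).1) (e0 ▸ e1) k2).trans ((rel_le_of_fun (T := ↥(U ⊓ Cs R))
        (fun a => ⟨_, k a⁻¹ (inv_mem a.2)⟩) fun a b hab => ?_).trans (w.cr R hR).2)) ?_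
    · have := congrArg Subtype.val hab
      simp only [inv_inv, map_inv] at this
      rw [mem_fx, map_mul, map_inv]
      calc _ = (a : X)⁻¹ * (a * (β a)⁻¹) * β b := by group
        _ = _ := by rw [this]; group
    · exact (Nat.pow_lt_pow_right w.two (by norm_num)).not_ge
  obtain ⟨ζ, z1, rfl⟩ := mem_cI.1 k1
  have := (w.cr R hR).1 ζ z1 fun u hu => (mul_inv_eq_iff_eq_mul.1 (h u hu)).symm
  exact ⟨ζ, this.1, this.2, rfl⟩

/-- A `2`-subgroup fixed by an outer involution has order at most `q ^ 12`. -/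
theorem fx_card (h : β * β = 1) (ho : ∀ g, β ≠ MulAut.conj g) {Q : Subgroup X} (h1 : Q ≤ fx β)
    (h2 : IsPGroup 2 Q) : Nat.card Q ≤ q ^ 12 := by
  have hi : Injective (MulAut.conj : X →* MulAut X) := fun _ _ => w.ns.conj_inj
  have j : IsPGroup 2 ↥(cI Q ⊔ zpowers β) := H64.SG.isPGroup_sup_zpowers (h2.map _)
    (H64.SG.Cs_le_Ns _ (by
      rintro _ ⟨a, ha, rfl⟩
      ext x
      simp [mem_fx.1 (h1 ha)])) (is2_of_sq h)
  obtain ⟨S, s1, s2⟩ := exists_isSyl_le j le_top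
  have s3 : Syl (S.comap MulAut.conj) (⊤ : Subgroup X) := syl_of_map hi (by
    rw [map_comap_e, ← MonoidHom.range_eq_map, syl_iff]
    exact s1.inf_of_le_normalizer le_top le_normalizer_of_normal)
  obtain ⟨g, -, hg⟩ := (syl_iff.1 s3).exists_cj_eq (syl_iff.1 w.syl)
  have b : β ∈ S := s2 (mem_sup_right (mem_zpowers β))
  have k := w.ub (MulAut.conj g * β * (MulAut.conj g)⁻¹) (mem_St_of_finite fun u hu => by
    rw [← hg] at hu ⊢
    obtain ⟨a, ha, rfl⟩ := hu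
    refine ⟨β a, ?_, by simp [mul_assoc]⟩
    have : MulAut.conj (β a) = β * MulAut.conj a * β⁻¹ := by ext x; simp
    exact mem_comap.2 (this ▸ mul_mem (mul_mem b ha) (inv_mem b))) ((is2_of_sq h).conj _) fun k => by
      obtain ⟨a, -, k⟩ := mem_cI.1 k
      exact ho (g⁻¹ * a * g) (by rw [map_mul, map_mul, ← k, map_inv]; group)
  have k1 : cjs g Q ≤ fx (MulAut.conj g * β * (MulAut.conj g)⁻¹) ⊓ U := by
    rintro _ ⟨a, ha, rfl⟩
    exact ⟨mem_fx.2 (by simp [mul_assoc, mem_fx.1 (h1 ha)]),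
      hg ▸ ⟨a, s2 (mem_sup_left ⟨a, ha, rfl⟩), rfl⟩⟩
  have k2 := rel_mul_card (X := fx (MulAut.conj g * β * (MulAut.conj g)⁻¹)) (A := U)
  rw [← card_cjs g]
  refine (card_le_of_le k1).trans (Nat.le_of_mul_le_mul_left (c := q ^ 12) ?_
    (Nat.pow_pos (lt_of_lt_of_le two_pos w.two)))
  rw [← pow_add, ← w.card, ← k2]
  exact Nat.mul_le_mul_right _ k

theorem o2_of (β : MulAut X) (h : β * β = 1) (ho : ∀ g, β ≠ MulAut.conj g) (N : Subgroup X)
    (h1 : N ≤ fx β) (h2 : fx β ≤ Ns N) (h3 : IsPGroup 2 N) : N = ⊥ := by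
  obtain ⟨P, p1, p2, p3, n, n1, n2⟩ := w.ft β h ho
  have k := eq_of_le_of_card_ge (le_sup_left : P ≤ P ⊔ N) ((fx_card w h ho (sup_le p1 h1)
    (p2.to_sup_of_normal_right' h3 (p1.trans h2))).trans p3)
  have k1 : N ≤ P := le_sup_right.trans k.ge
  exact eq_bot_iff.2 ((le_inf k1 ((cj_eq_self (h2 n1)).ge.trans (cj_mono n k1))).trans n2.le)

end WF

theorem jobCT : JobCT := fun _ _ _ _ _ _ _ w => ⟨w, ct_of w, oc_of w.bt, o2_of w⟩

end H84.SfW
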