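import Cfsg.Agent.H86.F4Kit

/-! STD-F4, slot FD: `U` is centrally indecomposable in `F₄(F)`, characteristic `2`. -/

set_option autoImplicit false
set_option linter.unusedSectionVars false

namespace H84.SfD

open Cfsg.Lie H63 H64 H65 Subgroup H86.F4 H86.WR
open H64.SG (Cs Ns UU)
open H67.SA (cm cm_eq_one)

theorem heis {H : Type*} [Group H] {a a' b b' c c' z z' : H} (h1 : a * a' = a' * a)
    (h2 : b * b' = b' * b) (h3 : b * a' = a' * b * c) (h4 : b' * a = a * b' * c')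
    (hc : c ∈ center H) (hc' : c' ∈ center H) (hz : z ∈ center H) (hz' : z' ∈ center H) :
    a * b * z * (a' * b' * z') = a' * b' * z' * (a * b * z) ↔ c = c' := by
  have key : ∀ {a a' b b' c z z' : H}, b * a' = a' * b * c → c ∈ center H → z ∈ center H →
      a * b * z * (a' * b' * z') = a * a' * (b * b') * (z * z') * c := by
    intro a a' b b' c z z' h3 hc hz
    have e1 := mem_center_iff.1 hz (a' * b')
    have e2 := mem_center_iff.1 hc (b' * (z * z'))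
    calc _ = a * b * (z * (a' * b')) * z' := by group
      _ = a * (b * a') * (b' * (z * z')) := by rw [← e1]; group
      _ = a * a' * b * (c * (b' * (z * z'))) := by rw [h3]; group
      _ = _ := by rw [← e2]; group
  rw [key h3 hc hz, key h4 hc' hz', h1, h2, mem_center_iff.1 hz z', mul_right_inj]

/-- The positive roots other than `α₁`, `α₂`. -/
def W2 : List ℕ := PP.filter fun r => r ≠ 24 ∧ r ≠ 25
/-- The positive roots other than `α₁`, `α₂`, `α₁ + α₂`. -/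
def W3 : List ℕ := PP.filter fun r => r ≠ 24 ∧ r ≠ 25 ∧ r ≠ 26
def S0 : List ℕ := PP.filter (· ≠ 25)
def T1 : List ℕ := [29, 31, 32, 34, 35, 36, 37, 38, 39, 40, 41, 42, 43, 44, 45, 46, 47]
def S1 : List ℕ :=
  [26, 28, 29, 30, 31, 32, 33, 34, 35, 36, 37, 38, 39, 40, 41, 42, 43, 44, 45, 46, 47]
def T2 : List ℕ := [32, 35, 36, 37, 38, 39, 40, 41, 42, 43, 44, 45, 46, 47]
def T3 : List ℕ := [38, 39, 40, 44, 45, 46, 47]
def S3 : List ℕ := [36, 37, 38, 39, 40, 43, 44, 45, 46, 47]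

theorem nm3 : Nm W3 := by decide +kernel
theorem cm23 : Cm W2 PP W3 := by decide +kernel

variable {F : Type*} [Field F] [CharP F 2] {G : Type*} [Group G] {x : ℕ → F → G}
  (h : StB chevF4 x)
include h

theorem dec {u : G} (hu : u ∈ UU chevF4 x) : ∃ t s, ∃ w ∈ GS x W2, u = x 24 t * x 25 s * w := by
  let L : List (Rt chevF4) := (List.finRange 48).filter fun r => (r : ℕ) ∈ W2
  have h1 : (R 24 :: R 25 :: L).Nodup ∧ (∀ a : Rt chevF4, a ∈ R 24 :: R 25 :: L ↔ (a : ℕ) ∈ PP) ∧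
      ∀ a ∈ L, (a : ℕ) ∈ W2 := by decide +kernel
  obtain ⟨y, y1, y2⟩ := (nm_PP.commUp h.toSt).exists_prod _ h1.1 h1.2.1 (GS_PP x ▸ hu :)
  obtain ⟨t, ht⟩ := h.toSt.mem_XR.1 (y1 (R 24))
  obtain ⟨s, hs⟩ := h.toSt.mem_XR.1 (y1 (R 25))
  refine ⟨t, s, (L.map y).prod, list_prod_mem fun g hg => ?_, ?_⟩
  · obtain ⟨a, ha, rfl⟩ := List.mem_map.1 hg
    exact le_gen (XR chevF4 x) (h1.2.2 a ha) (y1 a)
  · rw [y2, List.map_cons, List.map_cons, List.prod_cons, List.prod_cons, ht, hs, mul_assoc]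

omit h [CharP F 2] in
theorem xU {r : ℕ} (t : F) (hr : r ∈ PP := by decide) : x r t ∈ UU chevF4 x :=
  GS_PP x ▸ x_mem hr (mem_PP.1 hr).2 t

theorem cm_iff {t s t' s' : F} {w w' : G} (hw : w ∈ GS x W2) (hw' : w' ∈ GS x W2) :
    cm (x 24 t * x 25 s * w) (x 24 t' * x 25 s' * w') ∈ GS x W3 ↔ t' * s = t * s' := by
  have : ((GS x W3).subgroupOf (UU chevF4 x)).Normal :=
    ⟨fun v hv u => nm3.conj h.toSt u.2 hv⟩
  let φ := QuotientGroup.mk' ((GS x W3).subgroupOf (UU chevF4 x))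
  have le : GS x W2 ≤ UU chevF4 x := GS_le_UU (by decide)
  have c1 : ∀ u v : UU chevF4 x, φ u * φ v = φ v * φ u ↔ cm (u : G) v ∈ GS x W3 := fun u v => by
    rw [← cm_eq_one, cm, ← map_inv, ← map_inv, ← map_mul, ← map_mul, ← map_mul]
    exact QuotientGroup.eq_one_iff _
  have c2 : ∀ w (hw : w ∈ GS x W2), φ ⟨w, le hw⟩ ∈ center _ := fun w hw => mem_center_iff.2 fun g => by
    obtain ⟨g, rfl⟩ := QuotientGroup.mk'_surjective _ g
    exact ((c1 _ g).2 (cm23.comm h.toSt nm3 hw ((GS_PP x).ge g.2))).symm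
  have c3 : ∀ t s : F, φ ⟨_, xU (r := 25) s⟩ * φ ⟨_, xU (r := 24) t⟩ =
      φ ⟨_, xU (r := 24) t⟩ * φ ⟨_, xU (r := 25) s⟩ *
        φ ⟨x 26 (-(t * s)), le (x_mem (by decide) (by decide) _)⟩ := fun t s => by
    rw [← map_mul, ← map_mul, ← map_mul]
    refine congrArg φ (Subtype.ext ?_)
    have := h.toSt.comm 24 25 (by decide) (by decide) (by decide) (by decide) t s
    rw [ChevalleyDatum.commWord, show chevF4.commTerms 24 25 = [(26, 1, 1, 1)] by decide +kernel]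
      at this
    simpa using this
  have c4 : ∀ (r : ℕ) (hr : r ∈ PP) (t s : F), φ ⟨_, xU t hr⟩ * φ ⟨_, xU s hr⟩ =
      φ ⟨_, xU s hr⟩ * φ ⟨_, xU t hr⟩ := fun r hr t s => by
    rw [← map_mul, ← map_mul]
    exact congrArg φ (Subtype.ext (h.toSt.x_comm (R r (mem_PP.1 hr).2) t s))
  have k := heis (c4 24 (by decide) t t') (c4 25 (by decide) s s') (c3 t' s) (c3 t s')
    (c2 _ (x_mem (by decide) (by decide) _)) (c2 _ (x_mem (by decide) (by decide) _))
    (c2 w hw) (c2 w' hw')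
  rw [← map_mul, ← map_mul, ← map_mul φ (⟨_, xU (r := 24) t'⟩), ← map_mul φ _ ⟨w', _⟩, c1] at k
  refine k.trans (QuotientGroup.eq.trans (mem_subgroupOf.trans ?_))
  change (x 26 _)⁻¹ * x 26 _ ∈ _ ↔ _
  rw [h.toSt.x_inv (R 26), h.toSt.add 26 (by decide), neg_neg]
  exact ⟨fun e => add_neg_eq_zero.1 (nm3.eq_zero h (by decide) (by decide) e), fun e => by
    rw [e, add_neg_cancel, h.toSt.x_zero (R 26)]; exact one_mem _⟩

variable {P Q : Subgroup G} (hP : P ≤ UU chevF4 x) (hQ : Q ≤ UU chevF4 x)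
  (hU : UU chevF4 x ≤ P ⊔ Q) (hC : P ≤ Cs Q)
include hP hQ hU hC

omit h hP hQ [CharP F 2] in
theorem split {u : G} (hu : u ∈ UU chevF4 x) : ∃ p ∈ P, ∃ q ∈ Q, u = p * q := by
  obtain ⟨p, hp, q, hq, e⟩ := (H98.mem_sup_right_norm
    ((le_centralizer_iff.1 hC).trans (H64.SG.Cs_le_Ns P))).1 (hU hu)
  exact ⟨p, hp, q, hq, e⟩

theorem first : P ≤ GS x S0 ∨ Q ≤ GS x S0 := by
  by_contra! hn
  obtain ⟨p, p1, p2⟩ := SetLike.not_le_iff_exists.1 hn.1
  obtain ⟨q, q1, q2⟩ := SetLike.not_le_iff_exists.1 hn.2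
  obtain ⟨p', p3, q', q3, e⟩ := split hU hC (xU (r := 24) 1)
  have k : ∀ {t s w}, w ∈ GS x W2 → x 24 t * x 25 s * w ∉ GS x S0 → s ≠ 0 := fun hw h1 h2 => h1 (by
    rw [h2, h.toSt.x_zero (R 25), mul_one]
    exact mul_mem (x_mem (by decide) (by decide) _) (GS_mono (by decide) hw))
  have z : ∀ p ∈ P, ∀ q ∈ Q, cm p q ∈ GS x W3 := fun p hp q hq => by
    rw [cm_eq_one.2 (hC hp q hq).symm]; exact one_mem _
  have e1 : cm p' p = cm (x 24 1 * x 25 0 * 1) p := by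
    rw [h.toSt.x_zero (R 25), mul_one, mul_one, e, cm, cm, mul_assoc p' q', hC p1 q' q3]; group
  have z1 := z p p1 q q1
  have z2 := z p' p3 q q1
  obtain ⟨t, s, w, hw, rfl⟩ := dec h (hP p1)
  obtain ⟨t', s', w', hw', rfl⟩ := dec h (hQ q1)
  obtain ⟨t₁, s₁, w₁, hw₁, rfl⟩ := dec h (hP p3)
  rw [cm_iff h hw hw'] at z1
  rw [cm_iff h hw₁ hw'] at z2
  have z3 := (cm_iff h (one_mem _) hw).1 (e1 ▸ (cm_iff h hw₁ hw).2
    (mul_right_cancel₀ (k hw' q2) (by linear_combination s * z2 - s₁ * z1)))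
  exact k hw p2 (by simpa using z3.symm)

theorem step {S T : List ℕ} (h1 : Q ≤ GS x S) (h2 : Cm S S T) (h3 : Nm T) {g : G} (hg : g ∈ Q)
    (k : G) (hk : k ∈ GS x PP) : cm g k ∈ GS x T := by
  obtain ⟨p, hp, q, hq, rfl⟩ := split hU hC (GS_PP x ▸ hk)
  have := h3.conj h.toSt (hP hp) (h2.comm h.toSt h3 (h1 hg) (h1 hq))
  rwa [show cm g (p * q) = p * cm g q * p⁻¹ by
    rw [cm, cm, ← mul_assoc g, hC hp g hg]; group]

theorem step' {S T S' : List ℕ} (h1 : Q ≤ GS x S) (h2 : Cm S S T) (h3 : Cert PP PP T S') :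
    Q ≤ GS x S' := fun g hg =>
  (h3.iff h g (GS_PP x ▸ hQ hg)).1 (step h hP hQ hU hC h1 h2 h3.2.1 hg)

theorem second (h0 : Q ≤ GS x S0) : Q ≤ Cs (UU chevF4 x) := fun g hg k hk => by
  have h1 := step' h hP hQ hU hC (T := T1) (S' := S1) h0 (by decide +kernel) (by decide +kernel)
  have h2 := step' h hP hQ hU hC (T := T2) (S' := T1) h1 (by decide +kernel) (by decide +kernel)
  have h3 := step' h hP hQ hU hC (T := T3) (S' := S3) h2 (by decide +kernel) (by decide +kernel)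
  have h4 := step' h hP hQ hU hC (T := [44]) (S' := [40, 44, 47]) h3 (by decide +kernel)
    (by decide +kernel)
  have h5 := step h hP hQ hU hC (T := []) h4 (by decide +kernel) (by decide) hg k (GS_PP x ▸ hk)
  exact (cm_eq_one.1 (mem_bot.1 (GS_nil x ▸ h5))).symm

omit h hP hQ hU hC

theorem jobFD : JobFD := fun F _ _ _ _ hP _ hQ hU hC =>
  (first (stB F) hP hQ hU hC).imp
    (second (stB F) hQ hP (hU.trans (sup_comm _ _).le) (le_centralizer_iff.1 hC))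
    (second (stB F) hP hQ hU hC)

end H84.SfD
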