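import Cfsg.Agent.H84.SfW1
import Cfsg.Agent.H12.Basic

/-! STD-F4, wreath endgame: `JobAB` and `JobSW`. -/

set_option autoImplicit false
set_option linter.unusedSectionVars false

namespace H84.SfW

open H64.SG (O2 Syl Cz Cs Ns cjs Is2 Inv2 UF IsO2 fx mem_Cs mem_Cz mem_fx isPGroup_iff_is2)
open H67.SA (St cI cm mem_cI mem_cjs conj_mem_cjs card_cjs conj_mem_St)
open H59.SO Subgroup Function H98 H86.WR
open H18.SA (rel_eq_card rel_cj rel_mono rel_mul_card)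

universe u

variable {X : Type} [Group X] [Finite X] {G : Type u} [Group G] [Finite G] {e e₁ e₂ : X →* G}
  {g t : G} {U D A : Subgroup X} {β : MulAut X} {q : ℕ}

/-- The map `C(t) → Out X`. -/
noncomputable def outH (h : CE e t) {P : Subgroup G} (hP : P ≤ Cz t) : P →* Cfsg.Out X :=
  (QuotientGroup.mk' _).comp ((indH h.inj).comp (inclusion (hP.trans h.cz)))

theorem outH_eq_one (h : CE e t) (hs : NS X) {P : Subgroup G} (hP : P ≤ Cz t) (h2 : IsPGroup 2 P)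
    {a : P} (k : outH h hP a = 1) : ∃ s, (a : G) = e s ∨ (a : G) = t * e s := by
  obtain ⟨s, k1⟩ := (QuotientGroup.eq_one_iff _).1 k
  have i := ind_indH h.inj (inclusion (hP.trans h.cz) a)
  exact ⟨s, h.inner hs (hP a.2) (isPGroup_iff_is2.1 h2 _ a.2) (k1 ▸ i)⟩

theorem ab_comm (h : CE e t) (hs : NS X) (hc : IsCyclic (Cfsg.Out X)) {P : Subgroup G}
    (hP : P ≤ Cz t) (h2 : IsPGroup 2 P) : ⁅P, P⁆ ≤ e.range := by
  have : (e.range.subgroupOf P).Normal := normal_subgroupOf_of_le_normalizer (hP.trans h.cz)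
  let f := QuotientGroup.lift (e.range.subgroupOf P) (outH h hP) fun a ⟨s, ha⟩ =>
    (QuotientGroup.eq_one_iff _).2 ⟨s, (ind_conj s).unique h.inj
      (by rw [ha]; exact ind_indH h.inj (inclusion (hP.trans h.cz) a))⟩
  have key := f.isMulCommutative_of_isCyclic_of_ker_le_center fun x hx => by
    obtain ⟨a, rfl⟩ := QuotientGroup.mk_surjective x
    refine mem_center_iff.2 fun y => ?_
    obtain ⟨b, rfl⟩ := QuotientGroup.mk_surjective y
    rw [← QuotientGroup.mk_mul, ← QuotientGroup.mk_mul, QuotientGroup.eq, mem_subgroupOf]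
    obtain ⟨s, k⟩ := outH_eq_one h hs hP h2 hx
    have k1 := mul_mem (inv_mem (MonoidHom.mem_range.2 ⟨s, rfl⟩))
      (conj_mem_of_mem_normalizer (inv_mem (h.cz (hP b.2))) ⟨s, rfl⟩)
    push_cast
    rcases k with k | k <;> rw [k]
    · simpa only [mul_inv_rev, inv_inv, mul_assoc] using k1
    · have k2 : (b : G)⁻¹ * t = t * (b : G)⁻¹ := (mem_Cz.1 (inv_mem (hP b.2))).symm
      rw [mul_inv_rev, mul_inv_rev, mul_assoc, mul_assoc, ← mul_assoc (b : G)⁻¹,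
        ← mul_assoc (b : G)⁻¹, k2]
      simpa only [mul_inv_rev, inv_inv, mul_assoc, inv_mul_cancel_left] using k1
  refine commutator_le.2 fun a ha b hb => ?_
  have := key.is_comm.comm (QuotientGroup.mk ⟨b⁻¹, inv_mem hb⟩) (QuotientGroup.mk ⟨a⁻¹, inv_mem ha⟩)
  rw [← QuotientGroup.mk_mul, ← QuotientGroup.mk_mul, QuotientGroup.eq, mem_subgroupOf] at this
  simpa [commutatorElement_def, mul_assoc] using this

theorem ab_card (h : CE e t) (hs : NS X) (hq : Nat.card (Cfsg.Out X) ≤ q) {P : Subgroup G}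
    (hP : P ≤ Cz t) (h2 : IsPGroup 2 P) : Nat.card P ≤ 2 * q * Nat.card ↥(P ⊓ e.range) := by
  have : Finite (Cfsg.Out X) := Finite.of_surjective _ (QuotientGroup.mk'_surjective _)
  rw [← rel_mul_card (X := e.range), inf_comm]
  refine Nat.mul_le_mul_right _ ((rel_le_mul ((⊤ : Subgroup X).map e ⊔ zpowers t)).trans
    (Nat.mul_le_mul ?_ ?_))
  · refine (rel_le_of_fun (T := Prop) (fun a => (a : G) ∈ e.range) fun a b k => ?_).trans (by simp)
    by_cases k1 : (a : G) ∈ e.range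
    · exact mul_mem (inv_mem k1) (k ▸ k1)
    · obtain ⟨a', -, a1⟩ := h.mem_sup.1 (mem_inf.1 a.2).1
      obtain ⟨b', -, b1⟩ := h.mem_sup.1 (mem_inf.1 b.2).1
      rw [a1.resolve_left fun k2 => k1 ⟨_, k2.symm⟩,
        b1.resolve_left fun k2 => k1 (k ▸ ⟨_, k2.symm⟩)]
      exact ⟨a'⁻¹ * b', by simp [mul_assoc]⟩
  · refine (rel_le_of_fun (outH h hP) fun a b k => ?_).trans hq
    obtain ⟨s, k1⟩ := outH_eq_one h hs hP h2 (a := a⁻¹ * b) (by rw [map_mul, map_inv, k]; simp)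
    exact h.mem_sup.2 ⟨s, mem_top s, k1⟩

theorem jobAB : H86.WR.JobAB.{u} := fun _ _ _ _ _ _ _ wg _ _ _ _ _ h _ hP h2 =>
  ⟨ab_comm h wg.ns wg.cyc hP h2, ab_card h wg.ns wg.out hP h2⟩

theorem card_le (wg : WG U D A q) (hk : Injective e) {P : Subgroup G} (h2 : IsPGroup 2 P) :
    Nat.card ↥(P ⊓ e.range) ≤ q ^ 24 := by
  rw [← card_comap_e hk, ← wg.card]
  exact (H64.SG.syl_iff.1 wg.syl).card_le (isP_comap hk h2) le_top

theorem inner_sz (wg : WG U D A q) {a : X} (h : MulAut.conj a * MulAut.conj a = 1) :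
    ∃ P ≤ fx (MulAut.conj a), IsPGroup 2 P ∧ q ^ 15 ≤ Nat.card P := by
  rw [H64.SG.fx_conj]
  exact wg.sz a (wg.ns.cen _ (by rw [map_mul, h]))

theorem any_sz (wg : WG U D A q) (h : β * β = 1) :
    ∃ P ≤ fx β, IsPGroup 2 P ∧ q ^ 12 ≤ Nat.card P := by
  by_cases k : ∃ a, β = MulAut.conj a
  · obtain ⟨a, rfl⟩ := k
    obtain ⟨P, p1, p2, p3⟩ := inner_sz wg h
    exact ⟨P, p1, p2, le_trans (Nat.pow_le_pow_right (by have := wg.two; omega) (by norm_num)) p3⟩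
  · obtain ⟨P, p1, p2, p3, -⟩ := wg.ft β h (not_exists.1 k)
    exact ⟨P, p1, p2, p3⟩

theorem num (hq : 2 ≤ q) : 2 * q * q ^ 24 < q ^ 27 := by
  have : 0 < q ^ 25 := by positivity
  calc _ = 2 * q ^ 25 := by ring
    _ < q ^ 2 * q ^ 25 := Nat.mul_lt_mul_of_pos_right (by nlinarith) this
    _ = _ := by ring

theorem map_le_Cz (i : Ind e g β) {P : Subgroup X} (h : P ≤ fx β) : P.map e ≤ Cz g := by
  rintro _ ⟨a, ha, rfl⟩
  exact mem_Cz.2 (i.comm (h ha))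

section SW

variable (wg : WG U D A q) (c : CW e t e₁ e₂) {e' : X →* G} {s : G} (h : CE e' s)
  {β₁ β₂ : MulAut X} (i1 : Ind e₁ s β₁) (i2 : Ind e₂ s β₂)
include wg c h i1 i2

theorem sw_inner (a : X) : β₁ ≠ MulAut.conj a := by
  rintro rfl
  obtain ⟨P₁, p1, p2, p3⟩ := inner_sz wg (i1.sq c.inj h.inv.1)
  obtain ⟨P₂, r1, r2, r3⟩ := any_sz wg (i2.sq c.inj₂ h.inv.1)
  have k := ab_card h wg.ns wg.out (sup_le (map_le_Cz i1 p1) (map_le_Cz i2 r1)) (c.isP_sup p2 r2)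
  rw [c.card_sup wg.ns] at k
  refine (num wg.two).not_ge (le_trans ?_ (k.trans (Nat.mul_le_mul_left _
    (card_le wg h.inj (c.isP_sup p2 r2)))))
  exact (pow_add q 15 12).le.trans (Nat.mul_le_mul p3 r3)

theorem sw_outer (k1 : ∀ a, β₁ ≠ MulAut.conj a) : False := by
  have hq := wg.two
  obtain ⟨P₁, p1, p2, p3⟩ := any_sz wg (i1.sq c.inj h.inv.1)
  obtain ⟨P₂, r1, r2, r3⟩ := any_sz wg (i2.sq c.inj₂ h.inv.1)
  have a1 := ab_card h wg.ns wg.out (map_le_Cz i1 p1) (p2.map e₁)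
  have a2 := ab_card h wg.ns wg.out (map_le_Cz i2 r1) (r2.map e₂)
  rw [card_map_e c.inj] at a1
  rw [card_map_e c.inj₂] at a2
  -- an involution of `L_s` in `L₂`
  have a3 : P₂.map e₂ ⊓ e'.range ≠ ⊥ := fun k => by
    rw [k, card_bot, mul_one] at a2
    have h3 : q ^ 3 ≤ q ^ 12 := Nat.pow_le_pow_right (by omega) (by norm_num)
    have h4 : 2 * q < q ^ 2 * q := Nat.mul_lt_mul_of_pos_right (by nlinarith) (by omega)
    exact h4.not_ge ((pow_succ q 2).ge.trans (h3.trans (r3.trans a2)))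
  obtain ⟨y, y1, y2⟩ : ∃ y : X, Inv2 y ∧ e' y ∈ e₂.range := by
    obtain ⟨k, hk⟩ := ((r2.map e₂).to_le (inf_le_left (b := e'.range))).exists_card_eq
    obtain ⟨x, hx⟩ := exists_prime_orderOf_dvd_card' (G := ↥(P₂.map e₂ ⊓ e'.range)) 2 (by
      rw [hk]
      refine dvd_pow_self 2 fun k0 => a3 (card_eq_one.1 (by rw [hk, k0, pow_zero])))
    obtain ⟨y, hy⟩ := (mem_inf.1 x.2).2
    refine ⟨y, (inv2_e h.inj).1 ⟨?_, fun k0 => ?_⟩, hy ▸ map_le_range _ _ (mem_inf.1 x.2).1⟩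
    · rw [hy, ← coe_mul, ← sq, ← hx, pow_orderOf_eq_one, coe_one]
    · rw [show x = 1 from Subtype.ext (hy.symm.trans k0), orderOf_one] at hx
      omega
  obtain ⟨R, b1, b2, -, b4⟩ := wg.bt y y1
  -- `N' = e₁ (fx β₁) ⊓ L_s` normalises `e' R`
  have n1 : (fx β₁).map e₁ ⊓ e'.range ≤ Ns (R.map e') := by
    rintro _ ⟨k, a, rfl⟩
    exact map_mem_Ns (b2 (mem_Cz.2 ((e_comm_iff h.inj).1
      (c.le_Cs y2 _ (map_le_range _ _ k)).symm)))
  have n2 : (fx β₁).map e₁ ≤ Ns ((fx β₁).map e₁ ⊓ e'.range) :=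
    le_normalizer_inf le_normalizer ((map_le_Cz i1 le_rfl).trans h.cz)
  have n3 : (Cfsg.pCoreOf 2 ((fx β₁).map e₁ ⊓ e'.range)).comap e₁ = ⊥ :=
    wg.o2 β₁ (i1.sq c.inj h.inv.1) k1 _
      (fun a ha => (mem_map_e c.inj).1 (mem_inf.1 (pCoreOf_le _ ha)).1)
      ((map_le_iff_le_comap.1 (le_normalizer_pCoreOf n2)).trans
        (comap_le_normalizer_comap e₁ le_rfl)) (isP_comap c.inj (isPGroup_pCoreOf _))
  have n4 : P₁.map e₁ ⊓ e'.range ⊓ R.map e' = ⊥ := eq_bot_iff.2 fun w hw => by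
    have := le_pCoreOf (p := 2) (A := (fx β₁).map e₁ ⊓ e'.range ⊓ R.map e')
      ((b1.map e').to_le inf_le_right) inf_le_left (le_normalizer_inf le_normalizer n1)
      ⟨⟨map_mono p1 hw.1.1, hw.1.2⟩, hw.2⟩
    obtain ⟨a, -, rfl⟩ := hw.1.1
    rw [mem_bot.1 (n3.le this), map_one]
    exact one_mem _
  have n5 : P₁.map e₁ ⊓ e'.range ≤ Ns (R.map e') := (inf_le_inf_right _ (map_mono p1)).trans n1
  have n6 := card_le wg h.inj (((p2.map e₁).to_le inf_le_left).to_sup_of_normal_right'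
    (b1.map e') n5)
  rw [inf_eq_left.2 (sup_le inf_le_right (map_le_range _ _)), H12.card_sup_of_disjoint n5 n4,
    card_map_e h.inj] at n6
  refine (num hq).not_ge (le_trans ?_ (Nat.mul_le_mul_left _ n6))
  rw [← mul_assoc]
  exact (pow_add q 12 15).le.trans (Nat.mul_le_mul (p3.trans a1) b4)

end SW

theorem jobSW : H86.WR.JobSW.{u} := by
  intro X _ _ U D A q wg G _ _ e t h e₁ e₂ c w s hs hc
  refine ((w.pm s hs).resolve_left fun k => ?_).1
  obtain ⟨g, rfl⟩ := isConj_iff.1 hc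
  obtain ⟨β₁, i1⟩ := exists_ind c.inj k.1
  obtain ⟨β₂, i2⟩ := exists_ind c.inj₂ k.2
  exact sw_outer wg c (h.cje g) i1 i2 (sw_inner wg c (h.cje g) i1 i2)

end H84.SfW
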