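import Cfsg.Agent.H86.WRDef
import Cfsg.Agent.H18.SAK

/-! STD-F4, wreath endgame: `JobW1` (case I, `U* ≤ W`). -/

set_option autoImplicit false
set_option linter.unusedSectionVars false

namespace H84.SfW

open H64.SG (O2 Syl Cz Cs Ns cjs Is2 Inv2 UF IsO2 fx mem_Cs mem_Cz mem_fx isPGroup_iff_is2)
open H67.SA (St cI cm mem_cI mem_cjs conj_mem_cjs card_cjs conj_mem_St)
open H59.SO Subgroup Function H98 H86.WR
open H18.SA (rel_eq_card rel_cj rel_mono)

universe u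

section Gen

variable {G : Type*} [Group G] {B K H : Subgroup G}

/-- A function on `B` whose fibres lie in cosets of `K` bounds the index. -/
theorem rel_le_of_fun {T : Type*} [Finite T] (f : B → T)
    (h : ∀ a b : B, f a = f b → (a : G)⁻¹ * b ∈ K) : K.relIndex B ≤ Nat.card T :=
  Nat.card_le_card_of_injective (fun q : B ⧸ K.subgroupOf B => f q.out) fun p q e => by
    rw [← p.out_eq, ← q.out_eq, QuotientGroup.eq, mem_subgroupOf]
    exact h _ _ e

theorem rel_le_mul [Finite G] (H : Subgroup G) :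
    K.relIndex B ≤ K.relIndex (H ⊓ B) * H.relIndex B := by
  rw [relIndex_inf_mul_relIndex]
  exact relIndex_le_of_le_left inf_le_left index_ne_zero_of_finite

end Gen

variable {X : Type} [Group X] [Finite X] {G : Type u} [Group G] [Finite G] {e e₁ e₂ : X →* G}
  {g t : G} {U : Subgroup X} {W : Subgroup G} {β : MulAut X} {q : ℕ}

/-- The elements acting on `L₁` as an element of `U`. -/
def II (e₁ : X →* G) (U : Subgroup X) : Subgroup G where
  carrier := {g | ∃ u ∈ U, Ind e₁ g (MulAut.conj u)}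
  one_mem' := ⟨1, one_mem _, by simpa using ind_one⟩
  mul_mem' := fun ⟨a, a1, a2⟩ ⟨b, b1, b2⟩ => ⟨a * b, mul_mem a1 b1, by simpa using a2.mul b2⟩
  inv_mem' := fun ⟨a, a1, a2⟩ => ⟨a⁻¹, inv_mem a1, by simpa using a2.inv⟩

theorem rel_eq (hk : Injective e) (h : Ind e g β) :
    (fx β).relIndex U = (Cz g).relIndex (U.map e) := by
  rw [← relIndex_comap]
  congr 1
  ext a
  exact mem_fx.trans ((h.comm_iff hk).symm.trans mem_Cz.symm)

theorem rel_II (x : X) : (Cz (e₁ x)).relIndex (II e₁ U) ≤ (Cz x).relIndex U := by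
  refine rel_le_of_fun (T := U ⧸ (Cz x).subgroupOf U)
    (fun a => QuotientGroup.mk ⟨a.2.choose, a.2.choose_spec.1⟩) fun a b h => ?_
  rw [QuotientGroup.eq, mem_subgroupOf, mem_Cz] at h
  refine mem_Cz.2 ((a.2.choose_spec.2.inv.mul b.2.choose_spec.2).comm ?_).symm
  rw [← map_inv, ← map_mul, MulAut.conj_apply, mul_inv_eq_iff_eq_mul]
  exact h.symm

/-- The hypotheses used for `W1`. -/
structure HW (U : Subgroup X) (q : ℕ) (e : X →* G) (t : G) (e₁ e₂ : X →* G) (W : Subgroup G) : Prop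
    extends CW e t e₁ e₂, W0 t e₁ e₂ where
  inv : Inv2 t
  ns : NS X
  syl : Syl U ⊤
  card : Nat.card U = q ^ 24
  two : 2 ≤ q
  out : Nat.card (Cfsg.Out X) ≤ q
  ub : ∀ β ∈ St U, Is2 β → β ∉ cI U → q ^ 12 ≤ (fx β).relIndex U
  p2 : IsPGroup 2 W
  le : W ≤ Ns (G12 e₁ e₂)
  ge : H59.SO.two e₁ e₂ U ≤ W

namespace HW

variable (h : HW U q e t e₁ e₂ W)
include h

theorem symm : HW U q e t e₂ e₁ W :=
  ⟨h.toCW.symm h.inv.1, h.toW0.symm h.toCW h.inv, h.inv, h.ns, h.syl, h.card, h.two, h.out, h.ub,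
    h.p2, by rw [G12_comm]; exact h.le, by rw [two_comm]; exact h.ge⟩

theorem norU : W ≤ Ns (H59.SO.two e₁ e₂ U) := by
  rw [← (H64.SG.syl_iff.1 (h.syl_two h.syl)).eq_of_le (h.p2.to_le inf_le_left)
    (le_inf h.ge (two_le _)) inf_le_right]
  exact le_normalizer_inf le_normalizer h.le

theorem stU (hg : g ∈ W) (i : Ind e₁ g β) : β ∈ St U := by
  refine i.st h.inj ?_
  have : H59.SO.two e₁ e₂ U ⊓ e₁.range = U.map e₁ :=
    le_antisymm (fun w hw => inf_left h.ns h.toCW hw.1 hw.2) (le_inf le_sup_left (map_le_range _ _))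
  rw [← this]
  exact le_normalizer_inf (zpowers_le.2 (h.norU hg)) (zpowers_le.2 i.mem_Ns) (mem_zpowers g)

theorem inner (hg : g ∈ W) {s : X} (i : Ind e₁ g (MulAut.conj s)) : s ∈ U := by
  have k := H64.SG.isPGroup_sup_zpowers h.syl.2.1 (conj_mem_St.1 (h.stU hg i))
    (i.split h.inj h.ns (isPGroup_iff_is2.1 h.p2 g hg)).1
  exact ((H64.SG.syl_iff.1 h.syl).eq_of_le k le_sup_left le_top).le (mem_sup_right (mem_zpowers s))

theorem rel_two : (Ns e₁.range).relIndex W ≤ 2 := by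
  refine (rel_le_of_fun (T := Prop) (fun a => (a : G) ∈ Ns e₁.range) fun a b k => ?_).trans (by simp)
  by_cases k1 : (a : G) ∈ Ns e₁.range
  · exact mul_mem (inv_mem k1) (k ▸ k1)
  · have a1 := ((h.pm a (h.le a.2)).resolve_left fun k2 => k1 k2.1).1
    have b1 := ((h.pm b (h.le b.2)).resolve_left fun k2 => k1 (k ▸ k2.1)).1
    refine cj_eq_self_iff.1 ?_
    rw [← cj_cj]
    exact (congrArg _ (b1.trans a1.symm)).trans (cj_inv_cj _ _)

theorem rel_out : (II e₁ U).relIndex (Ns e₁.range ⊓ W) ≤ q := by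
  have : Finite (Cfsg.Out X) := Finite.of_surjective _ (QuotientGroup.mk'_surjective _)
  refine (rel_le_of_fun (T := Cfsg.Out X)
    (fun a => QuotientGroup.mk (indH h.inj ⟨a, (mem_inf.1 a.2).1⟩)) fun a b k => ?_).trans h.out
  obtain ⟨s, hs⟩ := QuotientGroup.eq.1 k
  have i := (ind_indH h.inj ⟨a, a.2.1⟩).inv.mul (ind_indH h.inj ⟨b, b.2.1⟩)
  rw [← hs] at i
  exact ⟨s, h.inner (mul_mem (inv_mem a.2.2) b.2.2) i, i⟩

theorem rel_up {x : X} (hx : (Cz x).relIndex U ≤ q ^ 7) : (Cz (e₁ x)).relIndex W < q ^ 12 := by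
  have k1 : (Cz (e₁ x)).relIndex W ≤ q ^ 7 * q * 2 :=
    (rel_le_mul (Ns e₁.range)).trans (Nat.mul_le_mul ((rel_le_mul (II e₁ U)).trans
      (Nat.mul_le_mul (((rel_mono inf_le_left).trans (rel_II x)).trans hx) h.rel_out)) h.rel_two)
  have k2 := h.two
  calc _ ≤ q ^ 7 * q * q := k1.trans (Nat.mul_le_mul_left _ k2)
    _ = q ^ 9 := by ring
    _ < q ^ 12 := Nat.pow_lt_pow_right k2 (by norm_num)

theorem mem_cI (hg : g ∈ W) (k : (Cz g).relIndex W < q ^ 12) (i : Ind e₁ g β) : β ∈ cI U := by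
  by_contra k1
  have := h.ub β (h.stU hg i) (i.is2 h.inj (isPGroup_iff_is2.1 h.p2 g hg)) k1
  rw [rel_eq h.inj i] at this
  exact k.not_ge (this.trans (rel_mono (le_sup_left.trans h.ge)))

theorem mem_two_of (hg : g ∈ W) (k : (Cz g).relIndex W < q ^ 12) : g ∈ H59.SO.two e₁ e₂ U := by
  rcases h.pm g (h.le hg) with k1 | k1
  · obtain ⟨β₁, i1⟩ := exists_ind h.inj k1.1
    obtain ⟨β₂, i2⟩ := exists_ind h.inj₂ k1.2
    obtain ⟨a, ha, rfl⟩ := H67.SA.mem_cI.1 (h.mem_cI hg k i1)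
    obtain ⟨b, hb, rfl⟩ := H67.SA.mem_cI.1 (h.symm.mem_cI hg k i2)
    exact h.mem_two.2 ⟨a, ha, b, hb, dec2 h.ns h.toCW h.odd (isPGroup_iff_is2.1 h.p2 g hg) i1 i2⟩
  · refine absurd (le_trans ?_ (rel_mono (le_sup_left.trans h.ge))) k.not_ge
    rw [rel_eq_card (eq_bot_iff.2 ?_), card_map_e h.inj, h.card]
    · exact Nat.pow_le_pow_right (by have := h.two; omega) (by norm_num)
    rintro _ ⟨h2, a, -, rfl⟩
    have := k1.1.le (conj_mem_cj (g := g) ⟨a, rfl⟩)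
    rw [mem_Cz.1 h2, mul_inv_cancel_right] at this
    exact h.eq_one h.ns ⟨a, rfl⟩ this

theorem cj_le (cl : U ≤ closure {x | x ∈ U ∧ x * x = 1 ∧ (Cz x).relIndex U ≤ q ^ 7})
    (hg : g ∈ Ns W) : cj g (U.map e₁) ≤ H59.SO.two e₁ e₂ U := by
  refine map_le_iff_le_comap.2 (map_le_iff_le_comap.2 (cl.trans ((closure_le _).2 fun x hx => ?_)))
  exact h.mem_two_of (conj_mem_of_mem_normalizer hg (h.ge (mem_sup_left ⟨x, hx.1, rfl⟩)))
    ((rel_cj g hg).trans_lt (h.rel_up hx.2.2))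

end HW

theorem jobW1 : H86.WR.JobW1.{u} := by
  intro X _ _ U D A q wg G _ _ e t h e₁ e₂ c gw W hW h1 h2 m hm
  have k : HW U q e t e₁ e₂ W :=
    ⟨c, gw.toW0, h.inv, wg.ns, wg.syl, wg.card, wg.two, wg.out, wg.ub, hW, h1, h2⟩
  refine mem_normalizer_of_cj_le ?_
  rw [cj_sup]
  exact sup_le (k.cj_le wg.cl hm) ((k.symm.cj_le wg.cl hm).trans (two_comm _).le)

end H84.SfW
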