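import Cfsg.Agent.H26.DP0ASpec
import Cfsg.Agent.H18.DPCPr

/-! S3275, chapter U0, section A, job `CB2`: a component that is normalised by all elements of
order 3 leaves no room for a `3³`. -/

set_option autoImplicit false

namespace H84.Dp0CB2

open Subgroup Cfsg H98 H48.DP H57.DPC H48.DP2 H26.DA

universe u

variable {G : Type u} [Group G]

theorem cube {y z e : G} (hc : Commute y z) (y3 : y ^ 3 = 1) (z3 : z ^ 3 = 1)
    (he : e ∈ zpowers y ⊔ zpowers z) : e ^ 3 = 1 := by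
  have hn : zpowers y ≤ No (zpowers z) := (zpowers_le (g := y)).2 (centralizer_le_normalizer _
    (mem_centralizer_iff.2 (by rintro _ ⟨k, rfl⟩; exact (hc.symm.zpow_left k).eq)))
  have : e ∈ ((zpowers y ⊔ zpowers z : Subgroup G) : Set G) := he
  rw [coe_mul_of_left_le_normalizer_right _ _ hn] at this
  obtain ⟨_, ⟨i, rfl⟩, _, ⟨j, rfl⟩, rfl⟩ := this
  have k : ∀ {x : G} (n : ℤ), x ^ 3 = 1 → (x ^ n) ^ 3 = 1 := fun {x} n h => by
    rw [← zpow_natCast, ← zpow_mul, mul_comm, zpow_mul, zpow_natCast, h, one_zpow]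
  change (y ^ i * z ^ j) ^ 3 = 1
  rw [(hc.zpow_zpow i j).mul_pow, k i y3, k j z3, one_mul]

theorem card_le {y z : G} (hc : Commute y z) (y3 : orderOf y = 3) (z3 : orderOf z = 3) :
    Nat.card ↥(zpowers y ⊔ zpowers z) ≤ 9 := by
  have hn : zpowers y ≤ No (zpowers z) := (zpowers_le (g := y)).2 (centralizer_le_normalizer _
    (mem_centralizer_iff.2 (by rintro _ ⟨k, rfl⟩; exact (hc.symm.zpow_left k).eq)))
  have h := Set.natCard_mul_le (s := (zpowers y : Set G)) (t := (zpowers z : Set G))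
  rw [← coe_mul_of_left_le_normalizer_right _ _ hn] at h
  have h1 : Nat.card (zpowers y : Set G) = 3 := (Nat.card_zpowers y).trans y3
  have h2 : Nat.card (zpowers z : Set G) = 3 := (Nat.card_zpowers z).trans z3
  rw [h1, h2] at h
  exact h

/-- A proper subgroup of a group of order at most 9 with an element of order 3. -/
theorem le_zp [Finite G] {E F : Subgroup G} {e : G} (hE : Nat.card E ≤ 9) (hF : F ≤ E) (hn : ¬ E ≤ F)
    (he : e ∈ F) (e3 : orderOf e = 3) : F ≤ zpowers e := by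
  have h1 : 3 ∣ Nat.card F := e3 ▸ orderOf_dvd_natCard F he
  have h2 : Nat.card F ∣ Nat.card E := card_dvd_of_le hF
  have h3 : Nat.card F ≠ Nat.card E := fun h => hn (eq_of_le_of_card_ge hF h.ge).ge
  have h4 : 0 < Nat.card E := Nat.card_pos
  have h5 : Nat.card F ≤ 3 := by
    obtain ⟨a, ha⟩ := h1
    obtain ⟨b, hb⟩ := h2
    rw [hb] at hE h3 h4
    have b2 : 2 ≤ b := by
      rcases b with _ | _ | b
      · simp at h4
      · simp at h3
      · omega
    have := Nat.mul_le_mul_left (Nat.card F) b2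
    omega
  exact (eq_of_le_of_card_ge ((zpowers_le (g := e)).2 he) (by rwa [Nat.card_zpowers, e3])).ge

theorem jobCB2 : JobCB2.{u} := by
  intro hCA hRK G _ _ P K y z h hK hb
  have cm := (h.str.cm K hK).2
  have hc : Commute y z := mem_centralizer_singleton_iff.1 (h.cz h.yP)
  have y3 : y ^ 3 = 1 := by rw [← h.y3, pow_orderOf_eq_one]
  have z3 : z ^ 3 = 1 := by rw [← h.z3, pow_orderOf_eq_one]
  have yE : y ∈ zpowers y ⊔ zpowers z := mem_sup_left (mem_zpowers y)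
  have zE : z ∈ zpowers y ⊔ zpowers z := mem_sup_right (mem_zpowers z)
  have o3 : ∀ e ∈ zpowers y ⊔ zpowers z, e ≠ 1 → orderOf e = 3 := fun e he e1 =>
    have : Fact (Nat.Prime 3) := ⟨Nat.prime_three⟩
    orderOf_eq_prime (cube hc y3 z3 he) e1
  have one : ∀ w ∈ K, w ∈ Ce K → w = 1 := fun w h1 h2 => mem_bot.1 (cm.sm.cen.le ⟨h1, h2⟩)
  obtain ⟨⟨e1, ⟨e1K, e1E⟩, e11⟩, hd⟩ := (hCA G P K y z h hK).2 (hb y y3)
  obtain ⟨B, hB, h27⟩ := h.big
  obtain ⟨hcard, -, hel, -⟩ := (H18.DPCPr.jobPr G K cm.sm.cen cm.inn).2 B fun b hb' => hb b (hB.2 b hb')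
  have hel' := hel 3 hB
  have prK : pr K B ≤ K := inf_le_left
  by_cases hE : zpowers y ⊔ zpowers z ≤ K
  · have : B ⊓ Ce K = ⊥ := eq_bot_iff.2 fun w hw => mem_bot.2 (one w (hE (h.st w (hB.2 w hw.1)
      (mem_centralizer_iff.1 hw.2 y (hE yE)).symm (mem_centralizer_iff.1 hw.2 z (hE zE)).symm)) hw.2)
    have h9 := cm.sm.rk _ prK hel'
    rw [this, card_bot] at hcard
    omega
  · obtain ⟨e, eE, eK⟩ := SetLike.not_le_iff_exists.1 hE
    obtain ⟨k, ⟨kK, kE⟩, kc⟩ := hd e eE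
    have e2E : k⁻¹ * e ∈ zpowers y ⊔ zpowers z := mul_mem (inv_mem kE) eE
    have e21 : k⁻¹ * e ≠ 1 := fun h' => eK (inv_mul_eq_one.1 h' ▸ kK)
    have f1 : K ⊓ (zpowers y ⊔ zpowers z) ≤ zpowers e1 :=
      le_zp (card_le hc h.y3 h.z3) inf_le_right (fun h' => hE (h'.trans inf_le_left)) ⟨e1K, e1E⟩
        (o3 _ e1E e11)
    have f2 : Ce K ⊓ (zpowers y ⊔ zpowers z) ≤ zpowers (k⁻¹ * e) :=
      le_zp (card_le hc h.y3 h.z3) inf_le_right (fun h' => e11 (one _ e1K (h' e1E).1)) ⟨kc, e2E⟩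
        (o3 _ e2E e21)
    have zp : ∀ {w a b : G}, Commute w a → b ∈ zpowers a → Commute w b := by
      rintro w a _ hw ⟨n, rfl⟩
      exact hw.zpow_right n
    have r1 := hRK G K e1 e1K (o3 _ e1E e11) (fun w wK w3 wc => by
      have : ∀ d ∈ zpowers y ⊔ zpowers z, Commute w d := fun d hd' => by
        obtain ⟨l, hl, lc⟩ := hd d hd'
        have := (zp wc (f1 hl)).mul_right (show Commute w (l⁻¹ * d) from mem_centralizer_iff.1 lc w wK)
        rwa [mul_inv_cancel_left] at this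
      exact f1 ⟨wK, h.st w w3 (this y yE) (this z zE)⟩) _ prK hel'
    have r2 := hRK G (Ce K) (k⁻¹ * e) kc (o3 _ e2E e21) (fun w wK w3 wc => by
      have : ∀ d ∈ zpowers y ⊔ zpowers z, Commute w d := fun d hd' => by
        obtain ⟨l, hl, lc⟩ := hd d hd'
        have := (show Commute w l from (mem_centralizer_iff.1 wK l hl.1).symm).mul_right
          (zp wc (f2 ⟨lc, mul_mem (Subgroup.inv_mem _ hl.2) hd'⟩))
        rwa [mul_inv_cancel_left] at this
      exact f2 ⟨wK, h.st w w3 (this y yE) (this z zE)⟩) (B ⊓ Ce K) inf_le_right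
      ⟨⟨⟨fun a b => Subtype.ext (congrArg (fun x : B => (x : G))
        (hB.1.is_comm.comm (⟨a.1, a.2.1⟩ : B) ⟨b.1, b.2.1⟩))⟩⟩, fun a ha => hB.2 a ha.1⟩
    have := Nat.mul_le_mul r2 r1
    omega

end H84.Dp0CB2
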