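import Cfsg.Agent.H28.TESpec

/-! Tower NF (S1308), chapter TE part 1, job `SQ`: transvections are not involutions. -/

set_option autoImplicit false

open Cfsg Subgroup H14 H98 H1.Gold H31.S2 H14.GC H14.FE H14.NF H28.TE
open scoped commutatorElement

namespace H84.TeSQ

universe u

theorem jobSQ : JobSQ.{u} := by
  intro kt kp ar s0 eq G _ _ Q Q₁ E Q₂ T h y hy y2
  have k := kt G Q Q₁ E Q₂ T h
  obtain ⟨R, hR, -, -⟩ := ar G Q Q₁ E Q₂ T h ⊥ IsPGroup.of_bot bot_le fun a _ b hb => by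
    rw [mem_bot.1 hb, commutatorElement_one_right]
    exact one_mem _
  have p := kp G Q Q₁ E Q₂ T h R hR
  have el : El (PP E T R) := fun y' hy' => by
    by_cases hE : y' ∈ E
    · exact h.elE y' hE
    have t' := p.tr y' hy' hE
    obtain ⟨d, d1, d2, -, al, -⟩ := eq G Q Q₁ E Q₂ T h y y' hy t'
    rw [← s0 G Q Q₁ E Q₂ T h _ _ (k.cj y hy d d1 d2) t' al, conj_mul, y2, mul_one, mul_inv_cancel]
  by_cases e : PP E T R = R
  · exact h.hy.nel Q₁ h.v1 R hR.syl (e ▸ el)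
  obtain ⟨x, xR, xP, -, hx⟩ := p.up e
  refine xP ((p.mem x xR).2 fun t ht => ?_)
  by_cases t1 : t = 1
  · rw [t1, commutatorElement_one_left]
    exact one_mem _
  have tt := h.elT t ht
  have ti : t⁻¹ = t := inv_eq_of_mul_eq_one_right tt
  have ai := inv_eq_of_mul_eq_one_right (el _ (hx t ht))
  have e1 : t * ⁅t, x⁆ = x * t * x⁻¹ := by
    rw [commutatorElement_def, ti, ← mul_assoc, ← mul_assoc, ← mul_assoc, tt, one_mul]
  have e2 : (t * ⁅t, x⁆)⁻¹ = t * ⁅t, x⁆ :=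
    inv_eq_of_mul_eq_one_right (by rw [e1, conj_mul, tt, mul_one, mul_inv_cancel])
  rw [mul_inv_rev, ai, ti] at e2
  exact p.ct t ht t1 _ (hx t ht).1 e2

end H84.TeSQ
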