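import Cfsg.Agent.H41.ItSpec
import Cfsg.Agent.H1.Coprime2
import Cfsg.Agent.H2.MinNormal

/-! Tower IT, job MX1: mixed centre, the centraliser is normal. -/

set_option autoImplicit false

namespace H84.ItMX1

open Cfsg Subgroup H41.IT

universe u

variable {X : Type*} [Group X] [Finite X]

omit [Finite X] in
theorem mem_C {g h : X} : h ∈ C g ↔ Commute h g := mem_centralizer_singleton_iff

theorem central_of_c {g : X} (h : c g = Nat.card X) : g ∈ center X := by
  have : C g = ⊤ := (card_eq_iff_eq_top _).1 h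
  exact mem_center_iff.2 fun y => mem_C.1 (this ▸ mem_top y)

omit [Finite X] in
theorem pg_of_pe {s : ℕ} {g : X} (h : PE s g) : IsPGroup s (zpowers g) := by
  obtain ⟨k, hk⟩ := h
  exact IsPGroup.of_card (by rw [Nat.card_zpowers, hk])

omit [Finite X] in
theorem pe_of_pg {s : ℕ} (hs : s.Prime) {P : Subgroup X} (hP : IsPGroup s P) {g : X}
    (hg : g ∈ P) : PE s g := by
  have := Fact.mk hs
  obtain ⟨k, hk⟩ := IsPGroup.iff_orderOf.1 hP ⟨g, hg⟩
  exact ⟨k, by rw [← hk]; exact (orderOf_coe (⟨g, hg⟩ : P))⟩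

omit [Finite X] in
theorem odd_of_pe {s : ℕ} (hs : s.Prime) (h2 : s ≠ 2) {g : X} (h : PE s g) : Odd (orderOf g) := by
  obtain ⟨k, hk⟩ := h
  rw [hk]
  exact (hs.odd_of_ne_two h2).pow

/-- a subgroup of order `d` contains a non-central `s`-element -/
theorem ex_nc {s : ℕ} (hs : s.Prime) (D : Subgroup X) {g : X} (hg : PE s g) (hz : g ∉ center X)
    (hc : c g = Nat.card D) : ∃ h ∈ D, PE s h ∧ h ∉ center X := by
  have := Fact.mk hs
  by_contra hne
  push Not at hne
  obtain ⟨S⟩ : Nonempty (Sylow s D) := inferInstance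
  set S' : Subgroup X := (S : Subgroup D).map D.subtype with hS'
  have hp : IsPGroup s S' := S.isPGroup'.map _
  have hSZ : S' ≤ center X := fun y hy => hne y (map_subtype_le _ hy) (pe_of_pg hs hp hy)
  have hN : S'.Normal := ⟨fun y hy k => by
    rw [mem_center_iff.1 (hSZ hy) k, mul_inv_cancel_right]; exact hy⟩
  have hT : IsPGroup s ↥(S' ⊔ zpowers g) := hp.to_sup_of_normal_left (pg_of_pe hg)
  have hTC : S' ⊔ zpowers g ≤ C g := sup_le
    (fun y hy => mem_C.2 (mem_center_iff.1 (hSZ hy) g).symm)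
    (zpowers_le.2 (mem_C.2 (Commute.refl g)))
  obtain ⟨k, hk⟩ := IsPGroup.iff_card.1 hT
  have h1 : s ^ k ∣ Nat.card D := by rw [← hk, ← hc]; exact card_dvd_of_le hTC
  have h2 : Nat.card S' = s ^ (Nat.card D).factorization s := by
    rw [hS', card_map_of_injective D.subtype_injective, Sylow.card_eq_multiplicity]
  have h3 : k ≤ (Nat.card D).factorization s :=
    (hs.pow_dvd_iff_le_factorization Nat.card_pos.ne').1 h1
  have h4 : S' = S' ⊔ zpowers g := eq_of_le_of_card_ge le_sup_left (by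
    rw [hk, h2]; exact Nat.pow_le_pow_right hs.pos h3)
  exact hz (hSZ (h4 ▸ mem_sup_right (mem_zpowers g)))

/-- the `P × Q` lemma for two elements with the same centraliser -/
theorem pq {s : ℕ} (hs : s.Prime) {h e : X} (hh : PE s h) (he : (orderOf e).Coprime s)
    (hhe : Commute h e) (hC : C h = C e) : pCore s X ≤ C e := by
  have := Fact.mk hs
  have hN : (pCore s X).Normal := inferInstance
  have := H1.thompson_pq (P := zpowers h) (Q := zpowers e) (pg_of_pe hh)
    (by rwa [Nat.card_zpowers]) (by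
      rw [zpowers_le, mem_centralizer_iff]
      rintro y ⟨n, rfl⟩
      exact (hhe.zpow_right n).symm) _ (pCore s X) rfl (H2.pCore_isPGroup s X)
    (by rw [normalizer_eq_top]; exact le_top) (by rw [normalizer_eq_top]; exact le_top) (by
      intro y hy
      have h1 : y ∈ C e := hC ▸ mem_C.2 (hy.2 h (mem_zpowers h)).symm
      rintro _ ⟨n, rfl⟩
      exact ((mem_C.1 h1).zpow_right n).symm)
  exact fun y hy => mem_C.2 (this (mem_zpowers e) y hy)

theorem jobMX1 : JobMX1.{u} := by
  intro X _ _ hsol d q hq hq2 hqd H u hu hd hodd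
  have := Fact.mk hq
  have hne : d ≠ Nat.card X := by
    intro e
    rw [← e] at hqd
    have hpos : 0 < d := e ▸ Nat.card_pos
    have := Nat.le_of_dvd hpos hqd
    have := hq.two_le
    nlinarith
  have hZ : center X ≤ C u := fun y hy => mem_C.2 (mem_center_iff.1 hy u).symm
  -- non-central elements of prime power order
  have hnc : ∀ s : ℕ, s.Prime → ∀ g : X, PE s g → g ∉ center X → c g = d := fun s hs g hg hz => by
    obtain ⟨k, hk⟩ := hg
    exact (H g ⟨s, k, hs, hk⟩).resolve_left fun e => hz (central_of_c e)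
  have heq : ∀ s : ℕ, s.Prime → s ≠ 2 → ∀ h ∈ C u, PE s h → h ∉ center X → C h = C u :=
    fun s hs h2 h hh hp hz => (eq_of_le_of_card_ge
      (fun y hy => mem_C.2 (hodd h hh (odd_of_pe hs h2 hp) y hy).symm)
      ((hnc s hs h hp hz).trans hd.symm).le).symm
  have ha : ∀ s : ℕ, s.Prime → s ≠ 2 → ∀ g : X, PE s g → g ∉ center X →
      ∃ h ∈ C u, PE s h ∧ h ∉ center X ∧ C h = C u := fun s hs h2 g hg hz => by
    obtain ⟨h, hh, hp, hz'⟩ := ex_nc hs (C u) hg hz ((hnc s hs g hg hz).trans hd.symm)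
    exact ⟨h, hh, hp, hz', heq s hs h2 h hh hp hz'⟩
  -- a non-central `q`-element
  have hb : ∃ g : X, PE q g ∧ g ∉ center X := by
    by_contra hn
    push Not at hn
    obtain ⟨Q⟩ : Nonempty (Sylow q X) := inferInstance
    have h1 : (Q : Subgroup X) ≤ C u := fun y hy => hZ (hn y (pe_of_pg hq Q.isPGroup' hy))
    apply Q.not_dvd_index
    refine Dvd.dvd.trans ?_ (index_dvd_of_le h1)
    have h2 : (C u).index * d = Nat.card X := by rw [← hd]; exact index_mul_card _
    have hpos : 0 < d := hd ▸ Nat.card_pos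
    rw [← h2] at hqd
    exact Nat.dvd_of_mul_dvd_mul_right hpos hqd
  obtain ⟨g0, hg0, hz0⟩ := hb
  obtain ⟨h, hh, hp, hz, hC⟩ := ha q hq hq2 g0 hg0 hz0
  -- the cores lie in `C u`
  have hcore : ∀ s : ℕ, s.Prime → pCore s X ≤ C u := fun s hs => by
    by_cases h2 : s = 2
    · subst h2
      rw [← hC]
      exact pq hs hu (odd_of_pe hq hq2 hp).coprime_two_right
        (mem_C.1 hh).symm hC.symm
    by_cases hzz : pCore s X ≤ center X
    · exact hzz.trans hZ
    obtain ⟨g, hg, hgz⟩ := SetLike.not_le_iff_exists.1 hzz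
    obtain ⟨h', hh', hp', -, hC'⟩ := ha s hs h2 g (pe_of_pg hs (H2.pCore_isPGroup s X) hg) hgz
    refine pq hs hp' ?_ (mem_C.1 hh') hC'
    obtain ⟨k, hk⟩ := hu
    rw [hk]
    exact Nat.Coprime.pow_left _ ((Nat.coprime_primes Nat.prime_two hs).2 (Ne.symm h2))
  have hF : fittingSubgroup X ≤ C u := by
    rw [H2.fitting_eq_iSup_pCore]
    exact iSup_le fun p => hcore p p.2
  have hhF : h ∈ fittingSubgroup X := H2.centralizer_fitting_le X fun y hy =>
    mem_C.1 (hC ▸ hF hy)
  refine ⟨⟨fun y hy k => ?_⟩, h, hp, hC⟩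
  have h1 : k * h * k⁻¹ ∈ C u := hF ((H2.fitting_normal X).conj_mem h hhF k)
  have h2 : PE q (k * h * k⁻¹) := by
    obtain ⟨j, hj⟩ := hp
    exact ⟨j, by rw [← hj]; exact (MulAut.conj k).orderOf_eq h⟩
  have h3 : k * h * k⁻¹ ∉ center X := fun e => hz (by
    have := (inferInstance : (center X).Normal).conj_mem _ e k⁻¹
    simpa [mul_assoc] using this)
  rw [← heq q hq hq2 _ h1 h2 h3, mem_C]
  exact (mem_C.1 (hC ▸ hy : y ∈ C h)).map (MulAut.conj k)

end H84.ItMX1
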