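import Cfsg.Agent.H7.GWRows
import Cfsg.Agent.H84.ZCons5

/-! S3307 conditional on the Gorenstein–Walter theorem for simple groups. -/

set_option autoImplicit false

namespace H84.GWC

open Cfsg Subgroup H46 H14 H85 H60.GW H7.GW MatrixGroups

universe u

variable {G : Type u} [Group G] [Finite G]

/-- a perfect group with dihedral Sylow subgroups permutes the involutions of a four-group
transitively -/
theorem exists_cycle_of_perfect {E : Subgroup G} (h : TwoIn E) (hp : ⁅E, E⁆ = E) {a b : G}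
    (ha : a ∈ E) (hb : b ∈ E) (ha2 : orderOf a = 2) (hb2 : orderOf b = 2) (hab : a ≠ b)
    (hc : Commute a b) : ∃ g ∈ E, g * a * g⁻¹ = b ∧ g * b * g⁻¹ = a * b := by
  have h0 : E ≠ ⊥ := ne_bot_of_mem ha (ne_one_of_ord ha2)
  have hp' : commutator E = ⊤ := (isPerfect_iff.2 hp).commutator_eq_top
  obtain ⟨S⟩ := (inferInstance : Nonempty (Sylow 2 E))
  obtain ⟨σ, t, s, hs⟩ := dihSyl_of_perfect h.to_top hp'
    (by rwa [← subgroupOf_self, Ne, subgroupOf_eq_bot_iff_of_le le_rfl]) S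
  obtain ⟨g, h1, h2⟩ := hs.exists_cycle (h.fuses_four hp h0).1.top (a := ⟨a, ha⟩) (b := ⟨b, hb⟩)
    (by rwa [orderOf_mk]) (by rwa [orderOf_mk]) (fun e => hab (congrArg Subtype.val e))
    (Subtype.ext hc)
  exact ⟨g, g.2, congrArg Subtype.val h1, congrArg Subtype.val h2⟩

theorem card_sylow_eq_four (h : TwoIn (⊤ : Subgroup G))
    (hC : ∀ S T : Sylow 2 G, S ≠ T → IsCyclic ↥((S : Subgroup G) ⊓ (T : Subgroup G)))
    {E : Subgroup G} (hp : ⁅E, E⁆ = E) (h0 : E ≠ ⊥) :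
    ∃ D : Sylow 2 G, (D : Subgroup G) ≤ E ∧ Nat.card D = 4 := by
  obtain ⟨a, ha, b, hb, ha2, hb2, hab, hc⟩ := ((h.mono le_top).fuses_four hp h0).2
  obtain ⟨g, -, h1, h2⟩ := exists_cycle_of_perfect (h.mono le_top) hp ha hb ha2 hb2 hab hc
  have hV := H86.isKleinFour_closure (sq_of_ord ha2) (sq_of_ord hb2) hc (ne_one_of_ord ha2)
    (ne_one_of_ord hb2) hab
  have hVE : closure {a, b} ≤ E := (closure_le _).2 (by
    rw [Set.insert_subset_iff, Set.singleton_subset_iff]; exact ⟨ha, hb⟩)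
  have hmem := H86.mem_closure_four (sq_of_ord ha2) (sq_of_ord hb2) hc
  set V := closure ({a, b} : Set G)
  have h3 : g * (a * b) * g⁻¹ = a := by
    calc g * (a * b) * g⁻¹ = (g * a * g⁻¹) * (g * b * g⁻¹) := by group
      _ = a * (b * b) := by rw [h1, h2, ← mul_assoc, ← hc.eq, mul_assoc]
      _ = a := by rw [sq_of_ord hb2, mul_one]
  obtain ⟨D, hD⟩ := (IsPGroup.of_card (p := 2) (n := 2) hV.card_four).exists_le_sylow
  have haD : a ∈ (D : Subgroup G) := hD ((hmem a).2 (by simp))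
  have hbD : b ∈ (D : Subgroup G) := hD ((hmem b).2 (by simp))
  have hVc : ∀ {K : Subgroup G}, V ≤ K → ¬ IsCyclic K := fun hK hc =>
    IsKleinFour.not_isCyclic (cyclic_of_le hc hK)
  have hg : g • D = D := by
    by_contra hne
    refine hVc (le_inf ?_ hD) (hC _ _ hne)
    refine (closure_le _).2 ?_
    rw [Set.insert_subset_iff, Set.singleton_subset_iff]
    exact ⟨h3 ▸ H84.mem_sylow_smul D g (mul_mem haD hbD), h1 ▸ H84.mem_sylow_smul D g haD⟩
  obtain ⟨σ, t, s, hd, ht, hm⟩ := (h D le_top D.2).resolve_left (hVc hD)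
  have hs : Setup D σ t s := ⟨hd, ht, hm⟩
  rcases hs.four_or with ⟨h4, -⟩ | ⟨-, h4⟩
  · refine ⟨D, ?_, h4⟩
    rw [← eq_of_le_of_card_ge hD (by rw [h4, hV.card_four])]
    exact hVE
  · exfalso
    have h5 := mem_cent1.1 (hs.nrm_S_le h4 (Sylow.smul_eq_iff_mem_normalizer.1 hg))
    obtain ⟨z, x, hz, hz2, -, -, hU⟩ := hd.four_structure hV hD
    have htV : t ∈ V := by rw [hU, ← hs.eq_t hz hz2]; exact subset_closure (by simp)
    have h6 : g * t * g⁻¹ = t := mul_inv_eq_iff_eq_mul.2 h5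
    rcases (hmem t).1 htV with e | e | e | e
    · exact ne_one_of_ord ht e
    · exact hab (by rw [← h1, ← e, h6])
    · rw [e, h2] at h6
      exact ne_one_of_ord ha2 (by simpa using h6)
    · rw [e, h3] at h6
      exact ne_one_of_ord hb2 (by simpa using h6)

omit [Finite G] in
theorem quot_comap_equiv {H : Type*} [Group H] (N : Subgroup G) [N.Normal] (L : Subgroup (G ⧸ N))
    (e : L ≃* H) :
    Nonempty (↥(L.comap (QuotientGroup.mk' N)) ⧸ N.subgroupOf (L.comap (QuotientGroup.mk' N)) ≃* H) := by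
  have hk : N.subgroupOf (L.comap (QuotientGroup.mk' N)) =
      ((QuotientGroup.mk' N).subgroupComap L).ker := by
    ext x
    rw [mem_subgroupOf, MonoidHom.mem_ker, Subtype.ext_iff]
    exact (QuotientGroup.eq_one_iff _).symm
  exact ⟨(QuotientGroup.quotientMulEquivOfEq hk).trans
    ((QuotientGroup.quotientKerEquivOfSurjective _ (MonoidHom.subgroupComap_surjective_of_surjective
      _ L (QuotientGroup.mk'_surjective N))).trans e)⟩

theorem mod_eight_of {q : ℕ} (hq : Odd q) (h : ¬ 16 ∣ q * (q ^ 2 - 1)) : q % 8 = 3 ∨ q % 8 = 5 := by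
  by_contra h1
  refine h (Dvd.dvd.mul_left ?_ q)
  have h2 : q % 8 = 1 ∨ q % 8 = 7 := by rw [Nat.odd_iff] at hq; omega
  rcases h2 with h2 | h2
  · obtain ⟨k, rfl⟩ : ∃ k, q = 8 * k + 1 := ⟨q / 8, by omega⟩
    exact ⟨4 * k ^ 2 + k, by rw [Nat.sub_eq_iff_eq_add (Nat.one_le_pow _ _ (by omega))]; ring⟩
  · obtain ⟨k, rfl⟩ : ∃ k, q = 8 * k + 7 := ⟨q / 8, by omega⟩
    exact ⟨4 * k ^ 2 + 7 * k + 3, by
      rw [Nat.sub_eq_iff_eq_add (Nat.one_le_pow _ _ (by omega))]; ring⟩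

theorem s3307 (hG : GWSimple.{u}) (hns : ¬ Group.IsSolvable G)
    (hQ : ∀ S : Sylow 2 G, ∃ n : ℕ, Nonempty (↥(S : Subgroup G) ≃* QuaternionGroup (2 ^ (n + 1))))
    (hC : ∀ S T : Sylow 2 G, S ≠ T → IsCyclic ↥((S : Subgroup G) ⊓ (T : Subgroup G))) :
    (∀ S : Sylow 2 G, Nonempty (↥(S : Subgroup G) ≃* QuaternionGroup 2)) ∧
    ∃ (G₁ : Subgroup G) (_ : G₁.Normal) (_ : ((Cfsg.oddCore G).subgroupOf G₁).Normal),
      Odd G₁.index ∧ Cfsg.oddCore G ≤ G₁ ∧
      ∃ (F : Type) (_ : Field F) (_ : Fintype F),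
        (Fintype.card F % 8 = 3 ∨ Fintype.card F % 8 = 5) ∧ 3 < Fintype.card F ∧
        Nonempty (↥G₁ ⧸ (Cfsg.oddCore G).subgroupOf G₁ ≃* Matrix.SpecialLinearGroup (Fin 2) F) := by
  obtain ⟨S⟩ := (inferInstance : Nonempty (Sylow 2 G))
  obtain ⟨n, ⟨e⟩⟩ := hQ S
  obtain ⟨R, -, ⟨φ⟩⟩ := H86.exists_sylow_quotient_equiv S (oddCore G) (H2.coprime_card_pPrimeCore 2 G)
  have hns' : ¬ Group.IsSolvable (G ⧸ oddCore G) := fun h => by
    have := H42.odd_order (H2.odd_card_oddCore G)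
    exact hns (H2.isSolvable_of_normal_of_quotient (oddCore G))
  obtain ⟨z, L, hz, hc, -, h2, h⟩ := exists_cs_gq hG (H2.pPrimeCore_quotient_pPrimeCore 2 G) R
    (φ.symm.trans e) fun h => hns' (have := h.isNilpotent; inferInstance)
  have hs := QuotientGroup.mk'_surjective (oddCore G)
  have hs' := QuotientGroup.mk'_surjective (center (G ⧸ oddCore G))
  have hC' := H84.cyclic_inter_of_surjective hs' (H84.cyclic_inter_of_surjective hs hC)
  set E := L.map (QuotientGroup.mk' (center (G ⧸ oddCore G))) with hE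
  have hp : ⁅E, E⁆ = E := by rw [hE, ← map_commutator, h.perf hns']
  obtain ⟨a, ha, -, -, ha2, -⟩ := h.ds.four
  obtain ⟨D, hDE, hD⟩ := card_sylow_eq_four h2 hC' hp (ne_bot_of_mem ha (ne_one_of_ord ha2))
  have hZ : Nat.card (center (G ⧸ oddCore G)) = 2 := by rw [hc, Nat.card_zpowers, hz]
  have hZL : center (G ⧸ oddCore G) ≤ L := hc.le.trans (h.inf.ge.trans inf_le_left)
  have h8 : ¬ 8 ∣ Nat.card ((G ⧸ oddCore G) ⧸ center (G ⧸ oddCore G)) := fun h8 => by
    have h4 := hD.symm.trans D.card_eq_multiplicity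
    have h3 := (Nat.prime_two.pow_dvd_iff_le_factorization Nat.card_pos.ne').1
      (show 2 ^ 3 ∣ _ from h8)
    exact absurd ((Nat.pow_le_pow_right two_pos h3).trans h4.ge) (by decide)
  have hn : n = 0 := by
    have h1 := card_subgroup_dvd_card (R : Subgroup (G ⧸ oddCore G))
    rw [← Nat.card_congr φ.toEquiv, Nat.card_congr e.toEquiv, Nat.card_eq_fintype_card,
      QuaternionGroup.card, card_eq_card_quotient_mul_card_subgroup (center _), hZ] at h1
    by_contra h0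
    obtain ⟨m, rfl⟩ := Nat.exists_eq_succ_of_ne_zero h0
    refine h8 (Nat.dvd_of_mul_dvd_mul_right two_pos (Dvd.dvd.trans ⟨2 ^ m, by rw [Nat.succ_eq_add_one]; ring⟩ h1))
  subst hn
  refine ⟨fun T => ⟨(Sylow.equiv T S).trans e⟩, L.comap (QuotientGroup.mk' _),
    h.normal.comap _, inferInstance, ?_, fun x hx => ?_, ?_⟩
  · rw [index_comap_of_surjective _ hs]
    have h1 : L = E.comap (QuotientGroup.mk' _) := by
      rw [hE, comap_map_eq, QuotientGroup.ker_mk', sup_eq_left.2 hZL]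
    rw [h1, index_comap_of_surjective _ hs', ← Nat.not_even_iff_odd, even_iff_two_dvd]
    exact fun h3 => D.not_dvd_index (h3.trans (index_dvd_of_le hDE))
  · rw [mem_comap, QuotientGroup.mk'_apply, (QuotientGroup.eq_one_iff x).2 hx]
    exact one_mem _
  rcases h.cases with ⟨F, i1, i2, h3, ⟨e1⟩, ⟨e2⟩, h4, -⟩ | ⟨-, ⟨e1⟩, -⟩
  · refine ⟨F, i1, i2, mod_eight_of h3 fun h5 => h8 ?_, h4 hns', quot_comap_equiv _ L e1⟩
    rw [← Nat.card_eq_fintype_card, ← H61.two_mul_card_psl (by rwa [Nat.card_eq_fintype_card]),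
      ← Nat.card_congr e2.toEquiv] at h5
    exact (Nat.dvd_of_mul_dvd_mul_left two_pos (show 2 * 8 ∣ _ from h5)).trans
      (card_subgroup_dvd_card _)
  · exfalso
    apply h8
    rw [Nat.card_congr e1.toEquiv, nat_card_alternatingGroup, Nat.card_eq_fintype_card,
      Fintype.card_fin]
    decide

end H84.GWC
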