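import Cfsg.Agent.H53.KUSpec

/-! Tower KU, job Ra: the elements of `K` in `As x y` have rank at most one. -/

set_option autoImplicit false

namespace H84.KuRa

open Cfsg H59 H53.WU H53.KU Module

section gen

variable {F V : Type} [Field F] [AddCommGroup V] [Module F V] {σ : F →+* F}
  (B : V →ₛₗ[σ] V →ₗ[F] F) (K : Subgroup (V ≃ₗ[F] V))

/-- the matrix of `g - 1` -/
def Rp (g : V ≃ₗ[F] V) (x y : V) (a b b' d : F) : Prop :=
  ∀ v, g v = v + (a * B x v + b * B y v) • x + (b' * B x v + d * B y v) • y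

/-- matrices of elements of `K` -/
def T (x y : V) (a b b' d : F) : Prop := ∃ g ∈ K, Rp B g x y a b b' d

/-- a basis of a totally isotropic line -/
structure TL (x y : V) : Prop where
  xx : B x x = 0
  yy : B y y = 0
  xy : B x y = 0
  yx : B y x = 0
  li : ∀ s t : F, s • x + t • y = 0 → s = 0 ∧ t = 0

variable {B K} {x y : V} {a b b' d : F}

theorem TL.swap (h : TL B x y) : TL B y x :=
  ⟨h.yy, h.xx, h.yx, h.xy, fun s t e => (h.li t s (by rw [add_comm, e])).symm⟩

theorem TL.sh (h : TL B x y) (c : F) : TL B x (y + c • x) :=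
  ⟨h.xx, by simp [h.xx, h.yy, h.xy, h.yx], by simp [h.xx, h.xy], by simp [h.xx, h.yx],
    fun s t e => by
      obtain ⟨h1, h2⟩ := h.li (s + t * c) t (by rw [← e]; module)
      rw [h2, zero_mul, add_zero] at h1
      exact ⟨h1, h2⟩⟩

theorem T.congr (h : T B K x y a b b' d) {a₁ b₁ b₁' d₁ : F} (h1 : a = a₁) (h2 : b = b₁)
    (h3 : b' = b₁') (h4 : d = d₁) : T B K x y a₁ b₁ b₁' d₁ := by
  subst h1 h2 h3 h4; exact h

theorem T.swap (h : T B K x y a b b' d) : T B K y x d b' b a := by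
  obtain ⟨g, hg, h⟩ := h
  exact ⟨g, hg, fun v => by rw [h v]; module⟩

theorem T.sh (h : T B K x y a b b' d) (c : F) :
    T B K x (y + c • x) (a - b * σ c - b' * c + d * c * σ c) (b - c * d) (b' - σ c * d) d := by
  obtain ⟨g, hg, h⟩ := h
  refine ⟨g, hg, fun v => ?_⟩
  rw [h v, map_add, LinearMap.add_apply, form_smul_left]
  module

theorem Rp.fix {g : V ≃ₗ[F] V} (h : Rp B g x y a b b' d) (hl : TL B x y) : g x = x ∧ g y = y :=
  ⟨by rw [h]; simp [hl.xx, hl.yx], by rw [h]; simp [hl.xy, hl.yy]⟩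

theorem T.add (hl : TL B x y) (h : T B K x y a b b' d) {a₁ b₁ b₁' d₁ : F}
    (h' : T B K x y a₁ b₁ b₁' d₁) : T B K x y (a + a₁) (b + b₁) (b' + b₁') (d + d₁) := by
  obtain ⟨g, hg, h⟩ := h
  obtain ⟨g', hg', h'⟩ := h'
  refine ⟨g * g', K.mul_mem hg hg', fun v => ?_⟩
  rw [LinearEquiv.mul_apply, h' v, map_add, map_add, map_smul, map_smul, (h.fix hl).1,
    (h.fix hl).2, h v]
  module

theorem T.neg (hl : TL B x y) (h : T B K x y a b b' d) : T B K x y (-a) (-b) (-b') (-d) := by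
  obtain ⟨g, hg, h⟩ := h
  refine ⟨g⁻¹, K.inv_mem hg, fun v => g.symm_apply_eq.2 ?_⟩
  rw [map_add, map_add, map_smul, map_smul, (h.fix hl).1, (h.fix hl).2, h v]
  module

theorem T.zero : T B K x y 0 0 0 0 := ⟨1, K.one_mem, fun v => by simp⟩

theorem T.conj (hK : K ≤ isom B) (h : T B K x y a b b' d) {k : V ≃ₗ[F] V} (hk : k ∈ K) {α β : F}
    (hx : k x = α • x) (hy : k y = β • y) :
    T B K x y (α * σ α * a) (α * σ β * b) (β * σ α * b') (β * σ β * d) := by
  obtain ⟨g, hg, h⟩ := h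
  refine ⟨k * g * k⁻¹, K.mul_mem (K.mul_mem hk hg) (K.inv_mem hk), fun v => ?_⟩
  have e : k (k⁻¹ v) = v := k.apply_symm_apply v
  have h1 : B x (k⁻¹ v) = σ α * B x v := by rw [← hK hk x, e, hx, form_smul_left]
  have h2 : B y (k⁻¹ v) = σ β * B y v := by rw [← hK hk y, e, hy, form_smul_left]
  rw [LinearEquiv.mul_apply, LinearEquiv.mul_apply, h, map_add, map_add, map_smul, map_smul, e,
    hx, hy, h1, h2]
  module

theorem T.conj_pow (hK : K ≤ isom B) (h : T B K x y a b b' d) {k : V ≃ₗ[F] V} (hk : k ∈ K)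
    {α β : F} (hx : k x = α • x) (hy : k y = β • y) (n : ℕ) :
    T B K x y ((α * σ α) ^ n * a) ((α * σ β) ^ n * b) ((β * σ α) ^ n * b') ((β * σ β) ^ n * d) := by
  induction n with
  | zero => simpa using h
  | succ n ih => exact (ih.conj hK hk hx hy).congr (by ring) (by ring) (by ring) (by ring)

variable [FiniteDimensional F V]

theorem TL.dual (H : IsHerm B) (hl : TL B x y) : ∃ p, B x p = 1 ∧ B y p = 0 := by
  obtain ⟨p, hp, h⟩ := H.exists_perp_ne_zero (W := Submodule.span F {y}) (u := x) fun h => by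
    obtain ⟨c, hc⟩ := Submodule.mem_span_singleton.1 h
    exact one_ne_zero (hl.li 1 (-c) (by rw [← hc]; module)).1
  exact ⟨(B x p)⁻¹ • p, by rw [form_smul_right, inv_mul_cancel₀ h],
    by rw [form_smul_right, mem_perp_singleton.1 hp, mul_zero]⟩

theorem Rp.skew (H : IsHerm B) (hl : TL B x y) {g : V ≃ₗ[F] V} (hg : g ∈ isom B)
    (h : Rp B g x y a b b' d) : a + σ a = 0 ∧ b' = - σ b ∧ d + σ d = 0 := by
  obtain ⟨p, p1, p2⟩ := hl.dual H
  obtain ⟨r, r1, r2⟩ := hl.swap.dual H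
  have p1' : B p x = 1 := by rw [← H.symm, p1, map_one]
  have p2' : B p y = 0 := by rw [← H.symm, p2, map_zero]
  have r1' : B r y = 1 := by rw [← H.symm, r1, map_one]
  have r2' : B r x = 0 := by rw [← H.symm, r2, map_zero]
  have e1 := hg p p
  have e2 := hg r p
  have e3 := hg r r
  rw [h p] at e1 e2
  rw [h r] at e2 e3
  simp [p1, p2, r1, r2, p1', p2', r1', r2', hl.xx, hl.xy, hl.yx, hl.yy] at e1 e2 e3
  exact ⟨by linear_combination e1, by linear_combination e2, by linear_combination e3⟩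

theorem T.skew (H : IsHerm B) (hK : K ≤ isom B) (hl : TL B x y) (h : T B K x y a b b' d) :
    a + σ a = 0 ∧ b' = - σ b ∧ d + σ d = 0 := by
  obtain ⟨g, hg, h⟩ := h
  exact h.skew H hl (hK hg)

theorem exists_rp (H : IsHerm B) (hl : TL B x y) {g : V ≃ₗ[F] V} (hg : g ∈ isom B)
    (h : ∀ v, B x v = 0 → B y v = 0 → g v = v) : ∃ a b b' d, Rp B g x y a b b' d := by
  obtain ⟨p, p1, p2⟩ := hl.dual H
  obtain ⟨r, r1, r2⟩ := hl.swap.dual H
  have h1 : ∀ v, ∃ s t : F, s • x + t • y = g v - v := fun v => by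
    rw [← Submodule.mem_span_pair, ← H.perp_perp (Submodule.span F {x, y})]
    intro w hw
    rw [mem_perp_pair] at hw
    rw [map_sub]
    conv_lhs => rw [← h w hw.1 hw.2, hg, h w hw.1 hw.2, sub_self]
  obtain ⟨a, b', ep⟩ := h1 p
  obtain ⟨b, d, er⟩ := h1 r
  refine ⟨a, b, b', d, fun v => ?_⟩
  have h2 := h (v - B x v • p - B y v • r) (by simp [p1, r2]) (by simp [p2, r1])
  rw [map_sub, map_sub, map_smul, map_smul, sub_sub, sub_eq_iff_eq_add, eq_add_of_sub_eq ep.symm,
    eq_add_of_sub_eq er.symm] at h2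
  rw [h2]
  module

variable (B K) in
/-- off-diagonal matrices -/
def OD : Prop := ∀ x y, TL B x y → ∃ c : F, ∀ a b b' d, T B K x (y + c • x) a b b' d → b ≠ 0 →
  ∀ t, T B K x (y + c • x) 0 t (- σ t) 0

theorem od (H : IsHerm B) (hK : K ≤ isom B) (hl : TL B x y) {k : V ≃ₗ[F] V} (hk : k ∈ K)
    {α β : F} (hx : k x = α • x) (hy : k y = β • y) (hG : Gn (α * σ β)) {n : ℕ}
    (h1 : (α * σ α) ^ n = 1) (h2 : (β * σ β) ^ n = 1) (h3 : (α * σ β) ^ n ≠ 1)
    (h : T B K x y a b b' d) (hb : b ≠ 0) (t : F) : T B K x y 0 t (- σ t) 0 := by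
  let M : AddSubgroup F :=
    { carrier := {t | T B K x y 0 t (- σ t) 0}
      add_mem' := fun h h' => (T.add hl h h').congr (by ring) rfl (by rw [map_add]; ring) (by ring)
      zero_mem' := T.zero.congr rfl rfl (by simp) rfl
      neg_mem' := fun h => (T.neg hl h).congr (by ring) rfl (by rw [map_neg]) (by ring) }
  have h4 := T.add hl (h.conj_pow hK hk hx hy n) (h.neg hl)
  rw [h1, h2, one_mul, one_mul, add_neg_cancel, add_neg_cancel] at h4
  have h5 : (α * σ β) ^ n * b + -b ∈ M := h4.congr rfl rfl (h4.skew H hK hl).2.1 rfl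
  rcases hG M (fun s hs => (T.conj hK hs hk hx hy).congr (by ring) rfl
    (by rw [map_mul, map_mul, H.invol]; ring) (by ring)) with h6 | h6
  · rw [h6, AddSubgroup.mem_bot] at h5
    exact absurd (mul_right_cancel₀ hb (by linear_combination h5)) h3
  · exact (h6.ge (AddSubgroup.mem_top t) : t ∈ M)

variable (B K) in
/-- no full transvection group -/
def NT : Prop := ∀ x y, TL B x y → ¬ ∀ τ, τ + σ τ = 0 → T B K x y τ 0 0 0

omit [FiniteDimensional F V] in
theorem not_od [Finite F] (H : IsHerm B) (hO : OD B K) (hN : NT B K) (hl : TL B x y) :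
    ¬ ∀ t, T B K x y 0 t (- σ t) 0 := fun h => by
  have hu : TL B (x + (1 : F) • y) y := (hl.swap.sh 1).swap
  obtain ⟨c, hc⟩ := hO _ _ hu
  have hv := hu.sh c
  have h1 := fun t => (((h t).swap.sh 1).swap).sh c
  have h2 := hc _ _ _ _ (h1 1) (by simp)
  have h3 : ∀ t, T B K (x + (1 : F) • y) (y + c • (x + (1 : F) • y))
      (σ t * c - t * σ c + (σ t - t) * c * σ c) 0 0 (σ t - t) := fun t =>
    (T.add hv (h1 t) ((h2 (t - c * (σ t - t))).neg hv)).congr (by simp; ring) (by simp)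
      (by simp [H.invol]; ring) (by simp)
  by_cases e : σ c = c
  · obtain ⟨κ, hκ⟩ := exists_norm_eq' H.ne_id H.invol (μ := c + c * c) (by simp [e])
    refine hN _ _ (hv.sh κ).swap fun τ hτ => ?_
    obtain ⟨t, ht⟩ := exists_sub_eq_of_trace_zero H.ne_id H.invol (c := -τ)
      (by rw [map_neg]; linear_combination -hτ)
    have hτ' : σ τ = -τ := by linear_combination hτ
    have ht' : σ t = t + τ := by linear_combination -ht
    refine ((T.add hv (h3 t) (h2 (τ * κ))).sh κ).swap.congr (by rw [ht']; ring) ?_ ?_ ?_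
    · rw [map_mul, ht', hτ']; ring
    · rw [ht']; ring
    · rw [map_mul, ht', hτ', e]; linear_combination (-τ) * hκ
  · refine hN _ _ hv fun τ hτ => ?_
    have h0 : c - σ c ≠ 0 := fun h => e (by linear_combination -h)
    have ht : σ (τ / (c - σ c)) = τ / (c - σ c) := by
      rw [map_div₀, map_sub, H.invol, show σ τ = -τ by linear_combination hτ,
        ← neg_sub c, neg_div_neg_eq]
    refine (h3 (τ / (c - σ c))).congr ?_ rfl rfl (by rw [ht, sub_self])
    rw [ht, sub_self, zero_mul, zero_mul, add_zero, ← mul_sub, div_mul_cancel₀ _ h0]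

theorem main [Finite F] (H : IsHerm B) (hK : K ≤ isom B) (hO : OD B K) (hN : NT B K)
    (hl : TL B x y) {g : V ≃ₗ[F] V} (hg : g ∈ K) (h : ∀ v, B x v = 0 → B y v = 0 → g v = v) :
    ∃ z, ∀ v, ∃ s : F, g v = v + s • z := by
  obtain ⟨c, hc⟩ := hO _ _ hl
  have hv := hl.sh c
  obtain ⟨a, b, b', d, hr⟩ := exists_rp H hv (hK hg) fun v h1 h2 => h v h1 (by simpa [h1] using h2)
  have hT : T B K x (y + c • x) a b b' d := ⟨g, hg, hr⟩
  obtain ⟨s1, s2, s3⟩ := hT.skew H hK hv
  have hb : b = 0 := by_contra fun hb => not_od H hO hN hv (hc _ _ _ _ hT hb)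
  rw [hb, map_zero, neg_zero] at s2
  subst hb s2
  by_cases ha : a = 0
  · exact ⟨y + c • x, fun v => ⟨_, by rw [hr v, ha, zero_mul, zero_mul, add_zero, zero_smul, add_zero]⟩⟩
  by_cases hd : d = 0
  · exact ⟨x, fun v => ⟨_, by rw [hr v, hd, zero_mul, zero_mul, add_zero (0 : F), zero_smul,
      add_zero]⟩⟩
  exfalso
  obtain ⟨β, hβ⟩ := exists_norm_eq' H.ne_id H.invol (μ := -d / a) (by
    rw [map_div₀, map_neg, show σ d = -d by linear_combination s3,
      show σ a = -a by linear_combination s1, neg_div_neg_eq])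
  have hβ' : σ β * β * a = -d := by rw [hβ, div_mul_cancel₀ _ ha]
  have hu := (hv.swap.sh β).swap
  obtain ⟨c', hc'⟩ := hO _ _ hu
  refine not_od H hO hN (hu.sh c') (hc' _ _ _ _ ((hT.swap.sh β).swap.sh c') fun e => ?_)
  have e1 : σ β * a = 0 := by linear_combination -e - c' * hβ'
  rw [mul_right_comm, e1, zero_mul] at hβ'
  exact hd (neg_eq_zero.1 hβ'.symm)

end gen

theorem tl_iff {S : KS} {x y : S.V} : S.TI x y ↔ TL S.B x y := by
  constructor
  · rintro ⟨⟨h0, h1⟩, h2, h3, h4⟩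
    refine ⟨h1, h2, h3, S.h.eq_zero_comm.1 h3, fun s t e => ?_⟩
    have ht : t = 0 := by_contra fun ht => h4 (-(t⁻¹ * s)) (by
      rw [← one_smul S.F y, ← inv_mul_cancel₀ ht, mul_smul, eq_neg_of_add_eq_zero_right e]
      module)
    rw [ht, zero_smul, add_zero] at e
    exact ⟨(smul_eq_zero.1 e).resolve_right h0, ht⟩
  · intro h
    exact ⟨⟨fun e => one_ne_zero (h.li 1 0 (by simp [e])).1, h.xx⟩, h.yy, h.xy,
      fun c e => one_ne_zero (h.li (-c) 1 (by simp [e])).2⟩

theorem jobRa : JobRa := by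
  intro S hN hG x y hxy g hg hA
  have hK : S.K.map S.G.subtype ≤ isom S.B := by
    rintro _ ⟨k, -, rfl⟩
    exact k.2.1
  have hq : S.q - 1 + 1 = S.q := by have := S.hq; omega
  have hn : ∀ a : S.Fˣ, ((a : S.F) * frob S.hF a) ^ (S.q - 1) = 1 := fun a => by
    apply mul_right_cancel₀ (mul_ne_zero a.ne_zero (S.h.conj_ne_zero a.ne_zero))
    rw [← pow_succ, hq, ← frob_apply S.hF, map_mul, S.h.invol, one_mul, mul_comm]
  refine main S.h hK (fun x y hl => ?_) (fun x y hl h => ?_) (tl_iff.1 hxy) ⟨g, hg, rfl⟩ hA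
  · obtain ⟨k, hk, α, β, c, h1, h2, h3⟩ := hG x y (tl_iff.2 hl)
    replace h3 : Gn ((α : S.F) * frob S.hF β) := by simpa [frob_apply] using h3
    refine ⟨c, fun a b b' d => od S.h hK (hl.sh c) ⟨k, hk, rfl⟩ h1 h2 h3 (hn α) (hn β) fun e => ?_⟩
    generalize (α : S.F) * frob S.hF β = l at h3 e
    have hl : frob S.hF l = l := by rw [frob_apply, ← hq, pow_succ, e, one_mul]
    let M : AddSubgroup S.F :=
      { carrier := {t | frob S.hF t = t}
        add_mem' := fun {a b} h h' => by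
          change frob S.hF (a + b) = a + b
          rw [map_add, h, h']
        zero_mem' := map_zero _
        neg_mem' := fun {a} h => by
          change frob S.hF (-a) = -a
          rw [map_neg, h] }
    rcases h3 M (fun s hs => by
      change frob S.hF (l * s) = l * s
      rw [map_mul, hl, hs]) with h4 | h4
    · exact one_ne_zero (AddSubgroup.mem_bot.1 (h4.le (map_one (frob S.hF))))
    · exact S.h.ne_id (RingHom.ext fun t => h4.ge (AddSubgroup.mem_top t))
  · refine hN x ⟨(tl_iff.2 hl).1, fun t ⟨ht, c, hc⟩ => ?_⟩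
    have hr : Rp S.B t.1 x y c 0 0 0 := fun v => by simpa using hc v
    obtain ⟨_, ⟨k, hk, rfl⟩, hk'⟩ := h c (hr.skew S.h hl ht).1
    have : t = k := Subtype.ext (LinearEquiv.ext fun v => (hr v).trans (hk' v).symm)
    exact this ▸ hk

end H84.KuRa
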