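import Cfsg.Agent.H67.GANP
import Cfsg.Agent.H81.GAAB
import Cfsg.Agent.H67.SAJA

/-! STD-UM: `JobP2a`, the translations of `t Z` are induced by the centraliser of `P`. -/

set_option autoImplicit false
set_option linter.unusedSectionVars false

namespace H84.Um

open H64.SG (O2 Syl Cz Cs Ns cjs Is2 Inv2 UF IsO2 fx mem_Cs mem_Cz mem_fx)
open H67.GA H57 Subgroup H98

universe u

variable {X : Type} [Group X] [Finite X] [Dat X] [Fa X] {G : Type u} [Group G] [Finite G]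
  {e : X →* G} {g t : G}

theorem P_comm {p z : X} (hp : p ∈ PP X) (hz : z ∈ ZZ X) : e z * e p = e p * e z := by
  rw [← map_mul, ← map_mul, PP_le_Cs hp z hz]

/-- An element moving `t` inside `t Z` normalises `e P`. -/
theorem norP (hA : JobAB.{u}) (h : B0 e t) {z₀ z₁ : X} (h0 : z₀ ∈ ZZ X) (h1 : z₁ ∈ ZZ X)
    (h2 : z₁ ≠ 1) (hg : g * t * g⁻¹ = t * e z₀) (hc : (PP X).map e ≤ Cz (g * e z₁ * g⁻¹)) :
    g ∈ Ns ((PP X).map e) := by
  have pf : (PP X).map e ≤ ⁅(PP X).map e, (PP X).map e⁆ := by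
    rw [← map_commutator]; exact map_mono FP.pfP
  have k := ((hA X G _ _).1 (h.cje g)).pf ((PP X).map e) (by
    rintro _ ⟨p, hp, rfl⟩
    rw [mem_Cz, hg, mul_assoc, P_comm hp h0, ← mul_assoc, h.comm, mul_assoc]) pf
  rw [range_cje] at k
  rw [← H64.SG.cj_Cz] at hc
  exact inv_mem_iff.1 (mem_normalizer_of_cj_le (np h.ker (cjs_inv_le k)
    (by rw [← map_commutator]; exact map_mono pf) h1 h2 (cjs_inv_le hc)))

theorem mem_D (h : B1 e t) {d : G} (hd : d ∈ (UU X).map e ⊔ zpowers t) :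
    d ∈ (UU X).map e ∨ d * t ∈ (UU X).map e :=
  (H67.SA.mem_sup_zp (H64.SG.Cs_le_Ns _ (Cs_range_le _ h.cen)) h.inv.1).1 hd

theorem cen_D (h : B1 e t) {d : G} (h1 : d ∈ (UU X).map e ⊔ zpowers t)
    (h2 : d ∈ Cs ((UU X).map e)) : (PP X).map e ≤ Cz d := by
  have k : ∀ u ∈ UU X, e u ∈ Cs ((UU X).map e) → (PP X).map e ≤ Cz (e u) := fun u hu h3 => by
    rintro _ ⟨p, hp, rfl⟩
    exact mem_Cz.2 (P_comm hp (mem_ZZ_of_Cs (fun a ha =>
      (e_comm_iff h.ker (is2_of_UU hu)).1 (h3 _ ⟨a, ha, rfl⟩)) (is2_of_UU hu)))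
  rcases mem_D h h1 with ⟨u, hu, rfl⟩ | ⟨u, hu, h3⟩
  · exact k u hu h2
  · intro w hw
    have h4 := mem_Cz.1 (k u hu (h3 ▸ mul_mem h2 (Cs_range_le _ h.cen)) hw)
    rw [h3, mul_assoc, ← h.cen w (map_le_range _ _ hw), ← mul_assoc, ← mul_assoc,
      mul_left_inj] at h4
    exact mem_Cz.2 h4

/-- The translations induced by the centraliser of `e (Qk 2)`. -/
def Tr (e : X →* G) (t : G) : Subgroup X where
  carrier := {m | m ∈ Mk X 2 ∧ ∃ w ∈ Cs ((Qk X 2).map e), w * t * w⁻¹ = t * e m}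
  one_mem' := ⟨one_mem _, 1, one_mem _, by simp⟩
  mul_mem' := fun {a b} ⟨a1, v, a2, a3⟩ ⟨b1, w, b2, b3⟩ => ⟨mul_mem a1 b1, v * w, mul_mem a2 b2, by
    have := a2 _ ⟨b, Mk_le_Qk rg2 b1, rfl⟩
    calc _ = v * (w * t * w⁻¹) * v⁻¹ := by group
      _ = v * t * v⁻¹ * (v * e b * v⁻¹) := by rw [b3]; group
      _ = _ := by rw [a3, ← this, map_mul]; group⟩
  inv_mem' := fun {a} ⟨a1, v, a2, a3⟩ => ⟨inv_mem a1, v⁻¹, inv_mem a2, by
    have := a2 _ ⟨a, Mk_le_Qk rg2 a1, rfl⟩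
    calc _ = v⁻¹ * (t * e a) * ((e a)⁻¹ * v) := by group
      _ = t * (v⁻¹ * ((e a)⁻¹ * v)) := by rw [← a3]; group
      _ = _ := by rw [map_inv, (Commute.inv_left this).eq]; group⟩

theorem Tr_conj (h : B1 e t) {n m : X} (hn : n ∈ Ns (UU X)) (hm : m ∈ Tr e t) :
    n * m * n⁻¹ ∈ Tr e t := by
  obtain ⟨h1, w, h2, h3⟩ := hm
  have k := FA.nu _ (conj_mem_St.2 hn) 2 rg2
  refine ⟨conj_mem_of_mem_normalizer (conj_mem_St.1 k.1) h1, e n * w * (e n)⁻¹,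
    conj_mem_of_mem_normalizer (normalizer_le_normalizer_centralizer _
      (map_mem_Ns (conj_mem_St.1 k.2))) h2, ?_⟩
  calc _ = e n * (w * (e n⁻¹ * t * (e n⁻¹)⁻¹) * w⁻¹) * (e n)⁻¹ := by simp [mul_assoc]
    _ = e n * t * (e n)⁻¹ * e (n * m * n⁻¹) := by rw [h.conj_t, h3]; simp [mul_assoc]
    _ = _ := by rw [h.conj_t]

theorem Tr_ne (hA : JobAB.{u}) (h : B0 e t) (hm : Mv e t) : Tr e t ≠ ⊥ := by
  obtain ⟨g, g1, z₀, z1, z2, g2⟩ := hm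
  have d1 : e z₀ ∈ Cs ((UU X).map e ⊔ zpowers t) := by
    rw [Cs, centralizer_sup]
    exact ⟨map_mem_Cs fun u hu => (UU_le_Cs hu z₀ z1).symm,
      H64.SG.mem_Cs_zpowers.2 (h.comm z₀)⟩
  have d2 : g * e z₀ * g⁻¹ ∈ Cs ((UU X).map e ⊔ zpowers t) :=
    conj_mem_of_mem_normalizer (normalizer_le_normalizer_centralizer _ g1) d1
  have d3 : g * e z₀ * g⁻¹ ∈ Cs ((UU X).map e) := fun a ha => d2 a (mem_sup_left ha)
  obtain ⟨β, hβ⟩ := exists_indP h.ker (norP hA h z1 z1 z2 g2 (cen_D h.toB1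
    (conj_mem_of_mem_normalizer g1 (mem_sup_left (mem_map_of_mem e (ZZ_le_UU z1)))) d3))
  have b1 : β ∈ St (UU X) := mem_St_of_finite fun u hu => by
    have k := mem_D h.toB1 (conj_mem_of_mem_normalizer g1 (mem_sup_left ⟨u, hu, rfl⟩))
    rw [(hβ u (UU_le_PP hu)).2] at k
    exact (mem_map2 h.ker isP_UU ((is2_of_UU hu).map β.toMonoidHom)).1 (k.resolve_right fun k =>
      h.not_mem ((mul_mem_cancel_left (MonoidHom.mem_range.2 ⟨_, rfl⟩)).1 (map_le_range _ _ k)))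
  obtain ⟨b2, b3⟩ := FA.nu β b1 2 rg2
  obtain ⟨z, rfl⟩ := β.surjective z₀
  have z3 : z ∈ ZZ X := (st_ZZ b1 z).2 z1
  obtain ⟨a, a1, a2⟩ : ∃ a ∈ SS X, z * a ≠ a * z := by
    by_contra! k
    have : (⊤ : Subgroup X) ≤ Cz z := FP.top.ge.trans
      (sup_le (fun p hp => mem_Cz.2 (PP_le_Cs hp z z3)) fun a ha => mem_Cz.2 (k a ha))
    exact z2 (by rw [eq_one_of_center (mem_center_iff.2 fun a => (mem_Cz.1 (this (mem_top a))).symm)
      (is2_of_UU (ZZ_le_UU z3)), map_one])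
  have key : ∀ u ∈ Qk X 2, g * e a * g⁻¹ * e (β u) * (g * e a * g⁻¹)⁻¹ =
      e (β a) * e (β u) * (e (β a))⁻¹ := fun u hu => by
    have k := (hβ _ (UU_le_PP (Qk_le_UU rg2 (conj_mem_of_mem_normalizer (FP.SN a1) hu)))).2
    simp only [map_mul, map_inv] at k
    rw [← k, ← (hβ u (UU_le_PP (Qk_le_UU rg2 hu))).2]; group
  have zz := sq_of_ZZ z3
  suffices hT : β (a⁻¹ * z * a * z) ∈ Tr e t by
    refine fun k => a2 ?_
    have k1 : a⁻¹ * z * a * z = 1 := (map_eq_one_iff β β.injective).1 (mem_bot.1 (k.le hT))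
    calc _ = a * (a⁻¹ * z * a * z) * z := by rw [mul_assoc, mul_assoc _ z z, zz]; group
      _ = _ := by rw [k1, mul_one]
  refine ⟨(b2 _).1 (mul_mem
    (by simpa using conj_mem_of_mem_normalizer (inv_mem (FP.SM a1)) (ZZ_le_Mk rg2 z3))
    (ZZ_le_Mk rg2 z3)), (e (β a))⁻¹ * (g * e a * g⁻¹), ?_, ?_⟩
  · rintro _ ⟨v, hv, rfl⟩
    obtain ⟨u, rfl⟩ := β.surjective v
    have := key u ((b3 u).2 hv)
    calc _ = (e (β a))⁻¹ * (e (β a) * e (β u) * (e (β a))⁻¹) * (g * e a * g⁻¹) := by group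
      _ = _ := by rw [← this]; group
  · have k1 : t = g * t * g⁻¹ * e (β z) := by
      rw [g2, mul_assoc, ← map_mul, ← map_mul, zz, map_one, map_one, mul_one]
    calc _ = (e (β a))⁻¹ * (g * (e a * t * (e a)⁻¹) * g⁻¹ *
          (g * e a * g⁻¹ * e (β z) * (g * e a * g⁻¹)⁻¹)) * e (β a) := by
          nth_rewrite 1 [k1]; group
      _ = e (β a)⁻¹ * t * (e (β a)⁻¹)⁻¹ * e (β (a⁻¹ * z * a * z)) := by
          rw [h.conj_t, g2, key z (ZZ_le_Qk rg2 z3)]; simp [mul_assoc]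
      _ = _ := by rw [h.conj_t]

theorem jobP2a_of (hA : JobAB.{u}) : JobP2a.{u} := by
  intro X _ _ _ _ G _ _ e t h z hz
  by_cases z1 : z = 1
  · exact ⟨1, one_mem _, by simp [z1]⟩
  have h0 := h.ce.b0
  obtain ⟨y, y1, y2, y3⟩ := exists_ZZ_of_Ns (N := Tr e t) (fun _ hm => Mk_le_UU rg2 hm.1)
    (fun u hu => mem_normalizer_of_cj_le (by
      rintro _ ⟨m, hm, rfl⟩; exact Tr_conj h.toB1 (le_normalizer hu) hm)) (Tr_ne hA h0 h.mv)
  obtain ⟨n, n1, rfl⟩ := FA.trZ y y1 z hz y3 z1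
  obtain ⟨-, k, k1, k2⟩ := Tr_conj h.toB1 n1 y2
  generalize n * y * n⁻¹ = z at *
  have k3 : ∀ u ∈ Qk X 2, k * e u * k⁻¹ = e u := fun u hu => by
    rw [← k1 _ ⟨u, hu, rfl⟩, mul_inv_cancel_right]
  obtain ⟨β, hβ⟩ := exists_indP h.ker (norP hA h0 hz hz z1 k2 (by
    rw [k3 z (ZZ_le_Qk rg2 hz)]
    rintro _ ⟨p, hp, rfl⟩
    exact mem_Cz.2 (P_comm hp hz)))
  obtain ⟨ζ, c1, rfl⟩ := mem_cI.1 (FA.ctK 2 rg2 β fun u hu =>
    have := hβ u (UU_le_PP (Qk_le_UU rg2 hu))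
    inj_PP h.ker this.1 (UU_le_PP (Qk_le_UU rg2 hu)) (this.2.symm.trans (k3 u hu)))
  refine ⟨(e ζ)⁻¹ * k, mem_Cs_map.2 fun p hp => ?_, ?_⟩
  · have := (hβ p hp).2
    simp only [MulAut.conj_apply, map_mul, map_inv] at this
    calc _ = (e ζ)⁻¹ * (e ζ * e p * (e ζ)⁻¹) * k := by group
      _ = _ := by rw [← this]; group
  · calc _ = (e ζ)⁻¹ * (k * t * k⁻¹) * e ζ := by group
      _ = e ζ⁻¹ * t * (e ζ⁻¹)⁻¹ * ((e ζ)⁻¹ * (e z * e ζ)) := by rw [k2]; simp [mul_assoc]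
      _ = _ := by rw [h.conj_t, P_comm (UU_le_PP (Mk_le_UU rg2 c1)) hz, inv_mul_cancel_left]

theorem jobP2a : JobP2a.{u} := jobP2a_of H81.GA.jobAB

end H84.Um
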