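import Cfsg.Agent.H67.SPSpec

/-! STD-SP, slot FM: the derived group of `O₂(C c₂)` and the affine maps on it. -/

set_option autoImplicit false
set_option linter.unusedSectionVars false

namespace H84.SpFM

open Matrix Subgroup H67.UA H67.SP
open H67.SA (la)
open H59.SO (AutOn)
open scoped commutatorElement

section Gen
variable {G : Type*} [Group G]

/-- The elements that normalise `D` and commute with `h` modulo `D`. -/
def Cm (D : Subgroup G) (h : G) : Subgroup G where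
  carrier := {g | g ∈ normalizer (D : Set G) ∧ ⁅g, h⁆ ∈ D}
  one_mem' := ⟨one_mem _, by simp⟩
  mul_mem' := fun {a b} ha hb => ⟨mul_mem ha.1 hb.1, by
    have := mul_mem ((mem_normalizer_iff.1 ha.1 _).1 hb.2) ha.2
    rwa [show a * ⁅b, h⁆ * a⁻¹ * ⁅a, h⁆ = ⁅a * b, h⁆ by simp only [commutatorElement_def]; group]
      at this⟩
  inv_mem' := fun {a} ha => ⟨inv_mem ha.1, by
    have := (mem_normalizer_iff.1 (inv_mem ha.1) _).1 (inv_mem ha.2)
    rwa [show a⁻¹ * ⁅a, h⁆⁻¹ * a⁻¹⁻¹ = ⁅a⁻¹, h⁆ by simp only [commutatorElement_def]; group] at this⟩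

theorem le_nor {A D : Subgroup G} (h : ∀ g ∈ A, ∀ d ∈ D, g * d * g⁻¹ ∈ D) :
    A ≤ normalizer (D : Set G) := fun g hg => mem_normalizer_iff.2 fun d =>
  ⟨h g hg d, fun hd => by simpa [mul_assoc] using h _ (inv_mem hg) _ hd⟩

theorem comm_sup_le {A B D : Subgroup G} (hA : A ≤ normalizer (D : Set G))
    (hB : B ≤ normalizer (D : Set G)) (h1 : ∀ a ∈ A, ∀ b ∈ A, ⁅a, b⁆ ∈ D)
    (h2 : ∀ a ∈ B, ∀ b ∈ A, ⁅a, b⁆ ∈ D) (h3 : ∀ a ∈ B, ∀ b ∈ B, ⁅a, b⁆ ∈ D) :
    ⁅A ⊔ B, A ⊔ B⁆ ≤ D := by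
  have sw : ∀ a b : G, ⁅a, b⁆ ∈ D → ⁅b, a⁆ ∈ D := fun a b h => by
    rw [← commutatorElement_inv]; exact inv_mem h
  rw [commutator_le]
  intro g hg h hh
  have k1 : ∀ b ∈ A, A ⊔ B ≤ Cm D b := fun b hb =>
    sup_le (fun a ha => ⟨hA ha, h1 a ha b hb⟩) fun a ha => ⟨hB ha, h2 a ha b hb⟩
  have k2 : ∀ b ∈ B, A ⊔ B ≤ Cm D b := fun b hb =>
    sup_le (fun a ha => ⟨hA ha, sw _ _ (h2 b hb a ha)⟩) fun a ha => ⟨hB ha, h3 a ha b hb⟩
  have k3 : A ⊔ B ≤ Cm D h :=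
    sup_le (fun a ha => ⟨hA ha, sw _ _ (k1 a ha hh).2⟩) fun a ha => ⟨hB ha, sw _ _ (k2 a ha hh).2⟩
  exact (k3 hg).2

end Gen

variable {n : ℕ} {F : Type} [Field F] [StarRing F] [TrivialStar F] [CharP F 2] [Finite F]

theorem hf_comm (x y : Vn n F) : hf x y = hf y x := by rw [← star_hf, star_trivial]

theorem tr0 (a : F) : tr a = 0 := tr_eq_zero.2 (star_trivial a)

theorem five (n : ℕ) (F : Type) [H67.SP.Par n F] : 5 ≤ n := H67.SP.Par.five F

theorem v1 (F : Type) {n : ℕ} [H67.SP.Par n F] : ((1 : Fin (n + 1)) : ℕ) = 1 := by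
  have := five n F
  rw [Fin.val_one', Nat.mod_eq_of_lt (by omega)]

theorem wz {j : ℕ} : Wk j (0 : Vn n F) := fun _ _ => rfl

variable [H67.SP.Par n F]

theorem wk_iff {y : Vn n F} : Wk (n - 1) y ↔ hf y (ev 0) = 0 ∧ hf y (ev 1) = 0 := by
  have h5 := five n F
  have h1 := v1 F (n := n)
  rw [hf_ev_right, hf_ev_right]
  refine ⟨fun h => ⟨h _ (by simp), h _ (by rw [Fin.val_rev]; omega)⟩, fun h i hi => ?_⟩
  have := i.2
  obtain h2 | h2 : i.val = n ∨ i.val = n - 1 := by omega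
  · rw [← h.1]; congr 1; exact Fin.ext (by simp [h2])
  · rw [← h.2]; congr 1; exact Fin.ext (by rw [Fin.val_rev]; omega)

theorem wk_ev {j : ℕ} {i : Fin (n + 1)} (h : i.val < j) : Wk j (ev i : Vn n F) := fun k hk => by
  rw [ev_apply, if_neg]; rintro rfl; omega

theorem wk_add {j : ℕ} {x y : Vn n F} (h : Wk j x) (h' : Wk j y) : Wk j (x + y) := fun k hk => by
  simp [h k hk, h' k hk]

theorem wk_smul {j : ℕ} {x : Vn n F} (a : F) (h : Wk j x) : Wk j (a • x) := fun k hk => by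
  simp [h k hk]

theorem wk_mono {i j : ℕ} (h : i ≤ j) {x : Vn n F} (hx : Wk i x) : Wk j x := fun k hk =>
  hx k (h.trans hk)

theorem w2_eq {u : Vn n F} (h : Wk 2 u) : u = u 0 • ev 0 + u 1 • ev 1 := by
  have h1 := v1 F (n := n)
  have ne : (1 : Fin (n + 1)) ≠ 0 := fun e => by rw [e] at h1; simp at h1
  ext i
  by_cases e0 : i = 0
  · simp [e0, ev_apply, ne.symm]
  by_cases e1 : i = 1
  · simp [e1, ev_apply, ne]
  have : 2 ≤ i.val := by
    by_contra hc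
    obtain h2 | h2 : i.val = 0 ∨ i.val = 1 := by omega
    · exact e0 (Fin.ext h2)
    · exact e1 (Fin.ext (h2.trans h1.symm))
  simp [ev_apply, e0, e1, h i this]

theorem w0 : Wk 2 (ev 0 : Vn n F) := wk_ev (by simp)
theorem w1 : Wk 2 (ev 1 : Vn n F) := wk_ev (by rw [v1 F]; omega)
theorem w2n {x : Vn n F} (h : Wk 2 x) : Wk (n - 1) x :=
  wk_mono (by have := five n F; omega) h

theorem perp {x u : Vn n F} (hx : Wk (n - 1) x) (hu : Wk 2 u) : hf x u = 0 := by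
  rw [w2_eq hu, hf_add_right, hf_smul_right, hf_smul_right, (wk_iff.1 hx).1, (wk_iff.1 hx).2]; simp

variable [b : Base n F]

theorem ok0 {y : Vn n F} (h : Wk (n - 1) y) (c : F) : Ok (ev 0) y c := FV.ok _ _ _ (perp h w0)

theorem iso (v : Vn n F) : hf v v = 0 := FV.iso v

theorem memd {y : Vn n F} (h : Wk (n - 1) y) (c : F) : EE (ev 0) y c ∈ Qd n F :=
  (FV.mem_Qd _).2 ⟨y, c, h, rfl⟩

theorem qk {g : XU n F} (h : g ∈ Qk n F 2) :
    (∀ v, Wk 2 v → ac g v = v) ∧ ∀ v, Wk (n - 1) v → Wk 2 (ac g v + v) :=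
  (FV.mem_Qk 2 (by have := five n F; omega) g).1 h

theorem cm_EE {u x : Vn n F} (h : hf x u = 0) (c : F) {g : XU n F} (hg : ac g u = u) :
    ⁅g, EE u x c⁆ = EE u (ac g x + x) (hf x (ac g x)) := by
  have h1 := FV.ok u x c h
  have h2 := h1.ac g
  rw [commutatorElement_def, EE_conj h1, EE_inv h1, star_trivial]
  rw [hg] at h2 ⊢
  rw [EE_mul h2 h1, CharTwo.add_self_eq_zero, zero_add]

theorem qq_mem {u m : Vn n F} (hu : Wk 2 u) (hm : Wk 2 m) : qq m u ∈ Qd n F := by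
  have pp : ∀ {x y : Vn n F}, Wk 2 x → Wk 2 y → Pp x y := fun hx hy => FV.pp _ _ (perp (w2n hx) hy)
  have k : ∀ (a : F) (x : Vn n F), Wk 2 x → qq (a • ev 0) x ∈ Qd n F := fun a x hx => by
    rw [qq_smul, qq_comm]; exact memd (w2n (wk_smul _ hx)) 0
  rw [qq_comm, w2_eq hu, qq_add (pp hm (wk_smul _ w0)) (pp hm (wk_smul _ w1))
    (perp (w2n (wk_smul _ w1)) (wk_smul _ w0))]
  refine mul_mem (k _ _ hm) ?_
  rw [qq_comm, w2_eq hm, qq_add (pp (wk_smul _ w1) (wk_smul _ w0)) (pp (wk_smul _ w1) (wk_smul _ w1))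
    (perp (w2n (wk_smul _ w1)) (wk_smul _ w0))]
  refine mul_mem (k _ _ (wk_smul _ w1)) ?_
  rw [qq_smul, smul_smul, qq_comm, qq_self, tr0, Tc, EE_zero]
  exact one_mem _

theorem der_le : ⁅Qc n F, Qc n F⁆ ≤ Qd n F := by
  have h5 := five n F
  have cj : ∀ g : XU n F, ac g (ev 0) = ev 0 → (∀ y, Wk (n - 1) y → Wk 2 (ac g y + y)) →
      ∀ d ∈ Qd n F, g * d * g⁻¹ ∈ Qd n F := fun g h1 h2 d hd => by
    obtain ⟨y, c, hy, rfl⟩ := (FV.mem_Qd _).1 hd
    rw [EE_conj (ok0 hy c), h1]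
    refine memd ?_ c
    simpa [add_assoc] using wk_add (w2n (h2 y hy)) hy
  have nB : Qk n F 2 ≤ normalizer (Qd n F : Set (XU n F)) :=
    le_nor fun g hg => cj g ((qk hg).1 _ w0) (qk hg).2
  refine comm_sup_le (le_nor fun g hg => ?_) nB (fun a ha c hc => ?_) (fun a ha c hc => ?_)
    fun a ha c hc => ?_
  · obtain ⟨x, c, hx, rfl⟩ := (FV.mem_Qv _ _).1 hg
    refine cj _ (ac_EE_self (FV.ok _ _ _ hx)) fun y hy => ?_
    rw [ac_EE_perp (FV.ok _ _ _ hx) (perp hy w0), add_right_comm, v_add_self, zero_add]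
    exact wk_smul _ w0
  · obtain ⟨x, d, hx, rfl⟩ := (FV.mem_Qv _ _).1 ha
    obtain ⟨y, e, hy, rfl⟩ := (FV.mem_Qv _ _).1 hc
    have := EE_cm (FV.ok _ _ d hx) (FV.ok _ _ e hy)
    rw [tr0, Tc, EE_zero] at this
    rw [show ⁅EE (ev 0) x d, EE (ev 0) y e⁆ = 1 from this]
    exact one_mem _
  · obtain ⟨y, e, hy, rfl⟩ := (FV.mem_Qv _ _).1 hc
    rw [cm_EE hy e ((qk ha).1 _ w0)]
    refine memd (wk_iff.2 ⟨?_, ?_⟩) _
    · rw [hf_add_left, hf_ac_left, (qk (inv_mem ha)).1 _ w0, CharTwo.add_self_eq_zero]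
    · rw [hf_add_left, hf_ac_left, (qk (inv_mem ha)).1 _ w1, CharTwo.add_self_eq_zero]
  · refine (FV.gen_Q 2 (by omega) (Cm (Qd n F) c) (fun u x d hu hx => ⟨nB (FV.EE_Q 2 (by omega) u x d
      hu hx), ?_⟩) ha).2
    have hx' : Wk (n - 1) x := hx
    have hm := (qk hc).2 x hx'
    have h0 : hf x (ac c x) = 0 := by
      have := perp hx' hm
      rwa [hf_add_right, show hf x x = 0 from FV.iso x, add_zero] at this
    rw [← commutatorElement_inv, cm_EE (perp hx' hu) d ((qk hc).1 u hu), h0]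
    exact inv_mem (qq_mem hu hm)

theorem le_der : Qd n F ≤ ⁅Qc n F, Qc n F⁆ := by
  have h5 := five n F
  have h1 := v1 F (n := n)
  have k1 : ∀ x, Wk (n - 1) x → EE (ev 0) x (x 1) ∈ ⁅Qc n F, Qc n F⁆ := fun x hx => by
    have e0 : hf (ev (1 : Fin (n + 1)).rev : Vn n F) (ev 0) = 0 := by
      rw [hf_ev, Fin.rev_rev, if_neg]; intro e; rw [← e] at h1; simp at h1
    have e1 : hf (ev (1 : Fin (n + 1)).rev : Vn n F) (ev 1) = 1 := by rw [hf_ev, Fin.rev_rev, if_pos rfl]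
    have e2 : hf (ev (1 : Fin (n + 1)).rev : Vn n F) x = x 1 := by
      rw [hf_ev_left, Fin.rev_rev, star_trivial]
    have m1 : EE (ev 1) x (x 1) ∈ Qk n F 2 := FV.EE_Q 2 (by omega) _ _ _ w1 hx
    have m2 : EE (ev 0) (ev (1 : Fin (n + 1)).rev) 0 ∈ QQ n F := (FV.mem_Qv _ _).2 ⟨_, _, e0, rfl⟩
    have := commutator_mem_commutator (le_sup_right (a := QQ n F) m1) (le_sup_left (b := Qk n F 2) m2)
    have e3 : ac (EE (ev 1) x (x 1)) (ev (1 : Fin (n + 1)).rev) = ev (1 : Fin (n + 1)).rev + x := by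
      rw [ac_EE (FV.ok _ _ _ (perp hx w1)), e1, e2, mul_one, one_smul, add_right_comm, add_assoc _ _ (_ • _),
        v_add_self, add_zero]
    rwa [cm_EE e0 0 ((qk m1).1 _ w0), e3, add_right_comm, v_add_self, zero_add, hf_add_right, e2,
      iso, zero_add] at this
  have k2 : ∀ a : F, Tc a (ev 0) ∈ ⁅Qc n F, Qc n F⁆ := fun a => by
    let i : Fin (n + 1) := ⟨2, by omega⟩
    have a1 : Wk (n - 1) (a • ev i : Vn n F) := wk_smul _ (wk_ev (by simp [i]; omega))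
    have a2 : Wk (n - 1) (ev i.rev : Vn n F) := wk_ev (by simp [i]; omega)
    have b1 : (ev i : Vn n F) 1 = 0 := by
      rw [ev_apply, if_neg]; intro e; rw [e] at h1; simp [i] at h1
    have b2 : (ev i.rev : Vn n F) 1 = 0 := by
      rw [ev_apply, if_neg]; intro e; rw [e] at h1; simp [i] at h1; omega
    have := mul_mem (mul_mem (k1 _ a1) (k1 _ a2)) (k1 _ (wk_add a1 a2))
    rw [EE_mul (ok0 a1 _) (ok0 a2 _), EE_mul (ok0 (wk_add a1 a2) _) (ok0 (wk_add a1 a2) _), v_add_self,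
      iso, hf_smul_right, hf_ev, Fin.rev_rev, if_pos rfl] at this
    simpa [b1, b2] using this
  intro g hg
  obtain ⟨y, c, hy, rfl⟩ := (FV.mem_Qd _).1 hg
  have := mul_mem (k1 y hy) (k2 (y 1 + c))
  rwa [Tc, EE_mul (ok0 hy _) (ok0 wz _), add_zero, hf_zero_left, add_zero, ← add_assoc,
    CharTwo.add_self_eq_zero, zero_add] at this

theorem xc_eq : xc n F = EE (ev 0) (ev 1) 1 := by
  rw [xc, xb, xa, TT, Tc, qq, EE_mul (ok0 wz _) (ok0 (w2n w1) _)]; simp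

/-- The second parameter of an element of `Q`. -/
def f0 (w : XU n F) : F := hf (ac w (ev (la n))) (ev (la n))

theorem f0_EE {y : Vn n F} (h : Wk (n - 1) y) (c : F) : f0 (EE (ev 0) y c) = c := by
  have e1 : hf (ev (la n) : Vn n F) (ev 0) = 1 := by rw [hf_ev, if_pos (by simp)]
  rw [f0, ac_EE (ok0 h c), e1]
  simp only [hf_add_left, hf_smul_left, hf_comm (ev 0) (ev (la n)), e1, hf_comm y (ev (la n)),
    show hf (ev (la n) : Vn n F) (ev (la n)) = 0 from FV.iso _]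
  linear_combination hf (ev (la n)) y * two0 F

theorem third {p a c d : XU n F} (hp : p ∈ Qd n F) (ha : a ∈ Qd n F) (hc : c ∈ Qd n F)
    (hd : d ∈ Qd n F) : f0 p + f0 (p * a) + f0 (p * c) + f0 (p * (a * c)) + f0 (p * d) +
      f0 (p * (a * d)) + f0 (p * (c * d)) + f0 (p * (a * c * d)) = 0 := by
  rw [FV.mem_Qd] at hp ha hc hd
  obtain ⟨p, p', hp, rfl⟩ := hp
  obtain ⟨a, a', ha, rfl⟩ := ha
  obtain ⟨c, c', hc, rfl⟩ := hc
  obtain ⟨d, d', hd, rfl⟩ := hd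
  have m : ∀ {x y : Vn n F} {s t : F}, Wk (n - 1) x → Wk (n - 1) y →
      EE (ev 0) x s * EE (ev 0) y t = EE (ev 0) (x + y) (s + t + hf y x) :=
    fun hx hy => EE_mul (ok0 hx _) (ok0 hy _)
  rw [m ha hc, m ha hd, m hc hd, m (wk_add ha hc) hd, m hp ha, m hp hc, m hp hd, m hp (wk_add ha hc),
    m hp (wk_add ha hd), m hp (wk_add hc hd), m hp (wk_add (wk_add ha hc) hd)]
  rw [f0_EE hp, f0_EE (wk_add hp ha), f0_EE (wk_add hp hc), f0_EE (wk_add hp hd),
    f0_EE (wk_add hp (wk_add ha hc)), f0_EE (wk_add hp (wk_add ha hd)),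
    f0_EE (wk_add hp (wk_add hc hd)), f0_EE (wk_add hp (wk_add (wk_add ha hc) hd))]
  simp only [hf_add_left, hf_add_right]
  linear_combination (4 * p' + 2 * a' + 2 * c' + 2 * d' + 2 * hf a p + 2 * hf c p + 2 * hf d p +
    hf c a + hf d a + hf d c) * two0 F

theorem two_cases (h : Nat.card F = 2) (a : F) : a = 0 ∨ a = 1 := by
  obtain ⟨y, -, hy⟩ := (Nat.card_eq_two_iff' (0 : F)).1 h
  by_cases e : a = 0
  · exact Or.inl e
  · exact Or.inr ((hy a e).trans (hy 1 one_ne_zero).symm)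

open Classical in
theorem chi (h : Nat.card F = 2) {T : XU n F → Prop} (h1 : T 1) (h2 : ∀ w, Cr w → T w)
    (h3 : ∀ w, Lr w ∨ Sr w → ¬ T w) {w : XU n F} (hw : w ∈ Qd n F) :
    (if T w then (1 : F) else 0) = f0 w + if w = 1 ∨ w = xb n F then 1 else 0 := by
  obtain ⟨y, c, hy, rfl⟩ := (FV.mem_Qd _).1 hw
  rw [f0_EE hy]
  by_cases e : ∃ a : F, y = a • ev 0
  · obtain ⟨a, rfl⟩ := e
    have e1 : EE (ev 0 : Vn n F) (a • ev 0) c = Tc c (ev 0) := by
      simpa [tr0] using EE_shift a (ev 0 : Vn n F) 0 c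
    rw [e1]
    rcases two_cases h c with rfl | rfl
    · simp [h1]
    · rw [if_neg (h3 _ (Or.inl ⟨_, ev_ne 0, rfl⟩)), if_pos (Or.inr rfl), CharTwo.add_self_eq_zero]
  have li : Li (ev 0) y := fun a d had => by
    rcases two_cases h d with rfl | rfl
    · exact ⟨by simpa [ev_ne] using had, rfl⟩
    · exact absurd ⟨a, by
        rw [one_smul] at had
        rw [← add_zero y, ← v_add_self (a • ev 0), ← add_assoc, add_comm y, had, zero_add]⟩ e
  have e2 : ¬ (EE (ev 0) y c = 1 ∨ EE (ev 0) y c = xb n F) := by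
    rintro (e3 | e3)
    · obtain ⟨a, e4, -⟩ := EE_inj (ev_ne 0) (ok0 wz 0) (ok0 hy c)
        ((EE_zero _).trans e3.symm)
      exact e ⟨a, by simpa using e4⟩
    · obtain ⟨a, e4, -⟩ := EE_inj (ev_ne 0) (ok0 wz 1) (ok0 hy c) e3.symm
      exact e ⟨a, by simpa using e4⟩
  have p0 : hf (ev 0) y = 0 := hf_symm (perp hy w0)
  rw [if_neg e2, add_zero]
  rcases two_cases h c with rfl | rfl
  · exact if_neg (h3 _ (Or.inr ⟨_, _, p0, li, rfl⟩))
  · refine if_pos (h2 _ ⟨ev 0 + y, y, by rw [hf_add_left, p0, show hf y y = 0 from FV.iso y, add_zero],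
      fun a d had => ?_, ?_⟩)
    · obtain ⟨k1, k2⟩ := li a (a + d) (by rw [← had, smul_add, add_smul, add_assoc])
      exact ⟨k1, by simpa [k1] using k2⟩
    · have e3 := EE_mul (ok0 hy 0) (ok0 wz (1 : F))
      rw [add_zero, hf_zero_left, add_zero, zero_add] at e3
      have e4 : TT y * TT (ev 0 : Vn n F) = TT (ev 0) * TT y := by
        rw [← mul_inv_eq_iff_eq_mul, Tc_conj (FV.iso _) (star_one F), ac_Tc (FV.iso _) (star_one F), p0]
        simp
      rw [← e3, show EE (ev 0) y 0 = _ from qq_eq_TT (FV.pp _ _ p0), mul_assoc, mul_assoc]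
      congr 1
      show TT (ev 0) * (TT y * TT (ev 0)) = TT y
      rw [e4, ← mul_assoc, Tc_mul_self (FV.iso _) (star_one F), one_mul]

theorem exists_not_mem (h : Nat.card F = 2) (s : Finset (XU n F)) (hs : s.card ≤ 16) :
    ∃ w ∈ Qd n F, w ∉ s := by
  have h7 : 7 ≤ n := by
    have h5 := five n F
    obtain ⟨k, hk⟩ := H67.SP.Par.odd (n := n) F
    by_contra hc
    have := H67.SP.Par.four (n := n) (F := F) (by omega)
    omega
  by_contra hc
  push Not at hc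
  let y : (Fin 5 → F) → Vn n F := fun v j => if h : 1 ≤ j.val ∧ j.val ≤ 5 then v ⟨j - 1, by omega⟩ else 0
  have hy : ∀ v, Wk (n - 1) (y v) := fun v j hj => dif_neg (by omega)
  have := Nat.card_le_card_of_injective (fun v => (⟨_, hc _ (memd (hy v) 0)⟩ : s)) fun v v' e => by
    obtain ⟨a, e1, -⟩ := EE_inj (ev_ne 0) (ok0 (hy v) 0) (ok0 (hy v') 0) (congrArg Subtype.val e)
    ext i
    have := congrFun e1 ⟨i + 1, by omega⟩
    have hi : (i : ℕ) + 1 ≤ 5 := i.2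
    simpa [y, hi, ev_apply] using this.symm
  rw [Nat.card_fun, h, Nat.card_eq_finsetCard] at this
  simp at this
  omega

theorem no_map (h : Nat.card F = 2) {θ : XU n F → XU n F} (hθ : AutOn (Qd n F) θ) {T : XU n F → Prop}
    (h1 : T 1) (h2 : ∀ w, Cr w → T w) (h3 : ∀ w, Lr w ∨ Sr w → ¬ T w)
    (h4 : ∀ w ∈ Qd n F, T w ↔ T (xc n F * θ w)) : False := by
  classical
  have hx : xc n F ∈ Qd n F := xc_eq (n := n) (F := F) ▸ memd (w2n w1) 1
  have hb : xb n F ∈ Qd n F := memd wz 1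
  have mp : ∀ w ∈ Qd n F, θ w ∈ Qd n F := fun w hw => hθ.1.mapsTo hw
  obtain ⟨p₁, m₁, e₁⟩ := hθ.1.surjOn (inv_mem hx)
  obtain ⟨p₂, m₂, e₂⟩ := hθ.1.surjOn (mul_mem (inv_mem hx) hb)
  let B : Finset (XU n F) := {1, xb n F, p₁, p₂}
  have hB : B.card ≤ 4 := Finset.card_le_four
  have key : ∀ w ∈ Qd n F, w ∉ B → f0 w = f0 (xc n F * θ w) := fun w hw hn => by
    simp only [B, Finset.mem_insert, Finset.mem_singleton, not_or] at hn
    have k1 := chi h h1 h2 h3 hw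
    have k2 := chi h h1 h2 h3 (mul_mem hx (mp w hw))
    rw [if_neg (not_or.2 ⟨hn.1, hn.2.1⟩), add_zero] at k1
    rw [if_neg (not_or.2 ⟨fun e => hn.2.2.1 (hθ.1.injOn hw m₁ (by
      rw [e₁]; exact eq_inv_of_mul_eq_one_right e)), fun e => hn.2.2.2 (hθ.1.injOn hw m₂ (by
      rw [e₂, ← e, inv_mul_cancel_left]))⟩), add_zero] at k2
    rw [← k1, ← k2]
    exact if_congr (h4 w hw) rfl rfl
  let im : XU n F → Finset (XU n F) → Finset (XU n F) := fun a s => s ∪ s.image (a⁻¹ * ·)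
  have ci : ∀ a s, (im a s).card ≤ 2 * s.card := fun a s =>
    (Finset.card_union_le _ _).trans (by have := Finset.card_image_le (s := s) (f := (a⁻¹ * ·)); omega)
  have mi : ∀ a s w, w ∉ im a s → w ∉ s ∧ a * w ∉ s := fun a s w hw =>
    ⟨fun e => hw (Finset.mem_union_left _ e), fun e => hw (Finset.mem_union_right _
      (Finset.mem_image.2 ⟨_, e, inv_mul_cancel_left a w⟩))⟩
  obtain ⟨a, ha, na⟩ := exists_not_mem h B (by omega)
  obtain ⟨c, hc, nc⟩ := exists_not_mem h (im a B) (by have := ci a B; omega)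
  obtain ⟨d, hd, nd⟩ := exists_not_mem h (im c (im a B)) (by
    have := ci a B
    have := ci c (im a B)
    omega)
  obtain ⟨n1, n2⟩ := mi _ _ _ nc
  obtain ⟨n3, n4⟩ := mi _ _ _ nd
  obtain ⟨n5, n6⟩ := mi _ _ _ n3
  obtain ⟨n7, n8⟩ := mi _ _ _ n4
  rw [← mul_assoc] at n8
  have s1 := third (one_mem _) ha hc hd
  have s2 := third hx (mp a ha) (mp c hc) (mp d hd)
  simp only [one_mul] at s1
  rw [← hθ.2 a ha c hc, ← hθ.2 a ha d hd, ← hθ.2 c hc d hd, ← hθ.2 _ (mul_mem ha hc) d hd,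
    ← key a ha na, ← key c hc n1, ← key _ (mul_mem ha hc) n2, ← key d hd n5,
    ← key _ (mul_mem ha hd) n6, ← key _ (mul_mem hc hd) n7,
    ← key _ (mul_mem (mul_mem ha hc) hd) n8, xc_eq, f0_EE (w2n w1)] at s2
  rw [← EE_zero (ev 0), f0_EE wz] at s1
  exact one_ne_zero (α := F) (by linear_combination s2 - s1)

theorem jobFM : JobFM := fun n F _ _ _ _ _ _ _ =>
  ⟨fun _ => le_antisymm der_le le_der, xc_eq (n := n) (F := F) ▸ memd (w2n w1) 1,
    fun h _ hθ _ h1 h2 h3 h4 => no_map h hθ h1 h2 h3 h4⟩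

end H84.SpFM
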