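/- Tower EA: odd groups of automorphisms with a commutator subgroup of order at most eight. -/
import Cfsg.Agent.H68.EaSpec
import Cfsg.Agent.H84.OlsA

set_option autoImplicit false
set_option linter.unusedSectionVars false

namespace H84.EaGW

open Subgroup MulAction H84.Ols H68.EA

universe u

variable {P : Type*} [CommGroup P] [Finite P] {I : Subgroup (MulAut P)}

/-- An invariant set without fixed points. -/
def Inv (I : Subgroup (MulAut P)) (X : Set P) : Prop :=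
  (∀ α ∈ I, ∀ x ∈ X, α x ∈ X) ∧ ∀ x ∈ X, ∃ α ∈ I, α x ≠ x

theorem Inv.diff {X Y : Set P} (h : Inv I X) (hY : ∀ α ∈ I, ∀ x ∈ Y, α x ∈ Y) : Inv I (X \ Y) :=
  ⟨fun α hα x hx => ⟨h.1 α hα x hx.1, fun k => hx.2 (by simpa using hY _ (inv_mem hα) _ k)⟩,
    fun x hx => h.2 x hx.1⟩

theorem Inv.orb (hI : Odd (Nat.card I)) {X : Set P} (h : Inv I X) {u : P} (hu : u ∈ X) :
    Inv I (X \ orbit I u) ∧ ∃ k, (orbit I u).ncard = 2 * k + 3 ∧
      (X \ orbit I u).ncard + (2 * k + 3) = X.ncard := by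
  refine ⟨h.diff fun α hα x hx => mem_orbit_of_mem_orbit (⟨α, hα⟩ : I) hx, ?_⟩
  obtain ⟨k, hk⟩ : Odd (orbit I u).ncard := hI.of_dvd_nat (Dvd.intro_left _ (card_orbit I u))
  have h1 : (orbit I u).ncard ≠ 1 := fun e => by
    obtain ⟨α, hα, n⟩ := h.2 u hu
    exact n ((Set.ncard_le_one_iff_subsingleton.1 e.le) (mem_orbit u (⟨α, hα⟩ : I))
      (mem_orbit_self u))
  have h2 := Set.ncard_sdiff_add_ncard_of_subset (s := orbit I u) (t := X) (by
    rintro _ ⟨α, rfl⟩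
    exact h.1 α α.2 u hu)
  exact ⟨k - 1, by omega, by omega⟩

theorem Inv.ne (hI : Odd (Nat.card I)) {X : Set P} (h : Inv I X) :
    X.ncard ≠ 1 ∧ X.ncard ≠ 2 ∧ X.ncard ≠ 4 := by
  have h1 : ∀ X : Set P, Inv I X → X.ncard = 0 ∨ 3 ≤ X.ncard := fun X h => by
    refine (em _).imp_right fun n => ?_
    obtain ⟨u, hu⟩ := Set.nonempty_of_ncard_ne_zero n
    obtain ⟨-, k, -, e⟩ := h.orb hI hu
    omega
  have := h1 X h
  refine ⟨by omega, by omega, fun e => ?_⟩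
  obtain ⟨u, hu⟩ := Set.nonempty_of_ncard_ne_zero (s := X) (by omega)
  obtain ⟨h2, k, -, e⟩ := h.orb hI hu
  have := h1 _ h2
  omega

/-- Restriction to an invariant subgroup. -/
def res (J : Subgroup (MulAut P)) (V : Subgroup P) (h : ∀ α ∈ J, ∀ x ∈ V, α x ∈ V) :
    J →* MulAut V :=
  letI : MulDistribMulAction J V :=
    { smul := fun α x => ⟨α.1 x, h _ α.2 _ x.2⟩
      one_smul := fun _ => rfl
      mul_smul := fun _ _ _ => rfl
      smul_mul := fun α x y => Subtype.ext (map_mul α.1 x.1 y.1)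
      smul_one := fun α => Subtype.ext (map_one α.1) }
  MulDistribMulAction.toMulAut J V

theorem main {Z V : Subgroup P} (hP : IsPGroup 2 P) (hI : Odd (Nat.card I)) (h : Dec I Z V)
    (h8 : Nat.card V ≤ 8) :
    I = ⊥ ∨ ∃ u, Spl I Z V u ∧ (Nat.card V = 4 ∧ Nat.card I = 3 ∨ Nat.card V = 8) := by
  have a1 : ∀ α ∈ I, ∀ x ∈ V, α x ∈ V := fun α hα x hx => by
    simpa using mul_mem (h.com α hα x) hx
  have a2 : ∀ α ∈ I, (∀ x ∈ V, α x = x) → α = 1 := fun α hα k => MulEquiv.ext fun x =>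
    (sup_le (fun z hz => mem_Fz.2 ((h.fix z).1 hz α hα)) fun z hz => mem_Fz.2 (k z hz) :
      Z ⊔ V ≤ Fx (zpowers α)) (h.sup ▸ mem_top x) α (mem_zpowers α)
  have a3 : ∀ W ≤ V, (∀ α ∈ I, ∀ x ∈ W, α x ∈ W) → Inv I ((W : Set P) \ {1}) ∧
      ((W : Set P) \ {1}).ncard + 1 = Nat.card W := fun W hW k =>
    ⟨⟨fun α hα x hx => ⟨k α hα x hx.1, fun e => hx.2 (by simpa using e)⟩, fun x hx => by
      by_contra n
      push Not at n
      exact hx.2 (mem_bot.1 (h.inf ▸ ⟨(h.fix x).2 n, hW hx.1⟩))⟩,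
    Set.ncard_sdiff_singleton_add_one (one_mem W)⟩
  refine (em (V = ⊥)).imp (fun e => eq_bot_iff.2 fun α hα => a2 α hα fun x hx => ?_) fun n => ?_
  · rw [show x = 1 from mem_bot.1 (e ▸ hx), map_one]
  obtain ⟨j, hj⟩ := IsPGroup.iff_card.1 (hP.to_subgroup V)
  have j0 : j ≠ 0 := fun e => n (card_eq_one.1 (by rw [hj, e, pow_zero]))
  have j3 : j ≤ 3 := (Nat.pow_le_pow_iff_right one_lt_two).1 (hj ▸ h8)
  obtain ⟨u, ho⟩ := exists_prime_orderOf_dvd_card' (G := V) 2 (hj ▸ dvd_pow_self 2 j0)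
  have u1 : u ≠ 1 := fun e => by simp [e] at ho
  let W := V ⊓ (powMonoidHom 2 : P →* P).ker
  have w1 : ∀ α ∈ I, ∀ x ∈ W, α x ∈ W := fun α hα x hx => ⟨a1 α hα x hx.1, by
    change α x ^ 2 = 1
    rw [← map_pow, show x ^ 2 = 1 from hx.2, map_one]⟩
  have w2 : Nat.card W ≠ 1 := fun e => u1 (Subtype.ext (mem_bot.1 (card_eq_one.1 e ▸
    (⟨u.2, congrArg Subtype.val (ho ▸ pow_orderOf_eq_one u : u ^ 2 = 1)⟩ : u.1 ∈ W))))
  obtain ⟨b1, b2⟩ := a3 V le_rfl a1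
  obtain ⟨b3, b4⟩ := a3 W inf_le_left w1
  have b5 := (b1.diff b3.1).ne hI
  have b6 := Set.ncard_sdiff_add_ncard_of_subset (s := (W : Set P) \ {1}) (t := (V : Set P) \ {1})
    fun x hx => ⟨hx.1.1, hx.2⟩
  obtain ⟨i, hi, e⟩ := (Nat.dvd_prime_pow Nat.prime_two).1
    (hj ▸ card_dvd_of_le (inf_le_left : W ≤ V))
  have b7 := b1.ne hI
  have b8 := b3.ne hI
  obtain ⟨c1, k, c2, c3⟩ := b1.orb hI (u := u) ⟨u.2, fun e => u1 (Subtype.ext e)⟩
  have c4 := c1.ne hI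
  have key : Nat.card V ≤ Nat.card W ∧ (j = 2 ∨ j = 3) ∧
      (((V : Set P) \ {1}) \ orbit I u.1).ncard = 0 := by
    interval_cases j <;> interval_cases i <;> omega
  have sq : ∀ x ∈ V, x ^ 2 = 1 := fun x hx =>
    ((eq_of_le_of_card_ge (inf_le_left : W ≤ V) key.1).ge hx).2
  have sq' : ∀ x : V, x ^ 2 = 1 := fun x => Subtype.ext (sq x x.2)
  have r1 : Function.Injective (res (St I u.1) V fun α hα => a1 α hα.1) :=
    (injective_iff_map_eq_one _).2 fun α e => Subtype.ext (a2 α α.2.1 fun x hx =>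
      (congrArg Subtype.val (DFunLike.congr_fun e (⟨x, hx⟩ : V)) :))
  have r2 := Nat.card_congr (MonoidHom.ofInjective r1).toEquiv
  have r3 : Nat.card (St I u.1) ∣ dm (j - 1) := r2 ▸ dk sq' (j - 1) (W := zpowers u)
    (r2 ▸ odd_le inf_le_left hI) (zpowers_le.2 (by
      rintro _ ⟨α, rfl⟩
      exact Subtype.ext α.2.2)) (by rw [card_zp sq' u1, hj, ← pow_succ, Nat.sub_add_cancel (by omega)])
  refine ⟨u, ⟨h, u.2, fun e => u1 (Subtype.ext e), sq, fun x hx x1 => ?_, ?_⟩, ?_⟩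
  · by_contra n
    refine Set.eq_empty_iff_forall_notMem.1 ((Set.ncard_eq_zero (Set.toFinite _)).1 key.2.2) x
      ⟨⟨hx, x1⟩, ?_⟩
    rintro ⟨α, e⟩
    exact n ⟨α, α.2, e⟩
  · rcases key.2.1 with rfl | rfl
    exacts [r3.trans (one_dvd 3), r3]
  · rcases key.2.1 with rfl | rfl
    · refine .inl ⟨hj, ?_⟩
      rw [← card_orbit I u.1, Nat.dvd_one.1 r3]
      omega
    · exact .inr hj

theorem jobGW : JobGW.{u} := by
  intro P _ _ I Z V hc hP hI h h8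
  let _ : CommGroup P := { ‹Group P› with mul_comm := hc }
  exact main hP hI h h8

end H84.EaGW
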