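import Cfsg.Agent.H84.HKSa

/-! Job NRa of `blueprints/HKS2.md`: the geometry of a minimal non-regular example. -/

set_option autoImplicit false

namespace H84.HKS

open MulAction Cfsg Subgroup H89.K H7.HKS H98

universe u

variable {G Ω : Type u} [Group G] [MulAction G Ω] {U : Ω → Subgroup G} {p : ℕ}

/-- the `p`-elements of `U a` fixing `b` -/
def Xp (U : Ω → Subgroup G) (p : ℕ) (a b : Ω) : Subgroup G :=
  closure {u | u ∈ U a ∧ ∃ k, u ^ p ^ k = 1} ⊓ stabilizer G b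

variable [Finite G] [hp : Fact p.Prime] (h : Sp U)
include h

theorem mem_Xp {a b : Ω} {u : G} :
    u ∈ Xp U p a b ↔ (u ∈ U a ∧ ∃ k, u ^ p ^ k = 1) ∧ u • b = b := by
  refine and_congr_left fun _ => ⟨fun hu => ?_, fun hu => subset_closure hu⟩
  obtain ⟨S, h1, h2, -, h4⟩ := H26.exists_isPGroup_of_nilpotent (h.nil a) p
  have : u ∈ S := (closure_le S).2 (fun x hx => h4 (zpowers x) (zpowers_le.2 hx.1)
    (isPGroup_iff_forall.2 (by
      rintro _ ⟨n, rfl⟩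
      obtain ⟨k, e⟩ := hx.2
      exact ⟨k, by rw [← zpow_natCast, ← zpow_mul, mul_comm, zpow_mul, zpow_natCast, e, one_zpow]⟩))
    (mem_zpowers x)) hu
  exact ⟨h1 this, isPGroup_iff_forall.1 h2 u this⟩

theorem Xp_le (a b : Ω) : Xp U p a b ≤ Xs U a b := fun _ hu =>
  ⟨((mem_Xp h).1 hu).1.1, ((mem_Xp h).1 hu).2⟩

theorem Xp_pg (a b : Ω) : IsPGroup p (Xp U p a b) :=
  isPGroup_iff_forall.2 fun _ hu => ((mem_Xp h).1 hu).1.2

theorem cj_Xp (g : G) (a b : Ω) : cj g (Xp U p a b) = Xp U p (g • a) (g • b) := by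
  ext x
  rw [mem_cj, mem_Xp h, mem_Xp h, ← cj_fam h.conj, mem_cj, mul_smul, mul_smul, inv_smul_eq_iff]
  refine and_congr_left fun _ => and_congr_right fun _ => exists_congr fun k => ?_
  rw [show g⁻¹ * x * g = g⁻¹ * x * g⁻¹⁻¹ by rw [inv_inv], conj_pow, conj_eq_one_iff]

theorem card_Xp {a b c d : Ω} (hab : a ≠ b) (hcd : c ≠ d) :
    Nat.card (Xp U p c d) = Nat.card (Xp U p a b) := by
  obtain ⟨g, rfl, rfl⟩ := h.t2.two hab hcd
  rw [← cj_Xp h, card_cj]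

theorem Xp_ne {a b c d : Ω} (hab : a ≠ b) (hcd : c ≠ d) (hn : Xp U p a b ≠ ⊥) :
    Xp U p c d ≠ ⊥ := by
  rwa [Ne, ← card_eq_one, card_Xp h hab hcd, card_eq_one]

theorem Xp_eq {c d e : Ω} (hd : c ≠ d) (he : c ≠ e) (hf : e ∈ Fx Ω (Xp U p c d : Set G)) :
    Xp U p c e = Xp U p c d :=
  (eq_of_le_of_card_ge (fun x hx => (mem_Xp h).2 ⟨((mem_Xp h).1 hx).1, hf x hx⟩)
    (card_Xp h hd he).le).symm

theorem left_mem (a b : Ω) : a ∈ Fx Ω (Xp U p a b : Set G) := fun x hx => h.fix a x (Xp_le h a b hx).1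

theorem right_mem (a b : Ω) : b ∈ Fx Ω (Xp U p a b : Set G) := fun _ hx => (Xp_le h a b hx).2

theorem dvd_Zc {a b : Ω} (hab : a ≠ b) (hn : Xp U p a b ≠ ⊥) (c : Ω) : p ∣ Nat.card (Zc U c) := by
  have := h.t2.nontrivial
  obtain ⟨d, hd⟩ := exists_ne c
  obtain ⟨k, e⟩ := (Xp_pg h c d (p := p)).exists_card_eq
  have h1 : p ∣ Nat.card (U c) := (e ▸ dvd_pow_self p (by
    rintro rfl
    exact Xp_ne h hab hd.symm hn (card_eq_one.1 e))).trans
      (card_dvd_of_le ((Xp_le h c d).trans inf_le_left))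
  obtain ⟨z, h2, h3, h4⟩ := H20.exists_center_prime_of_nil (h.nil c) h1
  exact h3 ▸ orderOf_dvd_natCard (Zc U c) ⟨h2, fun x hx => h4 x hx⟩

theorem Xp_sym {a b : Ω} (hab : a ≠ b) (hn : Xp U p a b ≠ ⊥) {c d : Ω} (hcd : c ≠ d) :
    Xp U p c d = Xp U p d c := by
  obtain ⟨z, hz, h1, h2⟩ := exists_fix_ne hp.out (Xp_pg h b a) (Z := Zc U a) (fun q hq s hs => by
    have := conj_mem_cj (g := q) hs
    rwa [cj_Zc h, show q • a = a from (Xp_le h b a hq).2] at this) (dvd_Zc h hab hn a)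
  have e1 : b ≠ z • b := fun e => h1 (Zc_reg h hab.symm z hz e.symm)
  have e2 : z • a = a := h.fix a z hz.1
  have e3 : z • b ≠ a := fun e => hab (smul_left_cancel z (e2.trans e.symm))
  have e4 : Xp U p (z • b) a = Xp U p b a := by
    rw [← e2, ← cj_Xp h, e2]
    exact cj_eq_self (centralizer_le_normalizer _ h2)
  have e5 : Xp U p b (z • b) = Xp U p (z • b) b := by
    rw [Xp_eq h hab.symm e1 fun x hx => fix_of_comm (h2 x hx).symm (left_mem h b a x hx),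
      Xp_eq h e3 e1.symm (e4 ▸ left_mem h b a), e4]
  obtain ⟨g, rfl, rfl⟩ := h.t2.two e1 hcd
  rw [← cj_Xp h, e5, cj_Xp h]

theorem Xp_line {a b : Ω} (hab : a ≠ b) (hn : Xp U p a b ≠ ⊥) {c d : Ω} (hcd : c ≠ d)
    (hc : c ∈ Fx Ω (Xp U p a b : Set G)) (hd : d ∈ Fx Ω (Xp U p a b : Set G)) :
    Xp U p c d = Xp U p a b := by
  by_cases e : a = c
  · subst e
    exact Xp_eq h hab hcd hd
  · have e1 : Xp U p c a = Xp U p a b := by rw [Xp_sym h hab hn (Ne.symm e), Xp_eq h hab e hc]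
    rw [Xp_eq h (Ne.symm e) hcd (e1 ▸ hd), e1]

theorem mem_nor {a b : Ω} (hab : a ≠ b) (hn : Xp U p a b ≠ ⊥) {c d : Ω} (hcd : d ≠ c)
    (hc : c ∈ Fx Ω (Xp U p a b : Set G)) (hd : d ∈ Fx Ω (Xp U p a b : Set G)) {u : G}
    (hu : u • c = c) (he : u • d ∈ Fx Ω (Xp U p a b : Set G)) :
    u ∈ normalizer (Xp U p a b : Set G) := by
  rw [← cj_eq_self_iff]
  conv_lhs => rw [← Xp_line h hab hn hcd.symm hc hd, cj_Xp h, hu]
  exact Xp_line h hab hn (fun e => hcd (smul_left_cancel u (e.symm.trans hu.symm))) hc he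

theorem quo_p (ho : ∀ a, Odd (Nat.card (U a))) (ih : IH G) {a b : Ω} (hab : a ≠ b)
    (hn : Xp U p a b ≠ ⊥) :
    HasQuo U (normalizer (Xp U p a b : Set G)) (Fx Ω (Xp U p a b : Set G)) := by
  have := h.t2.finite
  obtain ⟨⟨g, hg⟩, h1⟩ := ne_bot_iff_exists_ne_one.1 hn
  refine hasQuo h ho ih (fun g hg x hx => smul_mem_Fx hg hx) ?_ (fun c hc d hd e he h1 h2 => ?_)
    (le_normalizer hg) (fun e => h1 (Subtype.ext e)) fun x hx => hx g hg
  · obtain ⟨⟨z, hz⟩, h2⟩ := ne_bot_iff_exists_ne_one.1 (show Zc U a ≠ ⊥ from fun e =>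
      hp.out.one_lt.ne' (by simpa [e] using dvd_Zc h hab hn a))
    exact (Set.two_lt_ncard_iff).2 ⟨a, b, z • b, left_mem h a b, right_mem h a b,
      fun x hx => fix_of_comm (hz.2 x (Xp_le h a b hx).1).symm (right_mem h a b x hx), hab,
      fun e => hab (smul_left_cancel z ((h.fix a z hz.1).trans e)),
      fun e => h2 (Subtype.ext (Zc_reg h hab.symm z hz e.symm))⟩
  · obtain ⟨u, hu, rfl⟩ := h.tr h1 h2
    exact ⟨u, hu, mem_nor h hab hn h1 hc hd (h.fix c u hu) he, rfl⟩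

theorem Fx_eq (ho : ∀ a, Odd (Nat.card (U a))) (ih : IH G) {a b : Ω} (hab : a ≠ b)
    (hn : Xp U p a b ≠ ⊥) : Fx Ω (Xp U p a b : Set G) = Ln U a b :=
  Set.Subset.antisymm (fun c hc x hx => HasQuo.fix (quo_p h ho ih hab hn) (left_mem h a b)
    (right_mem h a b) hab.symm hx.1 (mem_nor h hab hn hab.symm (left_mem h a b) (right_mem h a b)
      (h.fix a x hx.1) (by rw [show x • b = b from hx.2]; exact right_mem h a b)) hx.2 c hc)
    fun c hc x hx => hc x (Xp_le h a b hx)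

/-- elements of order prime to `p` centralise `X_p` -/
theorem cop_p {a b : Ω} {u : G} (hu : u ∈ U a) (hc : (orderOf u).Coprime p) :
    u ∈ centralizer (Xp U p a b : Set G) := fun x hx => by
  obtain ⟨⟨h1, k, e⟩, -⟩ := (mem_Xp h).1 hx
  exact (H26.commute_of_coprime_orderOf_of_mem (h.nil a) hu h1
    ((hc.pow_right k).coprime_dvd_right (orderOf_dvd_of_pow_eq_one e))).eq.symm

omit [Finite G] hp in
theorem exists_out {a b : Ω} (hn : Xp U p a b ≠ ⊥) : ∃ c, c ∉ Fx Ω (Xp U p a b : Set G) := by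
  obtain ⟨⟨g, hg⟩, h1⟩ := ne_bot_iff_exists_ne_one.1 hn
  obtain ⟨c, hc⟩ := h.t2.exists_move (x := g) fun e => h1 (Subtype.ext e)
  exact ⟨c, fun e => hc (e g hg)⟩

theorem Xp_eq_Xs (ho : ∀ a, Odd (Nat.card (U a))) (ih : IH G) {a b : Ω} (hab : a ≠ b)
    (hn : Xp U p a b ≠ ⊥) : Xp U p a b = Xs U a b := by
  refine le_antisymm (Xp_le h a b) fun u hu => (mem_Xp h).2 ⟨⟨hu.1, ?_⟩, hu.2⟩
  refine ⟨_, orderOf_dvd_iff_pow_eq_one.1 (Nat.eq_prime_pow_of_unique_prime_dvd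
    (orderOf_pos u).ne' fun {q} hq hd => ?_).dvd⟩
  by_contra hne
  have : Fact q.Prime := ⟨hq⟩
  have o := orderOf_pow_orderOf_div (orderOf_pos u).ne' hd
  have hn' : Xp U q a b ≠ ⊥ := fun e => by
    have : u ^ (orderOf u / q) ∈ Xp U q a b := (mem_Xp h).2 ⟨⟨pow_mem hu.1 _, 1, by
      rw [pow_one, ← orderOf_dvd_iff_pow_eq_one, o]⟩, pow_mem hu.2 _⟩
    rw [e, mem_bot] at this
    exact hq.one_lt.ne' (by rw [← o, this, orderOf_one])
  obtain ⟨c, hc⟩ := exists_out h hn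
  obtain ⟨w, hw, rfl⟩ := h.tr hab.symm (c := c) fun e => hc (by rw [e]; exact left_mem h a b)
  obtain ⟨x, y, hx, hy, ⟨k, e⟩, h2, rfl⟩ := H93.exists_parts p w
  refine hc ?_
  rw [mul_smul, Fx_eq h ho ih hab hn, ← Fx_eq h ho ih hab hn']
  refine smul_mem_Fx (centralizer_le_normalizer _ (cop_p h (zpowers_le.2 hw hx) ?_)) ?_
  · exact (((Nat.coprime_primes hp.out hq).2 (Ne.symm hne)).pow_left k).coprime_dvd_left
      (orderOf_dvd_of_pow_eq_one e)
  · rw [Fx_eq h ho ih hab hn', ← Fx_eq h ho ih hab hn]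
    exact smul_mem_Fx (centralizer_le_normalizer _ (cop_p h (zpowers_le.2 hw hy) h2))
      (right_mem h a b)

/-- the number of lines through a point is a power of `p` -/
theorem index_pow (a b : Ω) :
    ∃ i, (normalizer (Xp U p a b : Set G)).relIndex (U a) = p ^ i := by
  refine ⟨_, Nat.eq_prime_pow_of_unique_prime_dvd index_ne_zero_of_finite fun {q} hq hd => ?_⟩
  by_contra hne
  have : Fact q.Prime := ⟨hq⟩
  obtain ⟨Q⟩ := (inferInstance : Nonempty (Sylow q (U a)))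
  refine Q.not_dvd_index (hd.trans (index_dvd_of_le fun x hx => ?_))
  obtain ⟨k, e⟩ := isPGroup_iff_forall.1 Q.isPGroup' x hx
  exact centralizer_le_normalizer _ (cop_p h x.2 (((Nat.coprime_primes hq hp.out).2 hne).pow_left k
    |>.coprime_dvd_left (orderOf_dvd_of_pow_eq_one (congrArg Subtype.val e))))

theorem count {a b : Ω} (hab : a ≠ b) (hn : Xp U p a b ≠ ⊥) :
    ∃ m, (Fx Ω (Xp U p a b : Set G)).ncard = m + 1 ∧ p ∣ m ∧ 0 < m ∧
      Nat.card Ω = (normalizer (Xp U p a b : Set G)).relIndex (U a) * m + 1 := by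
  have := h.t2.finite
  set S := normalizer (Xp U p a b : Set G) ⊓ U a with hS
  have e : Fx Ω (Xp U p a b : Set G) = insert a {c | ∃ s ∈ S, s • b = c} := by
    ext c
    refine ⟨fun hc => or_iff_not_imp_left.2 fun h1 => ?_, ?_⟩
    · obtain ⟨u, hu, rfl⟩ := h.tr hab.symm h1
      exact ⟨u, ⟨mem_nor h hab hn hab.symm (left_mem h a b) (right_mem h a b) (h.fix a u hu) hc,
        hu⟩, rfl⟩
    · rintro (rfl | ⟨s, hs, rfl⟩)
      exacts [left_mem h _ b, smul_mem_Fx hs.1 (right_mem h a b)]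
  refine ⟨(stabilizer G b).relIndex S, ?_, ?_, Nat.pos_of_ne_zero index_ne_zero_of_finite, ?_⟩
  · rw [e, Set.ncard_insert_of_notMem, ncard_orb]
    rintro ⟨s, hs, e⟩
    exact hab (smul_left_cancel s ((h.fix a s hs.2).trans e.symm))
  · obtain ⟨⟨z, hz⟩, o⟩ := exists_prime_orderOf_dvd_card' p (dvd_Zc h hab hn a)
    have z1 : z ∈ S := ⟨centralizer_le_normalizer _ fun x hx => hz.2 x (Xp_le h a b hx).1, hz.1⟩
    rw [← ncard_orb]
    by_contra hd
    obtain ⟨_, ⟨s, hs, rfl⟩, e⟩ := H89.exists_fixed_of_not_dvd_ncard (P := zpowers z) hp.out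
      (IsPGroup.of_card (n := 1) (by rw [Nat.card_zpowers, pow_one, ← o, orderOf_mk]))
      {c | ∃ s ∈ S, s • b = c} (Set.toFinite _) (by
        rintro g _ ⟨s, hs, rfl⟩
        exact ⟨g * s, mul_mem (zpowers_le.2 z1 g.2) hs, mul_smul _ _ _⟩) hd
    have := Zc_reg h (fun e => hab (smul_left_cancel s ((h.fix a s hs.2).trans e.symm))) z hz
      (e ⟨z, mem_zpowers z⟩)
    subst this
    exact hp.out.one_lt.ne (by rw [← o]; exact orderOf_one.symm)
  · have e1 : stabilizer G b ⊓ U a ≤ S := fun x hx => ⟨mem_nor h hab hn hab.symm (left_mem h a b)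
      (right_mem h a b) (h.fix a x hx.2) ((show x • b = b from hx.1).symm ▸ right_mem h a b), hx.2⟩
    rw [card_Ω h hab, ← inf_relIndex_right (normalizer _), ← hS, ← inf_relIndex_right (stabilizer G b),
      ← relIndex_mul_relIndex _ S _ e1 inf_le_right, mul_comm, ← inf_relIndex_right _ S,
      ← inf_relIndex_right (stabilizer G b) S, inf_assoc, inf_eq_right.2 (inf_le_right : S ≤ U a)]

/-- Fisher's inequality -/
theorem fisher {a b c : Ω} (hab : a ≠ b) (hn : Xp U p a b ≠ ⊥)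
    (hc : c ∉ Fx Ω (Xp U p a b : Set G)) : (Fx Ω (Xp U p a b : Set G)).ncard ≤
      (normalizer (Xp U p c a : Set G)).relIndex (U c) := by
  have n1 : ∀ {d}, d ∈ Fx Ω (Xp U p a b : Set G) → d ≠ c := fun hd e => hc (by rwa [← e])
  choose f f1 f2 using fun d : Fx Ω (Xp U p a b : Set G) => h.tr (n1 (left_mem h a b)) (n1 d.2)
  refine Nat.card_le_card_of_injective (fun d => (QuotientGroup.mk ⟨f d, f1 d⟩ :
    U c ⧸ (normalizer (Xp U p c a : Set G)).subgroupOf (U c))) fun d d' e => ?_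
  have e0 : (f d)⁻¹ * f d' ∈ normalizer (Xp U p c a : Set G) :=
    (QuotientGroup.eq (a := (⟨f d, f1 d⟩ : U c)) (b := ⟨f d', f1 d'⟩)).1 e
  have e1 := cj_eq_self e0
  rw [← cj_cj, ← cj_inj (g := f d), cj_cj_inv, cj_Xp h, cj_Xp h, h.fix c _ (f1 d), h.fix c _ (f1 d'),
    f2, f2] at e1
  by_contra hne
  have hne' : (d : Ω) ≠ d' := fun e => hne (Subtype.ext e)
  refine hc ?_
  rw [← Xp_line h hab hn hne' d.2 d'.2, Xp_line h (n1 d.2).symm (Xp_ne h hab (n1 d.2).symm hn) hne'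
    (right_mem h c d) (e1 ▸ right_mem h c d')]
  exact left_mem h c d

omit hp h in
theorem jobNRa : JobNRa.{u} := fun G Ω _ _ _ U h hr ih => by
  simp only [Reg, not_forall] at hr
  obtain ⟨a, b, hab, u, hu, e, h1⟩ := hr
  obtain ⟨p, hp, hd⟩ := Nat.exists_prime_and_dvd (mt orderOf_eq_one_iff.1 h1)
  have : Fact p.Prime := ⟨hp⟩
  have s := h.toSp
  have o := orderOf_pow_orderOf_div (orderOf_pos u).ne' hd
  have hn : Xp U p a b ≠ ⊥ := fun e' => by
    have : u ^ (orderOf u / p) ∈ Xp U p a b := (mem_Xp s).2 ⟨⟨pow_mem hu _, 1, by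
      rw [pow_one, ← orderOf_dvd_iff_pow_eq_one, o]⟩, pow_mem (show u ∈ stabilizer G b from e) _⟩
    rw [e', mem_bot] at this
    exact hp.one_lt.ne' (by rw [← o, this, orderOf_one])
  have n : ∀ {c d : Ω}, c ≠ d → Xp U p c d ≠ ⊥ := fun e => Xp_ne s hab.symm e hn
  have x : ∀ {c d : Ω}, c ≠ d → Xp U p c d = Xs U c d := fun e => Xp_eq_Xs s h.odd ih e (n e)
  refine ⟨p, h, hp, fun e => x e ▸ n e, fun e => x e ▸ Xp_pg s _ _, fun e1 e2 hc hd => ?_,
    fun {a b} e => ?_, fun e u hu hc => ?_, ⟨fun a u hu => s.fix a u hu.1,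
      fun g a u hu => cj_Zc s g a ▸ conj_mem_cj hu, Zc_reg s,
      fun a => (h.odd a).of_dvd_nat (card_dvd_of_le inf_le_left)⟩, dvd_Zc s hab.symm hn,
    fun e => ?_, loc_quo s h.odd ih⟩
  · rw [← x e1, ← x e2]
    exact Xp_line s e1 (n e1) e2 (x e1 ▸ hc) (x e1 ▸ hd)
  · obtain ⟨c, hc⟩ := exists_out s (n e)
    have hca : c ≠ a := fun e => hc (by rw [e]; exact left_mem s a b)
    obtain ⟨m, h1, h2, h3, h4⟩ := count s hca (n hca)
    obtain ⟨i, hi⟩ := index_pow s c a (p := p)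
    have h5 := fisher s e (n e) hc
    obtain ⟨g, rfl, rfl⟩ := s.t2.two hca e
    rw [← cj_Xp s, Fx_cj, Set.ncard_image_of_injective _ (MulAction.injective g), h1, hi] at h5
    refine ⟨m, i, ?_, h2, h3, h5, hi ▸ h4⟩
    rw [Ln, ← x e, ← cj_Xp s, Fx_cj, Set.ncard_image_of_injective _ (MulAction.injective g), h1]
  · rw [← x e]
    exact centralizer_le_normalizer _ (cop_p s hu ((hp.coprime_iff_not_dvd.2 hc).symm))
  · rw [Ln, ← x e]
    exact quo_p s h.odd ih e (n e)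

end H84.HKS
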