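/- S3416, counting part: a group with the order and the order counts of a small Ree group. -/
import Cfsg.Agent.S2357
import Cfsg.Agent.S1159
import Cfsg.Agent.S1069
import Cfsg.Agent.H23.Frobenius

set_option autoImplicit false
set_option linter.unusedSectionVars false

namespace H84.RN

open Cfsg

/-- the number of elements whose order satisfies `P` -/
noncomputable def cnt (G : Type*) [Group G] (P : ℕ → Prop) : ℕ := Nat.card {g : G // P (orderOf g)}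

section count

variable {G : Type*} [Group G] [Finite G] {P Q : ℕ → Prop}

theorem cnt_eq (P : ℕ → Prop) : cnt G P = {g : G | P (orderOf g)}.ncard := rfl

theorem cnt_mono (h : ∀ g : G, P (orderOf g) → Q (orderOf g)) : cnt G P ≤ cnt G Q :=
  Set.ncard_le_ncard (s := {g : G | P (orderOf g)}) (t := {g : G | Q (orderOf g)}) h

theorem cnt_congr (h : ∀ g : G, P (orderOf g) ↔ Q (orderOf g)) : cnt G P = cnt G Q :=
  (cnt_mono fun g => (h g).1).antisymm (cnt_mono fun g => (h g).2)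

theorem cnt_or (h : ∀ k, P k → ¬ Q k) : cnt G (fun k => P k ∨ Q k) = cnt G P + cnt G Q := by
  exact Set.ncard_union_eq (s := {g : G | P (orderOf g)}) (t := {g : G | Q (orderOf g)})
    (Set.disjoint_left.2 fun g => h (orderOf g))

theorem cnt_split (P Q : ℕ → Prop) :
    cnt G P = cnt G (fun k => P k ∧ Q k) + cnt G (fun k => P k ∧ ¬ Q k) := by
  rw [← cnt_or fun k h h' => h'.2 h.2]
  exact cnt_congr fun g => by tauto

theorem cnt_le : cnt G P ≤ Nat.card G := Finite.card_subtype_le _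

theorem cnt_add_le (h : ∀ k, P k → ¬ Q k) : cnt G P + cnt G Q ≤ Nat.card G := cnt_or (G := G) h ▸ cnt_le

theorem cnt_top (h : ∀ g : G, P (orderOf g)) : cnt G P = Nat.card G :=
  Nat.card_congr (Equiv.subtypeUnivEquiv h)

theorem cnt_one : cnt G (· = 1) = 1 := by
  rw [cnt_eq]; simp

theorem cnt_of_not (h : ∀ g : G, ¬ P (orderOf g)) : cnt G P = 0 :=
  (Set.ncard_eq_zero (s := {g : G | P (orderOf g)})).2 (Set.eq_empty_of_forall_notMem h)

theorem cnt_zero : cnt G (· = 0) = 0 := cnt_of_not fun g => (orderOf_pos g).ne'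

theorem not_of_cnt (h : cnt G P = 0) (g : G) : ¬ P (orderOf g) := fun hg => by
  rw [cnt_eq, Set.ncard_eq_zero] at h
  exact (h ▸ hg : g ∈ (∅ : Set G))

theorem dvd_cnt {d : ℕ} (h : ∀ k, P k → d ∣ cnt G (· = k)) : d ∣ cnt G P := by
  classical
  have := Fintype.ofFinite G
  rw [cnt, Nat.card_eq_fintype_card, Fintype.card_subtype, Finset.card_eq_sum_card_image orderOf]
  refine Finset.dvd_sum fun k hk => ?_
  obtain ⟨g, hg, rfl⟩ := Finset.mem_image.1 hk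
  have hg := (Finset.mem_filter.1 hg).2
  have := h _ hg
  rw [cnt, Nat.card_eq_fintype_card, Fintype.card_subtype] at this
  refine this.trans (dvd_of_eq (congrArg _ (Finset.ext fun x => ?_)))
  simp only [Finset.mem_filter, Finset.mem_univ, true_and]
  exact ⟨fun h => ⟨h ▸ hg, h⟩, fun h => h.2⟩

theorem frob {n : ℕ} (h : n ∣ Nat.card G) : n ∣ cnt G (· ∣ n) := by
  convert H23.dvd_card_pow_eq_one h using 1
  exact Nat.card_congr (Equiv.subtypeEquivRight fun g => orderOf_dvd_iff_pow_eq_one)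

theorem even_cnt {k : ℕ} (hk : 3 ≤ k) : 2 ∣ cnt G (· = k) := by
  classical
  have := Fintype.ofFinite G
  rw [cnt, Nat.card_eq_fintype_card, Fintype.card_subtype, ← ZMod.natCast_eq_zero_iff,
    Finset.card_eq_sum_ones, Nat.cast_sum]
  refine Finset.sum_involution (fun g _ => g⁻¹) (fun _ _ => by decide) (fun g hg _ e => ?_)
    (fun g hg => by simpa using hg) fun _ _ => inv_inv _
  have h2 : orderOf g ∣ 2 := orderOf_dvd_of_pow_eq_one (by rw [sq]; nth_rw 1 [← e]; simp)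
  have := Nat.le_of_dvd two_pos h2
  have := (Finset.mem_filter.1 hg).2
  omega

/-- the orders `k ≥ 3` whose count is not a multiple of `D` -/
def Ty (G : Type*) [Group G] (D k : ℕ) : Prop := 3 ≤ k ∧ ¬ D ∣ cnt G (· = k)

theorem typed {D u : ℕ} (hu : u ≡ 1 [MOD D]) (hT : ∀ k, Ty G D k → 2 * u ∣ cnt G (· = k))
    (hP : D ∣ cnt G P) : ∃ x, cnt G (fun k => P k ∧ Ty G D k) = 2 * u * x ∧
      D ∣ cnt G (fun k => P k ∧ k < 3) + 2 * x := by
  obtain ⟨x, hx⟩ := dvd_cnt (G := G) (P := fun k => P k ∧ Ty G D k) fun k hk => hT k hk.2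
  refine ⟨x, hx, ?_⟩
  have h1 : D ∣ cnt G (fun k => (P k ∧ ¬ Ty G D k) ∧ ¬ k < 3) := dvd_cnt fun k hk => by
    by_contra h; exact hk.1.2 ⟨by omega, h⟩
  have h2 : cnt G (fun k => (P k ∧ ¬ Ty G D k) ∧ k < 3) = cnt G (fun k => P k ∧ k < 3) :=
    cnt_congr fun g => ⟨fun h => ⟨h.1.1, h.2⟩, fun h => ⟨⟨h.1, fun t => by have := t.1; omega⟩, h.2⟩⟩
  rw [cnt_split P (Ty G D), hx, cnt_split (fun k => P k ∧ ¬ Ty G D k) (· < 3), h2, ← add_assoc,
    Nat.dvd_add_left h1, add_comm] at hP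
  refine (Nat.ModEq.dvd_iff (Nat.ModEq.add_left _ ?_) dvd_rfl).1 hP
  simpa [mul_right_comm] using hu.mul_left (2 * x)

theorem cnt_small {E : ℕ} : cnt G (fun k => k ∣ 2 * E ∧ k < 3) = 1 + cnt G (· = 2) := by
  rw [← cnt_one (G := G), ← cnt_or (by omega)]
  refine cnt_congr fun g => ⟨fun h => ?_, ?_⟩
  · have := orderOf_pos g; omega
  · rintro (h | h) <;> simp [h]

theorem cnt_small_odd {E : ℕ} (hE : Odd E) : cnt G (fun k => k ∣ E ∧ k < 3) = 1 := by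
  rw [← cnt_one (G := G)]
  refine cnt_congr fun g => ⟨fun h => ?_, fun h => by simp [h]⟩
  have := orderOf_pos g
  have : orderOf g ≠ 2 := fun e => hE.not_two_dvd_nat (e ▸ h.1)
  omega

theorem lower_odd {D u : ℕ} (hD : Odd D) (hu : u ≡ 1 [MOD D])
    (hT : ∀ k, Ty G D k → 2 * u ∣ cnt G (· = k)) (hN : D ∣ Nat.card G) :
    D * u ≤ cnt G (fun k => k ∣ D ∧ Ty G D k) + u := by
  obtain ⟨x, h1, h2⟩ := typed hu hT (frob hN)
  rw [cnt_small_odd hD] at h2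
  have := Nat.mul_le_mul_right u (Nat.le_of_dvd (by omega) h2)
  rw [h1]; nlinarith

theorem lower_even {D u j : ℕ} (hD : Odd D) (hu : u ≡ 1 [MOD D])
    (hT : ∀ k, Ty G D k → 2 * u ∣ cnt G (· = k)) (hN : 2 * D ∣ Nat.card G) (hj : 0 < j)
    (h2 : 1 + cnt G (· = 2) ≡ 2 * j [MOD D]) :
    2 * D * u ≤ cnt G (fun k => k ∣ 2 * D ∧ Ty G D k) + 2 * j * u := by
  obtain ⟨x, h1, h3⟩ := typed hu hT ((dvd_mul_left D 2).trans (frob hN))
  rw [cnt_small, (h2.add_right _).dvd_iff dvd_rfl, ← mul_add] at h3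
  have := Nat.mul_le_mul_right u (Nat.le_of_dvd (by omega)
    ((Nat.coprime_two_right.2 hD).dvd_of_dvd_mul_left h3))
  rw [h1]; nlinarith

theorem iso {D u : ℕ} (hD : Odd D) (hu : u ≡ 1 [MOD D]) (h3 : D.Coprime 3)
    (hT : ∀ k, Ty G D k → 2 * u ∣ cnt G (· = k)) (hN : Nat.card G = D * (6 * u))
    (h2 : D ∣ cnt G (· = 2)) (hQ : ∀ k, Q k → ¬ Ty G D k ∧ k.Coprime D)
    (hlt : Nat.card G + u < 2 * D * u + cnt G Q) :
    (∀ g : G, ¬ (orderOf g).Coprime D → orderOf g ∣ D) ∧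
      6 * D * cnt G (fun k => ¬ k.Coprime D) = (D - 1) * Nat.card G := by
  have cu : D.Coprime u := by
    rw [Nat.Coprime, Nat.gcd_comm, hu.gcd_eq, Nat.gcd_one_left]
  have c6 : D.Coprime (6 * u) :=
    ((Nat.coprime_two_right.2 hD).mul_right h3).mul_right cu
  have l1 := lower_odd hD hu hT ⟨_, hN⟩
  obtain ⟨y, hy, hy'⟩ := typed (P := fun _ => True) hu hT (cnt_top (P := fun _ => True)
    (fun _ : G => trivial) ▸ ⟨_, hN⟩)
  have e1 : cnt G (fun k => True ∧ k < 3) = 1 + cnt G (· = 2) := by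
    rw [← cnt_small (E := 1)]
    refine cnt_congr fun g => ⟨fun h => ⟨?_, h.2⟩, fun h => ⟨trivial, h.2⟩⟩
    have := orderOf_pos g
    rcases (by omega : orderOf g = 1 ∨ orderOf g = 2) with e | e <;> simp [e]
  rw [e1, add_right_comm, Nat.dvd_add_left h2] at hy'
  obtain ⟨j, hj⟩ := hy'
  have l2 := cnt_add_le (G := G) (P := fun k => True ∧ Ty G D k) (Q := Q) fun k h h' => (hQ k h').1 h.2
  have j1 : j = 1 := by
    rcases (by omega : j = 0 ∨ j = 1 ∨ 2 ≤ j) with h | h | h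
    · simp [h] at hj
    · exact h
    · have : 2 * D * u ≤ (1 + 2 * y) * u := Nat.mul_le_mul_right u (by nlinarith)
      nlinarith
  rw [j1, mul_one] at hj
  have e2 : cnt G (fun k => True ∧ Ty G D k) + u = D * u := by rw [hy, ← hj]; ring
  have e3 := cnt_split (G := G) (fun k => True ∧ Ty G D k) (· ∣ D)
  have l3 : cnt G (fun k => k ∣ D ∧ Ty G D k) ≤ cnt G (fun k => (True ∧ Ty G D k) ∧ k ∣ D) :=
    cnt_mono fun g h => ⟨⟨trivial, h.2⟩, h.1⟩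
  have z1 := not_of_cnt (by omega : cnt G (fun k => (True ∧ Ty G D k) ∧ ¬ k ∣ D) = 0)
  have e4 : cnt G (fun k => ¬ k.Coprime D ∧ Ty G D k) = cnt G (fun k => True ∧ Ty G D k) :=
    cnt_congr fun g => ⟨fun h => ⟨trivial, h.2⟩, fun h => ⟨fun c => by
      have := c.eq_one_of_dvd (by_contra fun n => z1 g ⟨h, n⟩)
      have := h.2.1
      omega, h.2⟩⟩
  obtain ⟨t, ht⟩ : D ∣ cnt G (fun k => ¬ k.Coprime D ∧ ¬ Ty G D k) := dvd_cnt fun k hk => by
    by_contra h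
    have k1 : k ≠ 1 := fun e => hk.1 (by simp [e])
    have k2 : k ≠ 2 := fun e => h (e ▸ h2)
    have k0 : k ≠ 0 := fun e => h (by rw [e, cnt_zero]; exact dvd_zero _)
    exact hk.2 ⟨by omega, h⟩
  have e5 := cnt_split (G := G) (fun k => ¬ k.Coprime D) (Ty G D)
  have e6 : cnt G (· ∣ 6 * u) + cnt G (fun k => ¬ k.Coprime D) = Nat.card G := by
    rw [← cnt_or fun k h n => n (c6.symm.coprime_dvd_left h)]
    refine cnt_top fun g => or_iff_not_imp_right.2 fun c => ?_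
    exact (not_not.1 c).dvd_of_dvd_mul_left (hN ▸ orderOf_dvd_natCard g)
  have d1 : 6 * u ∣ cnt G (fun k => ¬ k.Coprime D) :=
    (Nat.dvd_add_right (frob ⟨D, by rw [hN, mul_comm]⟩)).1 (by rw [e6, hN]; exact dvd_mul_left _ _)
  have d2 : u ∣ t := by
    refine cu.symm.dvd_of_dvd_mul_left ((Nat.dvd_add_right (a := u) (b := 2 * u * y) ⟨2 * y, by ring⟩).1 ?_)
    rw [← hy, ← e4, ← ht, ← e5]
    exact (dvd_mul_left u 6).trans d1
  have l4 := cnt_add_le (G := G) (P := fun k => ¬ k.Coprime D) (Q := Q) fun k h h' => h (hQ k h').2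
  have t0 : t = 0 := Nat.eq_zero_of_dvd_of_lt d2 (lt_of_mul_lt_mul_left (a := D) (by nlinarith) D.zero_le)
  rw [t0, mul_zero] at ht
  refine ⟨fun g hg => by_contra fun n => z1 g ⟨⟨trivial, by_contra fun h =>
    not_of_cnt ht g ⟨hg, h⟩⟩, n⟩, ?_⟩
  rw [e5, ht, e4, hy, hN, ← hj, Nat.add_sub_cancel_left]
  ring

/-- the counting argument with the numerical data of a Ree group -/
theorem both {r w a b A B : ℕ} (hr : 1 ≤ r) (hw : w = (12 * r ^ 2 + 12 * r + 3) ^ 2 * (2 * r + 1) ^ 2)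
    (ha : a = 6 * r ^ 2 + 6 * r + 1) (hb : b = 3 * r ^ 2 + 3 * r + 1)
    (hA : A = 12 * r ^ 2 + 18 * r + 7) (hB : B = 12 * r ^ 2 + 6 * r + 1)
    (hN : Nat.card G = 24 * w * a * b * A * B)
    (h2 : cnt G (· = 2) = (12 * r ^ 2 + 12 * r + 3) ^ 2 * (A * B))
    (hv : ∀ k, 3 ≤ k → a * b * A * B ∣ cnt G (· = k) ∨ 2 * (4 * w * a * b * B) ∣ cnt G (· = k) ∨
      2 * (4 * w * a * b * A) ∣ cnt G (· = k) ∨ 2 * (6 * w * b * A * B) ∣ cnt G (· = k) ∨
      2 * (w * a * A * B) ∣ cnt G (· = k)) {D : ℕ} (hD : D = B ∨ D = A) :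
    (∀ g : G, ¬ (orderOf g).Coprime D → orderOf g ∣ D) ∧
      6 * D * cnt G (fun k => ¬ k.Coprime D) = (D - 1) * Nat.card G := by
  have oa : Odd a := ⟨3 * r ^ 2 + 3 * r, by rw [ha]; ring⟩
  have ob : Odd b := by
    obtain ⟨c, hc⟩ := Nat.even_mul_succ_self r
    exact ⟨3 * c, by rw [hb, show 2 * (3 * c) = 3 * (c + c) by ring, ← hc]; ring⟩
  have oA : Odd A := ⟨6 * r ^ 2 + 9 * r + 3, by rw [hA]; ring⟩
  have oB : Odd B := ⟨6 * r ^ 2 + 3 * r, by rw [hB]; ring⟩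
  have md : ∀ {u D j : ℕ} (h : ℕ), u = D * h + j → u ≡ j [MOD D] := fun h e => by
    rw [e]; exact Nat.mul_add_mod _ _ _
  have uA : 4 * w * a * b * B ≡ 1 [MOD A] := md (5 + 126 * r + 1380 * r ^ 2 + 9000 * r ^ 3 +
    38520 * r ^ 4 + 113184 * r ^ 5 + 231264 * r ^ 6 + 324864 * r ^ 7 + 300672 * r ^ 8 +
    165888 * r ^ 9 + 41472 * r ^ 10) (by rw [hw, ha, hb, hA, hB]; ring)
  have uB : 4 * w * a * b * A ≡ 1 [MOD B] := md (251 + 4434 * r + 33564 * r ^ 2 + 147960 * r ^ 3 +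
    425592 * r ^ 4 + 838944 * r ^ 5 + 1150560 * r ^ 6 + 1085184 * r ^ 7 + 673920 * r ^ 8 +
    248832 * r ^ 9 + 41472 * r ^ 10) (by rw [hw, ha, hb, hA, hB]; ring)
  have u0 : 6 * w * b * A * B ≡ 1 [MOD a] := md (377 + 6648 * r + 54888 * r ^ 2 + 274464 * r ^ 3 +
    913968 * r ^ 4 + 2109888 * r ^ 5 + 3412800 * r ^ 6 + 3815424 * r ^ 7 + 2820096 * r ^ 8 +
    1244160 * r ^ 9 + 248832 * r ^ 10) (by rw [hw, ha, hb, hA, hB]; ring)
  have u1 : w * a * A * B ≡ 1 [MOD b] := md (62 + 1488 * r + 15600 * r ^ 2 + 96192 * r ^ 3 +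
    383904 * r ^ 4 + 1033344 * r ^ 5 + 1892736 * r ^ 6 + 2322432 * r ^ 7 + 1824768 * r ^ 8 +
    829440 * r ^ 9 + 165888 * r ^ 10) (by rw [hw, ha, hb, hA, hB]; ring)
  have va : 1 + cnt G (· = 2) ≡ 2 * 1 [MOD a] := md (62 + 672 * r + 3264 * r ^ 2 + 8640 * r ^ 3 +
    12960 * r ^ 4 + 10368 * r ^ 5 + 3456 * r ^ 6) (by rw [h2, ha, hA, hB]; ring)
  have vb : 1 + cnt G (· = 2) ≡ 2 * 2 [MOD b] := md (60 + 864 * r + 4896 * r ^ 2 + 14976 * r ^ 3 +
    24768 * r ^ 4 + 20736 * r ^ 5 + 6912 * r ^ 6) (by rw [h2, hb, hA, hB]; ring)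
  have tA : ∀ k, Ty G A k → 2 * (4 * w * a * b * B) ∣ cnt G (· = k) := fun k hk => by
    rcases hv k hk.1 with h | h | h | h | h
    · exact absurd (Dvd.dvd.trans ⟨a * b * B, by ring⟩ h) hk.2
    · exact h
    · exact absurd (Dvd.dvd.trans ⟨8 * w * a * b, by ring⟩ h) hk.2
    · exact absurd (Dvd.dvd.trans ⟨12 * w * b * B, by ring⟩ h) hk.2
    · exact absurd (Dvd.dvd.trans ⟨2 * w * a * B, by ring⟩ h) hk.2
  have tB : ∀ k, Ty G B k → 2 * (4 * w * a * b * A) ∣ cnt G (· = k) := fun k hk => by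
    rcases hv k hk.1 with h | h | h | h | h
    · exact absurd (Dvd.dvd.trans ⟨a * b * A, by ring⟩ h) hk.2
    · exact absurd (Dvd.dvd.trans ⟨8 * w * a * b, by ring⟩ h) hk.2
    · exact h
    · exact absurd (Dvd.dvd.trans ⟨12 * w * b * A, by ring⟩ h) hk.2
    · exact absurd (Dvd.dvd.trans ⟨2 * w * a * A, by ring⟩ h) hk.2
  have t0 : ∀ k, Ty G a k → 2 * (6 * w * b * A * B) ∣ cnt G (· = k) := fun k hk => by
    rcases hv k hk.1 with h | h | h | h | h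
    · exact absurd (Dvd.dvd.trans ⟨b * A * B, by ring⟩ h) hk.2
    · exact absurd (Dvd.dvd.trans ⟨8 * w * b * B, by ring⟩ h) hk.2
    · exact absurd (Dvd.dvd.trans ⟨8 * w * b * A, by ring⟩ h) hk.2
    · exact h
    · exact absurd (Dvd.dvd.trans ⟨2 * w * A * B, by ring⟩ h) hk.2
  have t1 : ∀ k, Ty G b k → 2 * (w * a * A * B) ∣ cnt G (· = k) := fun k hk => by
    rcases hv k hk.1 with h | h | h | h | h
    · exact absurd (Dvd.dvd.trans ⟨a * A * B, by ring⟩ h) hk.2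
    · exact absurd (Dvd.dvd.trans ⟨8 * w * a * B, by ring⟩ h) hk.2
    · exact absurd (Dvd.dvd.trans ⟨8 * w * a * A, by ring⟩ h) hk.2
    · exact absurd (Dvd.dvd.trans ⟨12 * w * A * B, by ring⟩ h) hk.2
    · exact h
  have lA := lower_odd oA uA tA ⟨24 * w * a * b * B, by rw [hN]; ring⟩
  have lB := lower_odd oB uB tB ⟨24 * w * a * b * A, by rw [hN]; ring⟩
  have l0 := lower_even oa u0 t0 ⟨12 * w * b * A * B, by rw [hN]; ring⟩ one_pos va
  have l1 := lower_even ob u1 t1 ⟨12 * w * a * A * B, by rw [hN]; ring⟩ two_pos vb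
  have ineq : w * (2 * (2 * a * b * (A + B) + 6 * b * A * B + 2 * a * A * B)) < w * (2 * (a * b * A * B)) := by
    refine mul_lt_mul_of_pos_left (mul_lt_mul_of_pos_left ?_ two_pos) (by rw [hw]; positivity)
    obtain ⟨x, rfl⟩ := Nat.exists_eq_add_of_le hr
    rw [ha, hb, hA, hB]
    ring_nf
    omega
  have gen : ∀ {D E : ℕ}, Odd D → 4 * w * a * b * E ≡ 1 [MOD D] → D.Coprime 3 →
      (∀ k, Ty G D k → 2 * (4 * w * a * b * E) ∣ cnt G (· = k)) →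
      (∀ k, Ty G E k → 2 * (4 * w * a * b * D) ∣ cnt G (· = k)) → D * E = A * B → D + E = A + B →
      E * (4 * w * a * b * D) ≤ cnt G (fun k => k ∣ E ∧ Ty G E k) + 4 * w * a * b * D →
      (∀ g : G, ¬ (orderOf g).Coprime D → orderOf g ∣ D) ∧
        6 * D * cnt G (fun k => ¬ k.Coprime D) = (D - 1) * Nat.card G := by
    intro D E oD uD c3 tD tE e1 e2 lE
    have cu : (4 * w * a * b * E).Coprime D := by rw [Nat.Coprime, uD.gcd_eq, Nat.gcd_one_left]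
    have dD : D ∣ A * B := ⟨E, e1.symm⟩
    have dE : E ∣ A * B := ⟨D, by rw [← e1, mul_comm]⟩
    refine iso (Q := fun k => (k ∣ E ∧ Ty G E k) ∨ (k ∣ 2 * a ∧ Ty G a k) ∨ (k ∣ 2 * b ∧ Ty G b k))
      oD uD c3 tD (by rw [hN, mul_assoc _ A, ← e1]; ring) (h2 ▸ dD.mul_left _) ?_ ?_
    · rintro k (h | h | h)
      · exact ⟨fun n => n.2 (Dvd.dvd.trans ⟨8 * w * a * b, by ring⟩ (tE k h.2)),
          cu.coprime_dvd_left (h.1.mul_left _)⟩
      · exact ⟨fun n => n.2 (dD.trans (Dvd.dvd.trans ⟨12 * w * b, by ring⟩ (t0 k h.2))),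
          cu.coprime_dvd_left (h.1.trans ⟨2 * w * b * E, by ring⟩)⟩
      · exact ⟨fun n => n.2 (dD.trans (Dvd.dvd.trans ⟨2 * w * a, by ring⟩ (t1 k h.2))),
          cu.coprime_dvd_left (h.1.trans ⟨2 * w * a * E, by ring⟩)⟩
    · rw [cnt_or, cnt_or, hN]
      · simp only [mul_assoc _ A B, ← e1, ← e2] at l0 l1 ineq ⊢
        nlinarith
      · exact fun k h n => n.2.2 (Dvd.dvd.trans ⟨12 * w * A * B, by ring⟩ (t0 k h.2))
      · rintro k h (n | n)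
        · exact n.2.2 (Dvd.dvd.trans ⟨8 * w * b * D, by ring⟩ (tE k h.2))
        · exact n.2.2 (Dvd.dvd.trans ⟨8 * w * a * D, by ring⟩ (tE k h.2))
  rcases hD with rfl | rfl
  · exact gen oB uB ((Nat.Prime.coprime_iff_not_dvd Nat.prime_three).2 (by omega)).symm tB tA
      (mul_comm _ _) (add_comm _ _) lA
  · exact gen oA uA ((Nat.Prime.coprime_iff_not_dvd Nat.prime_three).2 (by omega)).symm tA tB rfl rfl lB

end count

theorem param {m : ℕ} (hm : 1 ≤ m) : ∃ r, 1 ≤ r ∧ 3 ^ m = 2 * r + 1 ∧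
    3 ^ (2 * m + 1) = 12 * r ^ 2 + 12 * r + 3 ∧ 3 ^ (m + 1) = 6 * r + 3 := by
  obtain ⟨r, hr⟩ : Odd (3 ^ m) := Odd.pow (by decide)
  have : 3 ^ 1 ≤ 3 ^ m := Nat.pow_le_pow_right (by decide) hm
  exact ⟨r, by omega, hr, by rw [pow_succ, pow_mul', hr]; ring, by rw [pow_succ, hr]; ring⟩

theorem count {K : Type*} [Field K] [Fintype K] {m : ℕ} (hm : 1 ≤ m)
    (hK : Fintype.card K = 3 ^ (2 * m + 1)) {G : Type*} [Group G] [Finite G]
    (hcard : Nat.card G = Nat.card ↥(Cfsg.Lie.twistedG2 K (3 ^ m)))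
    (hnse : {c : ℕ | 0 < c ∧ ∃ n : ℕ, c = Nat.card {g : G // orderOf g = n}} =
      {c : ℕ | 0 < c ∧ ∃ n : ℕ, c = Nat.card {g : ↥(Cfsg.Lie.twistedG2 K (3 ^ m)) // orderOf g = n}}) :
    Nat.card {g : G // orderOf g = 2} =
        (3 ^ (2 * m + 1)) ^ 2 * ((3 ^ (2 * m + 1)) ^ 2 - 3 ^ (2 * m + 1) + 1) ∧
      ∀ D : ℕ, (D = 3 ^ (2 * m + 1) - 3 ^ (m + 1) + 1 ∨ D = 3 ^ (2 * m + 1) + 3 ^ (m + 1) + 1) →
        (∀ g : G, ¬ (orderOf g).Coprime D → orderOf g ∣ D) ∧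
          6 * D * Nat.card {g : G // ¬ (orderOf g).Coprime D} = (D - 1) * Nat.card G := by
  obtain ⟨r, hr, -, hq, hs⟩ := param hm
  obtain ⟨c2, c3, c6, c9, c0, c1, cB, cA⟩ := Cfsg.Agent.S2357.result hm hK
  have ho := Cfsg.Agent.S1159.result hm hK
  have hR := Cfsg.Agent.S1069.result hK
  obtain ⟨w, hw⟩ : ∃ w, w = (12 * r ^ 2 + 12 * r + 3) ^ 2 * (2 * r + 1) ^ 2 := ⟨_, rfl⟩
  obtain ⟨a, ha⟩ : ∃ a, a = 6 * r ^ 2 + 6 * r + 1 := ⟨_, rfl⟩
  obtain ⟨b, hb⟩ : ∃ b, b = 3 * r ^ 2 + 3 * r + 1 := ⟨_, rfl⟩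
  obtain ⟨A, hA⟩ : ∃ A, A = 12 * r ^ 2 + 18 * r + 7 := ⟨_, rfl⟩
  obtain ⟨B, hB⟩ : ∃ B, B = 12 * r ^ 2 + 6 * r + 1 := ⟨_, rfl⟩
  generalize 3 ^ (2 * m + 1) = q at *
  generalize 3 ^ (m + 1) = s at *
  have e1 : q - 1 = 2 * a := by omega
  have e2 : q ^ 2 - q + 1 = A * B := by
    have : q ^ 2 + 1 = A * B + q := by rw [hq, hA, hB]; ring
    have := Nat.le_self_pow two_ne_zero q
    omega
  have e3 : q ^ 2 - 1 = 8 * a * b := by
    have : q ^ 2 = 8 * a * b + 1 := by rw [hq, ha, hb]; ring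
    omega
  have e4 : q ^ 3 + 1 = 4 * b * A * B := by rw [hq, hb, hA, hB]; ring
  have e5 : (q + 1) / 4 = b := by omega
  have e6 : (q + 1) / 2 = 2 * b := by omega
  have e7 : q - s + 1 = B := by omega
  have e8 : q + s + 1 = A := by omega
  have e9 : q ^ 3 = 3 * w := by rw [hq, hw]; ring
  simp only [e1, e2, e3, e4, e5, e6, e7, e8] at c2 c3 c6 c9 c0 c1 cB cA ho hR ⊢
  simp only [e9] at c0 c1 cB cA hR
  have pos : 0 < w ∧ 0 < a ∧ 0 < b ∧ 0 < A ∧ 0 < B := by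
    rw [hw, ha, hb, hA, hB]; refine ⟨?_, ?_, ?_, ?_, ?_⟩ <;> positivity
  obtain ⟨p1, p2, p3, p4, p5⟩ := pos
  have : Finite ↥(Cfsg.Lie.twistedG2 K (3 ^ m)) := Nat.finite_of_card_ne_zero (by rw [hR]; positivity)
  obtain ⟨μ, hμ⟩ : ∃ μ : ℕ → ℕ, ∀ n,
    Nat.card {g : ↥(Cfsg.Lie.twistedG2 K (3 ^ m)) // orderOf g = n} = μ n := ⟨_, fun _ => rfl⟩
  have m1 : μ 1 = 1 := (hμ 1).symm.trans cnt_one
  have m0 : μ 0 = 0 := (hμ 0).symm.trans cnt_zero
  replace ho := fun n (h : μ n ≠ 0) => (ho n).1 (by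
    obtain ⟨g, hg⟩ := (Nat.card_ne_zero.1 (hμ n ▸ h)).1
    exact ⟨g, hg⟩)
  simp only [hμ] at c2 c3 c6 c9 c0 c1 cB cA hnse
  rw [hR] at hcard
  clear hμ hR
  have ov : Odd (q ^ 2 * (A * B)) := by
    refine Odd.mul (Odd.pow ⟨6 * r ^ 2 + 6 * r + 1, by omega⟩) (Odd.mul ?_ ?_)
    · exact ⟨6 * r ^ 2 + 9 * r + 3, by omega⟩
    · exact ⟨6 * r ^ 2 + 3 * r, by omega⟩
  have h2 : cnt G (· = 2) = q ^ 2 * (A * B) := by
    obtain ⟨-, k, hk⟩ := (Set.ext_iff.1 hnse _).2 ⟨ov.pos, 2, c2.symm⟩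
    rcases (by omega : k = 0 ∨ k = 1 ∨ k = 2 ∨ 3 ≤ k) with rfl | rfl | rfl | h
    · exact absurd (hk.trans cnt_zero) ov.pos.ne'
    · have := Nat.eq_one_of_mul_eq_one_right (Nat.eq_one_of_mul_eq_one_left (hk.trans cnt_one))
      omega
    · exact hk.symm
    · exact absurd (hk ▸ even_cnt h) ov.not_two_dvd_nat
  refine ⟨h2, fun D hD => both hr hw ha hb hA hB (by rw [hcard]; ring) (hq ▸ h2) (fun k hk => ?_) hD⟩
  by_cases h0 : cnt G (· = k) = 0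
  · exact Or.inl (h0 ▸ dvd_zero _)
  obtain ⟨-, n, hn⟩ := (Set.ext_iff.1 hnse _).1 ⟨Nat.pos_of_ne_zero h0, k, rfl⟩
  have ev := even_cnt (G := G) hk
  rw [hn] at h0 ev ⊢
  have n1 : n ≠ 1 := by
    rintro rfl
    omega
  have n2 : n ≠ 2 := by
    rintro rfl
    exact ov.not_two_dvd_nat (c2 ▸ ev)
  have n0 : n ≠ 0 := fun e => h0 (e ▸ m0)
  have tot : ∀ {i : ℕ}, 2 < i → ∃ j, i.totient = 2 * j := fun h => (Nat.totient_even h).two_dvd
  have odd : ∀ {i D : ℕ}, i ∣ D → Odd D → 1 < i → 2 < i := fun h o h1 =>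
    lt_of_le_of_ne h1 fun e => o.not_two_dvd_nat (e ▸ h)
  have ob : Odd b := by
    obtain ⟨c, hc⟩ := Nat.even_mul_succ_self r
    exact ⟨3 * c, by rw [hb, show 2 * (3 * c) = 3 * (c + c) by ring, ← hc]; ring⟩
  have k3 : n = 3 ∨ n = 6 ∨ n = 9 → a * b * A * B ∣ μ n := by
    rintro (rfl | rfl | rfl)
    · exact ⟨32 * b, by rw [c3]; ring⟩
    · exact ⟨8 * q ^ 2, by rw [c6]; ring⟩
    · exact ⟨8 * q ^ 2, by rw [c9]; ring⟩
  rcases ho n h0 with h | h | h | h | h | h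
  · refine Or.inl (k3 ?_)
    have := Nat.le_of_dvd (by decide) h
    interval_cases n <;> omega
  · refine Or.inl (k3 ?_)
    have := Nat.le_of_dvd (by decide) h
    interval_cases n <;> omega
  · obtain ⟨j, hj⟩ := tot (by omega : 2 < n)
    have := c0 n (by omega) h
    exact Or.inr (Or.inr (Or.inr (Or.inl ⟨j, by rw [hj] at this; linarith⟩)))
  · refine Or.inr (Or.inr (Or.inr (Or.inr ?_)))
    rcases Nat.even_or_odd' n with ⟨i, rfl | rfl⟩
    · have h' := Nat.dvd_of_mul_dvd_mul_left two_pos h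
      obtain ⟨j, hj⟩ := tot (odd h' ob (by omega))
      have := (c1 i (by omega) h').2
      exact ⟨3 * j, by rw [hj] at this; linarith⟩
    · have h' := (Nat.coprime_two_right.2 ⟨i, rfl⟩).dvd_of_dvd_mul_left h
      obtain ⟨j, hj⟩ := tot (by omega : 2 < 2 * i + 1)
      have := (c1 _ (by omega) h').1
      exact ⟨j, by rw [hj] at this; linarith⟩
  · obtain ⟨j, hj⟩ := tot (by omega : 2 < n)
    have := cB n (by omega) h
    exact Or.inr (Or.inr (Or.inl ⟨j, by rw [hj] at this; linarith⟩))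
  · obtain ⟨j, hj⟩ := tot (by omega : 2 < n)
    have := cA n (by omega) h
    exact Or.inr (Or.inl ⟨j, by rw [hj] at this; linarith⟩)

end H84.RN
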