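import Cfsg.Agent.H51.A12Spec
import Cfsg.Agent.H32.SHKit

/-! Tower A12, slot RB1: an involution outside `A` that is fused into `A`. -/

set_option autoImplicit false
set_option linter.unusedSectionVars false

namespace H84.RB1

open Cfsg Subgroup H98 H1.Gold H31.S2 H51.X12 H20.X16.BV
open H20.X16 (BV)
open scoped commutatorElement

universe u

/-- `b` acts on `E'` as a non-trivial transvection with centre `v` -/
def Tv (b : M) (v : BV 5) : Prop :=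
  (∀ y, b * iF y * b⁻¹ = iF y ∨ b * iF y * b⁻¹ = iF (y * v)) ∧ ∃ y, b * iF y * b⁻¹ ≠ iF y

instance (b : M) (v : BV 5) : Decidable (Tv b v) := by unfold Tv; infer_instance

/-- the easy classes -/
def P1 (y : M) : Prop :=
  y ∈ E ∨ y ∈ E' ∧ (iA (el 3) * y = y * iA (el 3) ∨ iA (el 5) * y = y * iA (el 5))

instance (y : M) : Decidable (P1 y) := by unfold P1; infer_instance

theorem tv3 : Tv (iA (el 3)) (el 1) := by decide +kernel
theorem tv5 : Tv (iA (el 5)) (el 1) := by decide +kernel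
theorem tv_w : ∀ b v, Tv b v → v = el 1 := by decide +kernel
theorem cls : ∀ x : M, x ∉ A → x * x = 1 → ∃ m, P1 (m * x * m⁻¹) ∨ (m * x * m⁻¹).r = rr 2 := by
  decide +kernel
theorem cls1 : ∀ x : M, x.r = rr 1 → x * x = 1 → ∃ m, P1 (m * x * m⁻¹) := by decide +kernel
theorem lowE : ∀ y, iE y ∈ A ↔ low y = true := by decide +kernel
theorem lowF : ∀ y, iF y ∈ A ↔ low y = true := by decide +kernel
theorem conjA : ∀ x ∈ A, ∀ m : M, m * x * m⁻¹ ∈ A := by decide +kernel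
theorem norA : ∀ a ∈ A, ∀ x, (x ∈ E → a * x * a⁻¹ ∈ E) ∧ (x ∈ Bc → a * x * a⁻¹ ∈ Bc) ∧
    (x ∈ Bk → a * x * a⁻¹ ∈ Bk) ∧ (x ∈ Bs → a * x * a⁻¹ ∈ Bs) := by decide +kernel
theorem comA : ∀ a ∈ A, ∀ x ∈ E, x * a * x⁻¹ * a⁻¹ ∈ E ∧ x * a * x⁻¹ * a⁻¹ ∈ A := by decide +kernel
theorem abA : ∀ a ∈ A, ∀ b ∈ A, a * b = b * a := by decide +kernel
theorem abE (x y : BV 5) : iE x * iE y = iE y * iE x := by rw [← map_mul, mul_comm, map_mul]
theorem abF (x y : BV 5) : iF x * iF y = iF y * iF x := by rw [← map_mul, mul_comm, map_mul]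
theorem cz : ∀ y : BV 5, tb y 4 = false → low y ≠ true → (iE y).r = rr 1 := by decide +kernel

variable {G : Type u} [Group G] [Finite G] {φ : M →* G} {x : M}

variable (φ) in
/-- an involution outside `A` that is fused into `A` -/
def Bad (x : M) : Prop := x ∉ A ∧ x * x = 1 ∧ ∃ a ∈ A, Fu φ x a

theorem Bad.of_cj (c : Sy φ) (h : Bad φ x) {g : G} {y : M} (e : Cj φ g x y) (hy : y ∉ A) :
    Bad φ y :=
  let ⟨a, ha, f⟩ := h.2.2
  ⟨hy, c.sq e h.2.1, a, ha, e.fu.symm.trans f⟩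

theorem Bad.conj (c : Sy φ) (h : Bad φ x) (m : M) : Bad φ (m * x * m⁻¹) :=
  h.of_cj c (cj_self φ m x) fun e => h.1 (by simpa [mul_assoc] using conjA _ e m⁻¹)

theorem exists_bad [IsSimpleGroup G] (c : Sy φ) : ∃ x, Bad φ x := by
  by_contra hn
  obtain ⟨n, -, e⟩ := H32.SH.one_class (A := A.map φ) (x := φ tM) (y := φ uM)
    (H32.SH.not_comm_of_ne (x := φ kM) (y := φ sM) (by
      rw [← map_mul, ← map_mul, c.inj.ne_iff]; decide +kernel)) c.syl
    ⟨map_le_range φ A, by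
      rintro _ ⟨a, ha, rfl⟩ g ⟨y, hy⟩
      by_contra h
      have e : Cj φ g a y := hy.symm
      exact hn ⟨y, fun h1 => h ⟨y, h1, hy⟩,
        c.sq e ((by decide +kernel : ∀ a ∈ A, a * a = 1) a ha), a, ha, e.fu.symm⟩⟩
    (by
      rintro _ ⟨a, ha, rfl⟩ _ ⟨b, hb, rfl⟩
      rw [← map_mul, ← map_mul, abA a ha b hb])
    (fun h => by
      have := c.card_map A
      rw [h, card_bot, card_A] at this
      omega) ⟨_, rfl⟩ ⟨_, rfl⟩
    (by rw [← map_mul, map_eq_one_iff _ c.inj]; decide +kernel)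
    (by rw [← map_mul, map_eq_one_iff _ c.inj]; decide +kernel)
    (by rw [Ne, map_eq_one_iff _ c.inj]; decide +kernel)
    (by rw [Ne, map_eq_one_iff _ c.inj]; decide +kernel)
  obtain ⟨m, hm⟩ : ∃ m : M, m * m = uM := by decide +kernel
  exact c.nsq m (hm ▸ isConj_iff.2 ⟨n, e⟩)

theorem Bad.ext (c : Sy φ) (w : Wc φ) (h : Bad φ x) :
    ∃ g, ∃ a ∈ A, Cj φ g x a ∧ ∀ p, p * x = x * p → ∃ q, Cj φ g p q := by
  obtain ⟨a, ha, f⟩ := h.2.2
  obtain ⟨k, hk⟩ := Fu.ex f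
  obtain ⟨g, -, -, h1, h2⟩ := exists_ext c.syl (x := φ a) ⟨a, rfl⟩
  have h3 : cj g (A.map φ) = A.map φ := w.a.eq g (mem_top g) _ c.syl.isPGroup (map_le_range φ A)
    ((cj_mono g (le_inf (map_le_range φ A) (by
      rintro _ ⟨b, hb, rfl⟩
      exact mem_cen1.2 (by rw [← map_mul, ← map_mul, abA b hb a ha])))).trans h1)
  obtain ⟨a', ha', e⟩ := cj_of_le h3.le ha
  have e0 : g * φ a * g⁻¹ = φ a' := e
  rw [e0] at h2
  obtain ⟨g', -, e', h4⟩ := exists_conj_ext c.syl h2 (mem_top (g * k)) (x := φ x) (hk.trans e)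
  refine ⟨g', a', ha', e', fun p hp => ?_⟩
  obtain ⟨q, hq⟩ := h4 (conj_mem_cj ⟨⟨p, rfl⟩, mem_cen1.2 (by rw [← map_mul, ← map_mul, hp])⟩)
  exact ⟨q, hq.symm⟩

theorem le_range {U : Subgroup M} {g : G} (h : ∀ p ∈ U, ∃ q, Cj φ g p q) :
    cj g (U.map φ) ≤ φ.range := by
  rw [MonoidHom.range_eq_map]
  exact le_of_cj fun p hp => let ⟨q, hq⟩ := h p hp; ⟨q, mem_top q, hq⟩

theorem case1 (c : Sy φ) (w : Wc φ) (zi : ZI φ) (h : Bad φ x) : x ∉ E := by
  rw [← range_iE]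
  rintro ⟨x, rfl⟩
  obtain ⟨g, a, ha, e, h1⟩ := h.ext c w
  obtain ⟨F, hF⟩ := c.indE (w.e.eq g (mem_top g) _ c.syl.isPGroup (map_le_range φ E)
    (le_range fun p hp => h1 p (by
      obtain ⟨p, rfl⟩ := range_iE.ge hp
      exact abE ..))).le
  have h2 := zi _ _ (hF.inv F.apply_symm_apply) _ ((lowE _).1 (c.uniq e (hF x) ▸ ha))
  rw [F.symm_apply_apply] at h2
  exact h.1 ((lowE x).2 h2)

theorem na_of {g : G} (h : A.map φ ≤ nor (cj g (E'.map φ))) : NA φ :=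
  ⟨g⁻¹, by rwa [cj_le_iff, inv_inv, nor, cj_normalizer]⟩

theorem map_nor {X : Subgroup M} (h : ∀ a ∈ A, ∀ x ∈ X, a * x * a⁻¹ ∈ X) :
    A.map φ ≤ nor (X.map φ) :=
  map_le_normalizer_map φ fun a ha => mem_normalizer_fintype (h a ha)

theorem case3 (ea : EA) (c : Sy φ) (w : Wc φ) (na : ¬ NA φ) (fa : FA φ) (h : Bad φ x) {b : M}
    (hb : Tv b (el 1)) (hc : b * x = x * b) : x ∉ E' := by
  rw [← range_iF]
  rintro ⟨x, rfl⟩
  obtain ⟨g, a, ha, e, h1⟩ := h.ext c w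
  rcases ea.big c (D := cj g (E'.map φ)) (le_range fun p hp => h1 p (by
      obtain ⟨p, rfl⟩ := range_iF.ge hp
      exact abF ..)) (by
      rintro _ ⟨_, ⟨y, hy, rfl⟩, rfl⟩
      rw [← map_mul, ← map_mul, (by decide +kernel : ∀ y ∈ E', y * y = 1) y hy, map_one, map_one])
    (by rw [card_cj, c.card_map, card_E']) with h2 | ⟨m, h2⟩
  · refine na (na_of (g := g) (le_normalizer_of_le_centralizer ?_))
    rintro _ ⟨a, ha, rfl⟩ d hd
    obtain ⟨d', hd', rfl⟩ := h2 hd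
    rw [← map_mul, ← map_mul, abA d' hd' a ha]
  rw [cj_cj] at h2
  rcases h2 with h2 | h2 | h2 | h2 | h2
  · exact na (na_of (h2 ▸ map_nor fun a ha x => (norA a ha x).1))
  · exact na (na_of (h2 ▸ map_nor fun a ha x => (norA a ha x).2.1))
  · exact na (na_of (h2 ▸ map_nor fun a ha x => (norA a ha x).2.2.1))
  · exact na (na_of (h2 ▸ map_nor fun a ha x => (norA a ha x).2.2.2))
  obtain ⟨F, hF⟩ := c.indF h2.le
  obtain ⟨q, hq⟩ := h1 b hc
  have h3 := hq.trans (cj_self φ m q)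
  have h4 : ∀ y, Cj φ (φ m * g) (b * iF y * b⁻¹) (m * q * m⁻¹ * iF (F y) * (m * q * m⁻¹)⁻¹) :=
    fun y => (h3.mul (hF y)).mul h3.inv
  have h5 : F (el 1) = el 1 := tv_w (m * q * m⁻¹) _ ⟨fun y => by
      obtain ⟨y, rfl⟩ := F.surjective y
      refine (hb.1 y).imp (fun h => ?_) fun h => ?_
      · exact c.uniq (h4 y) (by rw [h]; exact hF y)
      · exact c.uniq (h4 y) (by rw [h, ← map_mul]; exact hF _), by
      obtain ⟨y, hy⟩ := hb.2
      exact ⟨F y, fun h => hy (c.uniq' (h4 y) (by rw [h]; exact hF y))⟩⟩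
  have h6 := fa _ _ (hF.inv F.apply_symm_apply) (by rw [MulEquiv.symm_apply_eq, h5]) _
    ((lowF _).1 (c.uniq (e.trans (cj_self φ m a)) (hF x) ▸ conjA a ha m))
  rw [F.symm_apply_apply] at h6
  exact h.1 ((lowF x).2 h6)

theorem case2 (c : Sy φ) (w : Wc φ) (rk : RK φ) (zi : ZI φ) (h : Bad φ x) (hr : x.r = rr 2) :
    ∃ y, Bad φ y ∧ y.r = rr 1 := by
  obtain ⟨g, f, hf, h1⟩ := rk
  obtain ⟨F, hF⟩ := hf.aut c iE_inj
  have h2 : low (f (el 16)) ≠ true := fun h => by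
    have := zi _ _ ((hf.congr fun x => (hF x).symm).inv F.apply_symm_apply) _ h
    rw [← hF, F.symm_apply_apply] at this
    exact absurd this (by decide)
  have gE : g ∈ nor (E.map φ) := range_iE ▸ hf.nor
  have gZ : g ∈ nor ((E ⊓ A).map φ) := mem_normalizer_of_cj_le (le_of_cj fun y hy => by
    obtain ⟨y, rfl⟩ := range_iE.ge hy.1
    exact ⟨_, ⟨range_iE.le ⟨_, rfl⟩, (lowE _).2 (zi g f hf y ((lowE y).1 hy.2))⟩, hf y⟩)
  have h3 : A.map φ ≤ stab (E.map φ) ((E ⊓ A).map φ) := by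
    rintro _ ⟨a, ha, rfl⟩
    refine ⟨map_nor (X := E ⊓ A) (fun a ha y hy => ⟨(norA a ha y).1 hy.1, conjA y hy.2 a⟩)
      ⟨a, ha, rfl⟩, ?_⟩
    rintro _ ⟨y, hy, rfl⟩
    exact ⟨_, comA a ha y hy, by simp [commutatorElement_def]⟩
  obtain ⟨k, hk, e⟩ := w.a.exists_cj_eq h3 le_top (mem_top g) (cj_le_of_le h3
    (le_normalizer_stab (zpowers_le.2 gE) (zpowers_le.2 gZ) (mem_zpowers g)))
  obtain ⟨a, ha, e1⟩ := cj_of_le (φ := φ) (g := k⁻¹ * g) (U := A) (V := A)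
    (by rw [← cj_cj, e, cj_inv_cj]) (range_iA.le ⟨x.a, rfl⟩)
  obtain ⟨z, hz, e2⟩ := (inv_mem hk).2 _ ⟨_, range_iE.le ⟨f (el 16), rfl⟩, rfl⟩
  have e3 : Cj φ k⁻¹ (iE (f (el 16))) (iE (f (el 16)) * z) := by
    have h4 : φ (iE (f (el 16))) * φ (iE (f (el 16))) = 1 := by
      rw [← map_mul, ← map_mul, (by decide +kernel : ∀ y : BV 5, y * y = 1), map_one, map_one]
    rw [Cj, map_mul, e2, commutatorElement_def, ← mul_assoc, ← mul_assoc, ← mul_assoc, h4, one_mul,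
      inv_eq_of_mul_eq_one_right h4]
  have e4 := e1.mul ((hf (el 16)).trans e3)
  rw [show iE (el 16) = iR x.r by rw [hr]; decide +kernel, iA_mul_iR] at e4
  have h5 : (a * (iE (f (el 16)) * z)).r = rr 1 := by
    have hA : ∀ a ∈ A, a.r = 1 := by decide +kernel
    rw [M.mul_r, M.mul_r, hA a ha, hA z hz.2, cz _ h1 h2, one_mul, mul_one]
  exact ⟨_, h.of_cj c e4 fun h => by
    rw [(by decide +kernel : ∀ a ∈ A, a.r = 1) _ h] at h5
    exact absurd h5 (by decide +kernel), h5⟩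

theorem jobRB1 : JobRB1.{u} := by
  intro ea G _ _ _ φ c w rk zi na fa
  have k : ∀ x, Bad φ x → ¬ P1 x := by
    rintro x h (h1 | ⟨h1, h2 | h2⟩)
    · exact case1 c w zi h h1
    · exact case3 ea c w na fa h tv3 h2 h1
    · exact case3 ea c w na fa h tv5 h2 h1
  obtain ⟨x, h⟩ := exists_bad c
  obtain ⟨m, h1 | h1⟩ := cls x h.1 h.2.1
  · exact k _ (h.conj c m) h1
  · obtain ⟨y, hy, h2⟩ := case2 c w rk zi (h.conj c m) h1
    obtain ⟨m', h3⟩ := cls1 y h2 hy.2.1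
    exact k _ (hy.conj c m') h3

end H84.RB1
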