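import Cfsg.Agent.H20.DGSpec

/-! Tower DG (S3579), job `NS`: a Sylow subgroup of a normal subgroup with short orbits. -/

set_option autoImplicit false

namespace H84.DgNS

open Subgroup MulAction Cfsg H98 H20.DG

universe u v

theorem key {G : Type u} [Group G] [Finite G] {r : ℕ} (hr : r.Prime) {K A S : Subgroup G}
    (hA : IsSyl r A K) (h1 : r ∣ S.relIndex K) (h2 : S.relIndex A < r ^ 2) :
    S.relIndex A = r ∧ IsSyl r (A ⊓ S) (K ⊓ S) := by
  have : Fact r.Prime := ⟨hr⟩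
  have hl : A ⊓ S ≤ K ⊓ S := inf_le_inf_right S hA.le
  have e1 := relIndex_mul_relIndex (A ⊓ S) A K inf_le_left hA.le
  have e2 := relIndex_mul_relIndex (A ⊓ S) (K ⊓ S) K hl inf_le_left
  rw [inf_relIndex_left] at e1 e2
  have e := e1.trans e2.symm
  have hm := hA.not_dvd_relIndex
  have d1 : r ∣ S.relIndex A := ((Nat.Prime.dvd_mul hr).1 (e ▸ h1.mul_left _)).resolve_right hm
  obtain ⟨n, hn⟩ := IsPGroup.iff_card.1 hA.isPGroup
  obtain ⟨k, -, hk⟩ := (Nat.dvd_prime_pow hr).1 (hn ▸ relIndex_dvd_card S A)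
  have hi : S.relIndex A = r := by
    rw [hk] at d1 h2 ⊢
    have := (Nat.pow_lt_pow_iff_right hr.one_lt).1 h2
    rcases k with _ | _ | k
    · exact absurd (Nat.dvd_one.1 d1) hr.ne_one
    · exact pow_one r
    · omega
  refine ⟨hi, isSyl_of_not_dvd_relIndex hl hA.isPGroup.to_inf_left fun hj => hm ?_⟩
  rw [hi] at e
  exact Nat.dvd_of_mul_dvd_mul_left hr.pos (e ▸ Nat.mul_dvd_mul hj h1)

theorem jobNS : JobNS.{u, v} := by
  intro G Ω _ _ _ _ r K A hr ht hK hA h
  have : Fact r.Prime := ⟨hr⟩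
  refine ⟨fun ω => (key hr hA (h ω).1 (h ω).2).1, fun g S hS h1 h2 => ?_, fun a b => ?_⟩
  · have hg : IsSyl r (cj g A) K := by
      have := hA.cj g
      rwa [cj_eq_self_of_normal g K] at this
    exact (hg.eq_of_le hS.to_inf_left (le_inf h2 hg.le) inf_le_right).symm.trans
      (hA.eq_of_le hS.to_inf_left (le_inf h1 hA.le) inf_le_right)
  · obtain ⟨g, rfl⟩ := ht a b
    have h1 := (key hr hA (h a).1 (h a).2).2.cj g
    rw [cj_inf g K, cj_eq_self_of_normal g K, cj_stab] at h1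
    obtain ⟨k, -, e⟩ := h1.exists_cj_eq (key hr hA (h _).1 (h _).2).2
    exact ⟨k * g, by rw [← cj_cj, e]⟩

end H84.DgNS
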