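import Cfsg.Agent.H14.FESpec
import Cfsg.Agent.H24.WalZ

/-! Tower FE (S1308), job `Iso`: an involution of `T` is corrected by an element of `R` to an element
that centralises `Q / O(Q)`. -/

set_option autoImplicit false

namespace H84.FeIso

open Cfsg Subgroup MulAction H14 H98 H1.Gold H31.S2 H14.GC H14.FE
open scoped commutatorElement

universe u

/-- Averaging over a group of automorphisms of odd order. -/
theorem avg {A : Type*} [CommGroup A] (F : Subgroup (MulAut A)) [Finite F] (ho : Odd (Nat.card F))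
    {t : A} (tt : t * t = 1) (R : Subgroup A) (h : ∀ f ∈ F, f t * t ∈ R) :
    ∃ c : A, c * c = 1 ∧ c * t ∈ R ∧ ∀ f ∈ F, f c = c := by
  have := Fintype.ofFinite F
  refine ⟨∏ f : F, (f : MulAut A) t, ?_, ?_, fun f hf => ?_⟩
  · rw [← Finset.prod_mul_distrib]
    exact Finset.prod_eq_one fun f _ => by rw [← map_mul, tt, map_one]
  · have e : t = ∏ _f : F, t := by
      obtain ⟨k, hk⟩ := ho
      rw [Finset.prod_const, Finset.card_univ, ← Nat.card_eq_fintype_card, hk, pow_succ, pow_mul,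
        pow_two, tt, one_pow, one_mul]
    have : (∏ f : F, (f : MulAut A) t) * t = ∏ f : F, ((f : MulAut A) t * t) := by
      rw [Finset.prod_mul_distrib, ← e]
    rw [this]
    exact R.prod_mem fun f _ => h f f.2
  · rw [map_prod]
    exact Fintype.prod_equiv (Equiv.mulLeft (⟨f, hf⟩ : F)) _ _ fun _ => rfl

variable {G : Type*} [Group G]

theorem mem_sup_zp {Q : Subgroup G} {t x : G} (hn : t ∈ nor Q) (tt : t * t = 1)
    (hx : x ∈ Q ⊔ zpowers t) : x ∈ Q ∨ x * t ∈ Q := by
  have ti : t⁻¹ = t := inv_eq_of_mul_eq_one_right tt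
  have tt' : ∀ y : G, t * (t * y) = y := fun y => by rw [← mul_assoc, tt, one_mul]
  have cj' : ∀ y ∈ Q, t * y * t ∈ Q := fun y hy => by
    have := (mem_normalizer_iff.1 hn y).1 hy
    rwa [ti] at this
  let K : Subgroup G :=
    { carrier := {x | x ∈ Q ∨ x * t ∈ Q}
      one_mem' := Or.inl (one_mem _)
      mul_mem' := by
        rintro a b (ha | ha) (hb | hb)
        · exact Or.inl (mul_mem ha hb)
        · exact Or.inr (by rw [mul_assoc]; exact mul_mem ha hb)
        · exact Or.inr (by simpa [mul_assoc, tt'] using mul_mem ha (cj' _ hb))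
        · exact Or.inl (by simpa [mul_assoc, tt', tt] using mul_mem ha (cj' _ hb))
      inv_mem' := by
        rintro a (ha | ha)
        · exact Or.inl (inv_mem ha)
        · exact Or.inr (by simpa [mul_assoc, tt', ti] using cj' _ (inv_mem ha)) }
  have : Q ⊔ zpowers t ≤ K :=
    sup_le (fun y hy => Or.inl hy) ((zpowers_le (g := t)).2 (Or.inr (by rw [tt]; exact one_mem _)))
  exact this hx

/-- The fixed element of the coset `R t`. -/
theorem exists_fixed [Finite G] {S N R : Subgroup G} (hS : IsSyl 2 S N) (hab : Ab S) (hN : N ≤ nor S)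
    {t : G} (ht : t ∈ S) (tt : t * t = 1) (h : ∀ n ∈ N, n * t * n⁻¹ * t ∈ R) :
    ∃ c ∈ S, c * c = 1 ∧ c * t ∈ R ∧ N ≤ cen1 c := by
  let _ : CommGroup S :=
    { (inferInstance : Group S) with mul_comm := fun a b => Subtype.ext (hab _ a.2 _ b.2) }
  let φ : N →* MulAut S := (S.normalizerMonoidHom).comp (inclusion hN)
  have hφ : ∀ (n : N) (a : S), ((φ n a : S) : G) = n * a * (n : G)⁻¹ := fun _ _ => rfl
  have hk : S.subgroupOf N ≤ φ.ker := fun n hn => by
    rw [MonoidHom.mem_ker]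
    ext a
    rw [hφ, hab (n : G) hn _ a.2]
    simp
  have ho : Odd (Nat.card φ.range) := by
    rw [← index_ker, ← Nat.not_even_iff_odd, even_iff_two_dvd]
    exact fun hd => hS.not_dvd_relIndex (hd.trans (index_dvd_of_le hk))
  obtain ⟨c, c2, cR, cF⟩ := avg φ.range ho (t := ⟨t, ht⟩) (Subtype.ext tt) (R.subgroupOf S) (by
    rintro _ ⟨n, rfl⟩
    exact h n n.2)
  refine ⟨c, c.2, congrArg Subtype.val c2, cR, fun n hn => mem_centralizer_singleton_iff.2 ?_⟩
  have := congrArg Subtype.val (cF _ ⟨⟨n, hn⟩, rfl⟩)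
  rw [hφ] at this
  exact mul_inv_eq_iff_eq_mul.1 this

theorem iso [Finite G] {Q R : Subgroup G} (hR : IsSyl 2 R Q) (hab : Ab R) {t : G} (hn : t ∈ nor Q)
    (tt : t * t = 1) (hc : ∀ r ∈ R, r * t = t * r) : ∃ r ∈ R, r * r = 1 ∧ Zs Q (r * t) := by
  have ti : t⁻¹ = t := inv_eq_of_mul_eq_one_right tt
  have tt' : ∀ y : G, t * (t * y) = y := fun y => by rw [← mul_assoc, tt, one_mul]
  have hnR : t ∈ nor R :=
    centralizer_le_normalizer _ (mem_centralizer_iff.2 fun r hr => hc r hr)
  have tS : t ∈ R ⊔ zpowers t := mem_sup_right (mem_zpowers t)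
  have h2 : IsPGroup 2 ↥(R ⊔ zpowers t) :=
    hR.isPGroup.to_sup_of_normal_left' (isPGroup_zpowers (k := 1) (by rw [pow_one, pow_two, tt]))
      ((zpowers_le (g := t)).2 hnR)
  have hin : ∀ P : Subgroup G, IsPGroup 2 P → R ≤ P → ∀ x ∈ P, x ∈ Q → x ∈ R := fun P hP hl x h1 h2 =>
    (hR.eq_of_le (Q := P ⊓ Q) hP.to_inf_left (le_inf hl hR.le) inf_le_right).le ⟨h1, h2⟩
  have hS : IsSyl 2 (R ⊔ zpowers t) (Q ⊔ zpowers t) := by
    refine ⟨sup_le_sup_right hR.le _, h2, fun P hP h3 h4 => le_antisymm (fun x hx => ?_) h3⟩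
    rcases mem_sup_zp hn tt (h4 hx) with h | h
    · exact mem_sup_left (hin P hP (le_sup_left.trans h3) x hx h)
    · have := mul_mem (mem_sup_left (T := zpowers t)
        (hin P hP (le_sup_left.trans h3) _ (mul_mem hx (h3 tS)) h)) tS
      rwa [mul_assoc, tt, mul_one] at this
  have hct : ∀ a ∈ R ⊔ zpowers t, a * t = t * a := fun a ha =>
    mem_centralizer_singleton_iff.1 ((sup_le (fun r hr => mem_centralizer_singleton_iff.2 (hc r hr))
      ((zpowers_le (g := t)).2 (mem_centralizer_singleton_iff.2 rfl)) : R ⊔ zpowers t ≤ cen1 t) ha)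
  have hSab : Ab (R ⊔ zpowers t) := fun a ha b hb =>
    mem_centralizer_singleton_iff.1 ((sup_le (fun r hr => mem_centralizer_singleton_iff.2
      (mem_centralizer_singleton_iff.1 ((sup_le (fun r' hr' => mem_centralizer_singleton_iff.2
        (hab r' hr' r hr)) ((zpowers_le (g := t)).2 (mem_centralizer_singleton_iff.2 (hc r hr).symm)) :
          R ⊔ zpowers t ≤ cen1 r) hb)).symm)
      ((zpowers_le (g := t)).2 (mem_centralizer_singleton_iff.2 (hct b hb).symm)) :
        R ⊔ zpowers t ≤ cen1 b) ha)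
  have hq : ∀ q ∈ Q, q * t * q⁻¹ * t ∈ Q := fun q hq => by
    have := mul_mem hq ((mem_normalizer_iff.1 hn _).1 (inv_mem hq))
    rwa [ti, ← mul_assoc, ← mul_assoc] at this
  obtain ⟨c, cS, c2, cR, cN⟩ := exists_fixed (N := (Q ⊔ zpowers t) ⊓ nor (R ⊔ zpowers t)) (R := R)
    (hS.of_le (le_inf hS.le le_normalizer) inf_le_left) hSab inf_le_right tS tt (fun n hn' => by
      refine hin _ h2 le_sup_left _ (mul_mem ((mem_normalizer_iff.1 hn'.2 t).1 tS) tS) ?_
      rcases mem_sup_zp hn tt hn'.1 with h | h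
      · exact hq n h
      · simpa [mul_assoc, ti, tt'] using hq _ h)
  have e : c * t * t = c := by rw [mul_assoc, tt, mul_one]
  refine ⟨c * t, cR, ?_, fun y hy => ?_⟩
  · calc c * t * (c * t) = c * (t * c) * t := by group
      _ = c * c * (t * t) := by rw [← hct c cS]; group
      _ = 1 := by rw [c2, tt, one_mul]
  · rw [e]
    by_cases c1 : c = 1
    · rw [c1, commutatorElement_one_left]
      exact one_mem _
    have cn : c ∈ nor Q := by
      rw [← e]
      exact mul_mem (le_normalizer (hR.le cR)) hn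
    refine opp_inf_le_of_le (H := Q ⊔ zpowers t) le_sup_left ⟨?_, ?_⟩
    · exact H24.zstar_ab hS hSab cS (orderOf_eq_prime (by rw [pow_two, c2]) c1) cN (mem_sup_left hy)
    · exact Q.mul_mem ((mem_normalizer_iff.1 cn y).1 hy) (Q.inv_mem hy)

theorem jobIso : H14.FE.JobIso.{u} := fun _ _ _ _ _ _ _ h hab _ ht tt =>
  iso h.sylR hab (h.le ht) tt fun r hr => h.comm r hr _ ht

end H84.FeIso
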