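import Cfsg.Agent.H84.K3M
import Cfsg.Agent.H3.HkKit2
import Cfsg.Agent.H7.HKSSpec2

/-! HKS kit 3: the quotient `PΓL₂(q)/PSL₂(q)`, fields `out`, `ex`, `o4`. -/

set_option autoImplicit false
set_option linter.unusedSectionVars false

namespace H84.K3

open MulAction Cfsg Subgroup H89.K H65 H7.HKS H31.HK H3.HK2

universe u

variable {G Ω : Type u} [Group G] [Finite G] [MulAction G Ω] {F : Type} [Field F] [Fintype F]

/-- The standing hypotheses. -/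
structure Lx (U : Ω → Subgroup G) (x y : F → G) (X : Set G) (a b : Ω) : Prop where
  rg : Rg U
  ne : a ≠ b
  st : X ⊆ St G a b
  ld : LD x y (CU U X a) (CU U X b) a b

theorem fx_norm {X : Set G} {g : G} (hg : g ∈ normalizer X) {c : Ω} (hc : c ∈ Fx Ω X) :
    g • c ∈ Fx Ω X := fun n hn => by
  have := hc _ ((mem_set_normalizer_iff''.1 hg n).1 hn)
  rwa [mul_smul, mul_smul, inv_smul_eq_iff] at this

theorem Triv.conj {X : Set G} {g l : G} (h : Triv Ω X g) (hl : l ∈ normalizer X) :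
    Triv Ω X (l⁻¹ * g * l) := fun c hc => by
  rw [mul_smul, mul_smul, h _ (fx_norm hl hc), inv_smul_smul]

open Classical in
/-- `g` acts on `L_X` with determinant class `e` and field automorphism `σ`. -/
def Rl (U : Ω → Subgroup G) (x : F → G) (X : Set G) (a b : Ω) (g : G) (e : ℤˣ) (σ : F ≃+* F) :
    Prop := ∃ l ∈ LX U X, ∃ k ∈ St G a b, k ∈ normalizer X ∧ ∃ c : F, c ≠ 0 ∧ g = l * k ∧
  (∀ t, k * x t * k⁻¹ = x (c * σ t)) ∧ (e : ℤ) = quadraticChar F c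

namespace Lx

variable {U : Ω → Subgroup G} {x y : F → G} {X : Set G} {a b : Ω} (h : Lx U x y X a b)
include h

theorem cx : Cx U x y (CU U X a) (CU U X b) a b := ⟨h.rg.sr, h.ne, inf_le_left, inf_le_left, h.ld⟩

theorem lx : LX U X = CU U X a ⊔ CU U X b := lx_eq h.rg h.ne h.st

theorem odd : Odd (Fintype.card F) := Nat.card_eq_fintype_card (α := F) ▸ h.cx.odd

theorem card : Nat.card (CU U X a) = Fintype.card F := h.cx.card_A.trans Nat.card_eq_fintype_card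

theorem fx_iff {c : Ω} : c ∈ Fx Ω X ↔ c = a ∨ ∃ t, x t • b = c := by
  rw [(H72.HKS.kit1.fx h.rg h.ne h.st).1]
  refine or_congr_right ⟨fun ⟨u, hu, e⟩ => ?_, fun ⟨t, e⟩ => ⟨_, h.cx.xA t, e⟩⟩
  obtain ⟨t, rfl⟩ := (h.ld.rx u).1 hu
  exact ⟨t, e⟩

theorem xb (t : F) : x t • b ∈ Fx Ω X := h.fx_iff.2 (.inr ⟨t, rfl⟩)

theorem LN : LX U X ≤ normalizer X :=
  (H72.HKS.kit1.fx h.rg h.ne h.st).2.2.2.1.trans (centralizer_le_normalizer X)

theorem NL : normalizer X ≤ normalizer (LX U X : Set G) := (H72.HKS.kit1.fx h.rg h.ne h.st).2.2.2.2.1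

theorem hom_mem (m : S2 F) : h.ld.rel.hom m ∈ LX U X := h.lx.ge (h.cx.hom_mem m)

theorem exists_hom {g : G} (hg : g ∈ LX U X) : ∃ m, h.ld.rel.hom m = g := h.cx.exists_hom (h.lx.le hg)

theorem h_mem {c : F} (hc : c ≠ 0) : sl2h x y c ∈ LX U X := h.lx.ge (h.cx.h_mem hc)

theorem n_mem {c : F} (hc : c ≠ 0) : sl2n x y c ∈ LX U X := h.lx.ge (h.cx.n_mem hc)

theorem triv_of {k : G} (hk : k ∈ St G a b) (e : ∀ t, k * x t * k⁻¹ = x t) : Triv Ω X k :=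
  (H72.HKS.kit1.fx h.rg h.ne h.st).2.2.2.2.2.2.1 k hk fun u hu => by
    obtain ⟨t, rfl⟩ := (h.ld.rx u).1 hu
    exact mul_inv_eq_iff_eq_mul.1 (e t)

theorem triv_iff {g : G} : Triv Ω X g ↔ ∀ l ∈ LX U X, g * l = l * g := by
  refine ⟨(H72.HKS.kit1.fx h.rg h.ne h.st).2.2.2.2.2.1 g, fun hc => ?_⟩
  have h1 := fun t => hc _ (h.lx.ge (mem_sup_left (h.cx.xA t)))
  have h2 := hc _ (h.lx.ge (mem_sup_right (h.cx.yB 1)))
  refine h.triv_of ⟨?_, ?_⟩ fun t => by rw [h1, mul_inv_cancel_right]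
  · by_contra hn
    exact one_ne_zero (h.cx.x_fix hn (by rw [← mul_smul, ← h1, mul_smul, h.cx.xa]))
  · by_contra hn
    exact one_ne_zero (h.cx.y_fix hn (by rw [← mul_smul, ← h2, mul_smul, h.cx.yb]))

theorem tr2 {c d : Ω} (hc : c ∈ Fx Ω X) (hd : d ∈ Fx Ω X) (n : c ≠ d) :
    ∃ l ∈ LX U X, l • a = c ∧ l • b = d :=
  (H72.HKS.kit1.fx h.rg h.ne h.st).2.2.2.2.2.2.2
    ((one_lt_card_iff_ne_bot _).1 (h.card ▸ Fintype.one_lt_card)) c hc d hd n

theorem semi {k : G} (hk : k ∈ St G a b) (hn : k ∈ normalizer X) : ∃ (l : F) (σ : F ≃+* F), l ≠ 0 ∧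
    (∀ c, k * x c * k⁻¹ = x (l * σ c)) ∧ (∀ c, k * y c * k⁻¹ = y (l⁻¹ * σ c)) ∧
    (∀ c, c ≠ 0 → k * sl2n x y c * k⁻¹ = sl2n x y (l * σ c)) ∧
    ∀ c, c ≠ 0 → k * sl2h x y c * k⁻¹ = sl2h x y (σ c) :=
  h.cx.semi hk (norm_CU h.rg.sr hn hk.1) (norm_CU h.rg.sr hn hk.2)

theorem semi_eq {c c' : F} {σ σ' : F ≃+* F} (hc : c ≠ 0) (e : ∀ t, x (c * σ t) = x (c' * σ' t)) :
    c = c' ∧ σ = σ' := by
  obtain rfl : c = c' := by simpa using h.ld.inj (e 1)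
  exact ⟨rfl, RingEquiv.ext fun t => mul_left_cancel₀ hc (h.ld.inj (e t))⟩

theorem semi_y {k : G} (hk : k ∈ St G a b) (hn : k ∈ normalizer X) {c : F} {σ : F ≃+* F}
    (e : ∀ t, k * x t * k⁻¹ = x (c * σ t)) : c ≠ 0 ∧ ∀ t, k * y t * k⁻¹ = y (c⁻¹ * σ t) := by
  obtain ⟨l, τ, l0, s1, s2, -⟩ := h.semi hk hn
  obtain ⟨rfl, rfl⟩ := h.semi_eq l0 fun t => (s1 t).symm.trans (e t)
  exact ⟨l0, s2⟩

theorem rl_of {l k : G} (hl : l ∈ LX U X) (hk : k ∈ St G a b) (hn : k ∈ normalizer X) {c : F}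
    {σ : F ≃+* F} (e : ∀ t, k * x t * k⁻¹ = x (c * σ t)) :
    ∃ d, Rl U x X a b (l * k) d σ ∧ (d = 1 ↔ IsSquare c) := by
  classical
  have c0 := (h.semi_y hk hn e).1
  rw [← quadraticChar_one_iff_isSquare c0]
  rcases quadraticChar_dichotomy c0 with q | q
  · exact ⟨1, ⟨l, hl, k, hk, hn, c, c0, rfl, e, q.symm⟩, by simp [q]⟩
  · exact ⟨-1, ⟨l, hl, k, hk, hn, c, c0, rfl, e, q.symm⟩, by simp [q]⟩

theorem rl_ex {g : G} (hg : g ∈ normalizer X) : ∃ d σ, Rl U x X a b g d σ := by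
  obtain ⟨l, hl, e1, e2⟩ := h.tr2 (fx_norm hg (fx_a h.st)) (fx_norm hg (fx_b h.st))
    fun e => h.ne (MulAction.injective g e)
  have hk : l⁻¹ * g ∈ St G a b :=
    mem_St.2 ⟨by rw [mul_smul, ← e1, inv_smul_smul], by rw [mul_smul, ← e2, inv_smul_smul]⟩
  have hn := mul_mem (inv_mem (h.LN hl)) hg
  obtain ⟨c, σ, -, s1, -⟩ := h.semi hk hn
  obtain ⟨d, hd, -⟩ := h.rl_of hl hk hn s1
  exact ⟨d, σ, by rwa [mul_inv_cancel_left] at hd⟩

theorem rl_uniq {g : G} {d d' : ℤˣ} {σ σ' : F ≃+* F} (r : Rl U x X a b g d σ)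
    (r' : Rl U x X a b g d' σ') : d = d' ∧ σ = σ' := by
  classical
  obtain ⟨l, hl, k, hk, -, c, c0, rfl, s, q⟩ := r
  obtain ⟨l', hl', k', hk', -, c', c0', e, s', q'⟩ := r'
  have e1 : l'⁻¹ * l = k' * k⁻¹ := by rw [inv_mul_eq_iff_eq_mul, ← mul_assoc, ← e]; simp
  obtain ⟨r, r0, hr⟩ := h.cx.st (h.lx.le (mul_mem (inv_mem hl') hl))
    (by rw [e1]; exact mul_mem hk' (inv_mem hk))
  rw [e1, mul_inv_eq_iff_eq_mul] at hr
  obtain ⟨rfl, rfl⟩ := h.semi_eq (c' := r ^ 2 * c) (σ' := σ) c0' fun t => by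
    rw [← s', mul_assoc (r ^ 2), ← h_x h.ld.rel r0, ← s, hr]; group
  exact ⟨Units.ext (by rw [q, q', map_mul, quadraticChar_sq_one' r0, one_mul]), rfl⟩

theorem rl_mul {g g' : G} {d d' : ℤˣ} {σ σ' : F ≃+* F} (r : Rl U x X a b g d σ)
    (r' : Rl U x X a b g' d' σ') : Rl U x X a b (g * g') (d * d') (σ * σ') := by
  classical
  obtain ⟨l, hl, k, hk, hn, c, c0, rfl, s, q⟩ := r
  obtain ⟨l', hl', k', hk', hn', c', c0', rfl, s', q'⟩ := r'
  refine ⟨l * (k * l' * k⁻¹), mul_mem hl ((mem_normalizer_iff.1 (h.NL hn) _).1 hl'), k * k',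
    mul_mem hk hk', mul_mem hn hn', c * σ c', by simp [c0, c0'], by group, fun t => ?_, ?_⟩
  · rw [mul_assoc c, RingAut.mul_apply, ← map_mul, ← s, ← s']; group
  · rw [Units.val_mul, q, q', map_mul, chi_aut]

theorem rl_inn {g : G} (hg : g ∈ normalizer X) {d : ℤˣ} {σ : F ≃+* F} (r : Rl U x X a b g d σ) :
    (d = 1 ∧ σ = 1) ↔ Inn U X g := by
  classical
  constructor
  · rintro ⟨rfl, rfl⟩
    obtain ⟨l, hl, k, hk, -, c, c0, rfl, s, q⟩ := r
    obtain ⟨r, rfl⟩ : IsSquare c := (quadraticChar_one_iff_isSquare c0).1 q.symm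
    have r0 := left_ne_zero_of_mul c0
    have := h.triv_of (k := (sl2h x y r)⁻¹ * k)
      (mul_mem (inv_mem (mem_St.2 ⟨h.cx.ha r0, h.cx.hb r0⟩)) hk) fun t => by
        rw [show (sl2h x y r)⁻¹ * k * x t * ((sl2h x y r)⁻¹ * k)⁻¹ =
          (sl2h x y r)⁻¹ * (k * x t * k⁻¹) * sl2h x y r by group, s, ← sq, RingAut.one_apply,
          ← h_x h.ld.rel r0]
        group
    refine ⟨l * sl2h x y r, mul_mem hl (h.h_mem r0), fun p hp => ?_⟩
    have := this p hp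
    rw [mul_smul, inv_smul_eq_iff] at this
    rw [mul_smul, mul_smul, this]
  · rintro ⟨l, hl, e⟩
    have t : Triv Ω X (l⁻¹ * g) := fun p hp => by rw [mul_smul, e p hp, inv_smul_smul]
    obtain ⟨d', r', q⟩ := h.rl_of (c := 1) (σ := 1) hl ⟨t a (fx_a h.st), t b (fx_b h.st)⟩
      (mul_mem (inv_mem (h.LN hl)) hg) fun s => by
        rw [h.triv_iff.1 t _ (h.lx.ge (mem_sup_left (h.cx.xA s))), mul_inv_cancel_right]; simp
    rw [mul_inv_cancel_left, q.2 IsSquare.one] at r'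
    exact h.rl_uniq r r'

theorem exists_dφ : ∃ (d : normalizer X →* ℤˣ) (φ : normalizer X →* (F ≃+* F)),
    ∀ g : normalizer X, Rl U x X a b g (d g) (φ g) := by
  choose d φ r using fun g : normalizer X => h.rl_ex g.2
  exact ⟨MonoidHom.mk' d fun g g' => (h.rl_uniq (r _) (h.rl_mul (r g) (r g'))).1,
    MonoidHom.mk' φ fun g g' => (h.rl_uniq (r _) (h.rl_mul (r g) (r g'))).2, r⟩

/-- An element interchanging `a` and `b` whose square acts trivially. -/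
theorem swap {w : G} (hw : w ∈ normalizer X) (hs : Sw w a b) (h2 : Triv Ω X (w * w)) {d : ℤˣ}
    {σ : F ≃+* F} (r : Rl U x X a b w d σ) : ∃ l : F, l ≠ 0 ∧ σ l = l ∧ (∀ c, σ (σ c) = c) ∧
      (d = 1 ↔ IsSquare l) ∧ (Fx Ω (insert w X)).ncard = Nat.card {c : F // σ c * c = -l} := by
  have sw := h.ld.sw 1 one_ne_zero
  have nm := h.n_mem (one_ne_zero (α := F))
  have hg : w * (sl2n x y 1)⁻¹ ∈ St G a b := mem_St.2
    ⟨by rw [mul_smul, inv_smul_eq_iff.2 sw.2.symm, hs.2],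
      by rw [mul_smul, inv_smul_eq_iff.2 sw.1.symm, hs.1]⟩
  have hn : w * (sl2n x y 1)⁻¹ ∈ normalizer X := mul_mem hw (inv_mem (h.LN nm))
  obtain ⟨l, τ, l0, s1, -⟩ := h.semi hg hn
  have e := (inv_mul_cancel_right w (sl2n x y 1)).symm
  generalize w * (sl2n x y 1)⁻¹ = g at hg hn s1 e
  obtain ⟨d', r', q⟩ := h.rl_of ((mem_normalizer_iff.1 (h.NL hn) _).1 nm) hg hn s1
  rw [inv_mul_cancel_right, ← e] at r'
  obtain ⟨rfl, rfl⟩ := h.rl_uniq r r'
  have act : ∀ c, c ≠ 0 → w • x c • b = x (-(l / σ c)) • b := fun c hc => by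
    rw [e, mul_smul, h.cx.n_x_b hc one_ne_zero, show -(l / σ c) = l * σ (-(1 ^ 2 / c)) by
      simp [div_eq_mul_inv], ← s1, mul_smul, mul_smul,
      inv_smul_eq_iff.2 (show b = g • b from hg.2.symm)]
  have s0 : ∀ c, c ≠ 0 → σ c ≠ 0 := fun c hc => by simpa using hc
  have h3 : ∀ c, c ≠ 0 → l * σ (σ c) = σ l * c := fun c hc => by
    have := h2 _ (h.xb c)
    rw [mul_smul, act c hc, act _ (neg_ne_zero.2 (div_ne_zero l0 (s0 c hc)))] at this
    have := h.cx.x_inj h.ne.symm this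
    have h4 := s0 l l0
    have h5 := s0 _ (s0 c hc)
    rw [map_neg, map_div₀] at this
    field_simp at this
    linear_combination this
  have h4 : σ l = l := by simpa using (h3 1 one_ne_zero).symm
  refine ⟨l, l0, h4, fun c => ?_, q, ?_⟩
  · by_cases hc : c = 0
    · simp [hc]
    · exact mul_left_cancel₀ l0 (by rw [h3 c hc, h4])
  refine (Nat.card_congr (Equiv.ofBijective
    (fun c : {c : F // σ c * c = -l} => (⟨x c • b, mem_ins.2 ⟨?_, h.xb c⟩⟩ : Fx Ω (insert w X)))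
    ⟨fun c c' k => Subtype.ext (h.cx.x_inj h.ne.symm (congrArg Subtype.val k)), ?_⟩)).symm
  · obtain ⟨c, hc⟩ := c
    have c0 : c ≠ 0 := by rintro rfl; exact l0 (by simpa using hc)
    have := s0 c c0
    rw [act c c0, show -(l / σ c) = c by field_simp; linear_combination -hc]
  · rintro ⟨p, hp⟩
    obtain ⟨p1, p2⟩ := mem_ins.1 hp
    rcases h.fx_iff.1 p2 with rfl | ⟨c, rfl⟩
    · exact absurd (p1.symm.trans hs.1) h.ne
    have c0 : c ≠ 0 := by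
      rintro rfl
      rw [h.ld.rel.x_zero, one_smul] at p1
      exact h.ne (hs.2.symm.trans p1)
    rw [act c c0] at p1
    have := h.cx.x_inj h.ne.symm p1
    have k := s0 c c0
    exact ⟨⟨c, by field_simp at this; linear_combination -this⟩, rfl⟩

theorem out3 {g : G} (hg : g ∈ normalizer X) (h2 : Triv Ω X (g * g)) (hn : ¬ Triv Ω X g) {d : ℤˣ}
    {σ : F ≃+* F} (r : Rl U x X a b g d σ) :
    (σ ≠ 1 ∧ 4 ≤ (Fx Ω (insert g X)).ncard ∧
      ∃ r, Fintype.card F = r ^ 2 ∧ (Fx Ω (insert g X)).ncard = r + 1) ∨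
    (σ = 1 ∧ (Fx Ω (insert g X)).ncard = 2 ∧ (d = 1 ↔ Fintype.card F % 4 = 1)) ∨
    (σ = 1 ∧ Fx Ω (insert g X) = ∅ ∧ (d = 1 ↔ Fintype.card F % 4 = 3)) := by
  classical
  have := h.rg.t2.finite
  have ho := Nat.odd_iff.1 h.odd
  obtain ⟨p, hp, n⟩ : ∃ p ∈ Fx Ω X, p ≠ g • p := by
    by_contra! k
    exact hn fun p hp => (k p hp).symm
  obtain ⟨l, hl, e1, e2⟩ := h.tr2 hp (fx_norm hg hp) n
  have lN := h.LN hl
  have one : ∀ l ∈ LX U X, Rl U x X a b l 1 1 := fun l hl => by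
    obtain ⟨d, σ, r⟩ := h.rl_ex (h.LN hl)
    obtain ⟨rfl, rfl⟩ := (h.rl_inn (h.LN hl) r).2 ⟨l, hl, fun _ _ => rfl⟩
    exact r
  have r' := h.rl_mul (h.rl_mul (one _ (inv_mem hl)) r) (one _ hl)
  rw [one_mul, mul_one, one_mul, mul_one] at r'
  obtain ⟨μ, m0, m1, m2, q, cd⟩ := h.swap (mul_mem (mul_mem (inv_mem lN) hg) lN)
    ⟨by rw [mul_smul, mul_smul, e1, ← e2, inv_smul_smul],
      by rw [mul_smul, mul_smul, e2, ← mul_smul g, h2 p hp, ← e1, inv_smul_smul]⟩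
    (by rw [show l⁻¹ * g * l * (l⁻¹ * g * l) = l⁻¹ * (g * g) * l by group]; exact Triv.conj h2 lN) r'
  have ec : (Fx Ω (insert (l⁻¹ * g * l) X)).ncard = (Fx Ω (insert g X)).ncard :=
    Set.ncard_congr (fun c _ => l • c) (fun c hc => mem_ins.2 ⟨inv_smul_eq_iff.1
        (by simpa only [mul_smul] using (mem_ins.1 hc).1), fx_norm lN (mem_ins.1 hc).2⟩)
      (fun _ _ _ _ e => MulAction.injective l e) fun c hc => ⟨l⁻¹ • c, mem_ins.2
        ⟨by rw [mul_smul, mul_smul, smul_inv_smul, (mem_ins.1 hc).1],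
          fx_norm (inv_mem lN) (mem_ins.1 hc).2⟩, smul_inv_smul l c⟩
  rw [ec] at cd
  by_cases s : σ = 1
  · subst s
    simp only [RingAut.one_apply] at cd
    by_cases k : IsSquare (-μ)
    · obtain ⟨t, ht⟩ := k
      have t0 : t ≠ 0 := by rintro rfl; exact m0 (by simpa using ht)
      refine .inr (.inl ⟨rfl, ?_, q.trans ?_⟩)
      · rw [cd, ht, ← Set.ncard_pair (show t ≠ -t from fun e => t0
          ((mul_eq_zero.1 (show 2 * t = 0 by linear_combination e)).resolve_left h.cx.two_ne))]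
        exact congrArg Set.ncard (Set.ext fun c => mul_self_eq_mul_self_iff)
      · rw [show μ = -1 * t ^ 2 by linear_combination -ht, ← quadraticChar_one_iff_isSquare
          (by simpa using t0), map_mul, quadraticChar_sq_one' t0, mul_one,
          quadraticChar_one_iff_isSquare (by simp), FiniteField.isSquare_neg_one_iff]
        omega
    · refine .inr (.inr ⟨rfl, (Set.ncard_eq_zero).1 (cd.trans (Nat.card_eq_zero.2
        (.inl ⟨fun c => k ⟨c, c.2.symm⟩⟩))), q.trans ⟨fun ⟨t, ht⟩ => by_contra fun n => ?_,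
          fun n => (H21.NRL.sq_or n m0).2 k⟩⟩)
      obtain ⟨i, hi⟩ := (FiniteField.isSquare_neg_one_iff (F := F)).2 n
      exact k ⟨i * t, by linear_combination (-1) * ht + t * t * hi⟩
  · obtain ⟨r, hr, e⟩ := H59.exists_card_eq_sq (σ := (σ : F →+* F))
      (fun k => s (RingEquiv.ext fun c => congrArg (· c) k)) m2
    have e' : ∀ c, σ c = c ^ r := fun c => congrArg (· c) e
    have cd2 : (Fx Ω (insert g X)).ncard = r + 1 := by
      rw [cd, ← H59.card_norm_eq hr (neg_ne_zero.2 m0) (by rw [← e', map_neg, m1])]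
      simp only [e', pow_succ]
    have r2 := H59.two_le_q hr
    have r3 : r ≠ 2 := by rintro rfl; omega
    exact .inl ⟨s, by omega, r, hr, cd2⟩

end Lx

theorem out {U : Ω → Subgroup G} (hU : Rg U) {x y : F → G} {X : Set G} {a b : Ω} (hab : a ≠ b)
    (hX : X ⊆ St G a b) (L : LD x y (CU U X a) (CU U X b) a b) :
    ∃ (d : normalizer X →* ℤˣ) (φ : normalizer X →* (F ≃+* F)),
      (∀ g : normalizer X, (d g = 1 ∧ φ g = 1) ↔ Inn U X g) ∧
      (∀ (g : normalizer X) (l : F) (σ : F ≃+* F), (g : G) ∈ St G a b →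
        (∀ c, g * x c * (g : G)⁻¹ = x (l * σ c)) → φ g = σ ∧ (d g = 1 ↔ IsSquare l)) ∧
      ∀ g : normalizer X, Triv Ω X (g * g) → ¬ Triv Ω X g →
        (φ g ≠ 1 ∧ 4 ≤ (Fx Ω (insert (g : G) X)).ncard ∧
          ∃ r, Fintype.card F = r ^ 2 ∧ (Fx Ω (insert (g : G) X)).ncard = r + 1) ∨
        (φ g = 1 ∧ (Fx Ω (insert (g : G) X)).ncard = 2 ∧ (d g = 1 ↔ Fintype.card F % 4 = 1)) ∨
        (φ g = 1 ∧ Fx Ω (insert (g : G) X) = ∅ ∧ (d g = 1 ↔ Fintype.card F % 4 = 3)) := by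
  have h : Lx U x y X a b := ⟨hU, hab, hX, L⟩
  obtain ⟨d, φ, r⟩ := h.exists_dφ
  refine ⟨d, φ, fun g => h.rl_inn g.2 (r g), fun g l σ hg e => ?_,
    fun g h2 hn => h.out3 g.2 h2 hn (r g)⟩
  obtain ⟨d', r', q⟩ := h.rl_of (one_mem _) hg g.2 e
  rw [one_mul] at r'
  obtain ⟨e1, e2⟩ := h.rl_uniq (r g) r'
  exact ⟨e2, e1 ▸ q⟩

end H84.K3
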