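import Cfsg.Agent.Base

/-! PRIME-LA, part 1: matrices graded by `i - j` and the operator `ad` of a Jordan block. -/

set_option autoImplicit false

namespace H84.LA

open Module Finset

variable {k : Type*} [Field k] {d : ℕ}

abbrev Mat (k : Type*) (d : ℕ) := Matrix (Fin d) (Fin d) k

/-- Matrices of degree `m`. -/
def R (k : Type*) [Field k] (d : ℕ) (m : ℤ) : Submodule k (Mat k d) where
  carrier := {φ | ∀ i j : Fin d, ((i : ℕ) : ℤ) - (j : ℕ) ≠ m → φ i j = 0}
  zero_mem' _ _ _ := rfl
  add_mem' h1 h2 i j h := by rw [Matrix.add_apply, h1 i j h, h2 i j h, add_zero]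
  smul_mem' c _ h1 i j h := by rw [Matrix.smul_apply, h1 i j h, smul_zero]

/-- The component of degree `m`. -/
def pr (m : ℤ) : Mat k d →ₗ[k] Mat k d where
  toFun φ := Matrix.of fun i j => if ((i : ℕ) : ℤ) - (j : ℕ) = m then φ i j else 0
  map_add' φ ψ := by
    ext i j
    simp only [Matrix.of_apply, Matrix.add_apply]
    split_ifs <;> simp
  map_smul' c φ := by
    ext i j
    simp only [Matrix.of_apply, Matrix.smul_apply, RingHom.id_apply]
    split_ifs <;> simp

theorem pr_apply (m : ℤ) (φ : Mat k d) (i j : Fin d) :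
    pr m φ i j = if ((i : ℕ) : ℤ) - (j : ℕ) = m then φ i j else 0 := rfl

theorem pr_mem (m : ℤ) (φ : Mat k d) : pr m φ ∈ R k d m := fun _ _ h => if_neg h

theorem pr_eq {m : ℤ} {φ : Mat k d} (h : φ ∈ R k d m) : pr m φ = φ := by
  ext i j
  rw [pr_apply]
  split_ifs with e
  exacts [rfl, (h i j e).symm]

theorem finrank_R (m : ℤ) : finrank k (R k d m) = d - m.natAbs := by
  let T := {ij : Fin d × Fin d // ((ij.1 : ℕ) : ℤ) - (ij.2 : ℕ) = m}
  let f : R k d m →ₗ[k] (T → k) :=
    { toFun := fun φ ij => φ.1 ij.1.1 ij.1.2, map_add' := fun _ _ => rfl, map_smul' := fun _ _ => rfl }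
  have hf : Function.Bijective f := ⟨fun φ ψ e => Subtype.ext (Matrix.ext fun i j => by
      by_cases h : ((i : ℕ) : ℤ) - (j : ℕ) = m
      exacts [congrFun e ⟨(i, j), h⟩, (φ.2 i j h).trans (ψ.2 i j h).symm]), fun c =>
    ⟨⟨Matrix.of fun i j => if h : ((i : ℕ) : ℤ) - (j : ℕ) = m then c ⟨(i, j), h⟩ else 0,
      fun _ _ h => dif_neg h⟩, funext fun ij => dif_pos ij.2⟩⟩
  rw [(LinearEquiv.ofBijective f hf).finrank_eq, finrank_fintype_fun_eq_card,
    ← Fintype.card_fin (d - m.natAbs)]
  refine Fintype.card_of_bijective (f := fun ij : T => (⟨min ij.1.1 ij.1.2, by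
    have := ij.2
    have := ij.1.1.2
    have := ij.1.2.2
    omega⟩ : Fin (d - m.natAbs))) ⟨fun a b e => ?_, fun n => ?_⟩
  · have e1 : min (a.1.1 : ℕ) a.1.2 = min (b.1.1 : ℕ) b.1.2 := congrArg Fin.val e
    have := a.2
    have := b.2
    exact Subtype.ext (Prod.ext (Fin.ext (by omega)) (Fin.ext (by omega)))
  · have := n.2
    exact ⟨⟨(⟨n + m.toNat, by omega⟩, ⟨n + (-m).toNat, by omega⟩), by simp only; omega⟩,
      Fin.ext (by simp only; omega)⟩

/-- The Jordan block. -/
def J (k : Type*) [Field k] (d : ℕ) : Mat k d := Matrix.of fun i j => if (i : ℕ) = j + 1 then 1 else 0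

theorem J_mem : J k d ∈ R k d 1 := fun i j h => if_neg (by omega)

theorem pr_mul_left {a : ℤ} {A : Mat k d} (hA : A ∈ R k d a) (m : ℤ) (φ : Mat k d) :
    pr (m + a) (A * φ) = A * pr m φ := by
  ext i j
  rw [pr_apply, Matrix.mul_apply, Matrix.mul_apply, Finset.ite_sum_zero]
  refine Finset.sum_congr rfl fun l _ => ?_
  by_cases h : ((i : ℕ) : ℤ) - (l : ℕ) = a
  · rw [pr_apply, mul_ite, mul_zero]
    exact if_congr (by omega) rfl rfl
  · simp [hA i l h]

theorem pr_mul_right {a : ℤ} {A : Mat k d} (hA : A ∈ R k d a) (m : ℤ) (φ : Mat k d) :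
    pr (m + a) (φ * A) = pr m φ * A := by
  ext i j
  rw [pr_apply, Matrix.mul_apply, Matrix.mul_apply, Finset.ite_sum_zero]
  refine Finset.sum_congr rfl fun l _ => ?_
  by_cases h : ((l : ℕ) : ℤ) - (j : ℕ) = a
  · rw [pr_apply, ite_mul, zero_mul]
    exact if_congr (by omega) rfl rfl
  · simp [hA l j h]

/-- The operator `ad J`. -/
noncomputable def Z (k : Type*) [Field k] (d : ℕ) : End k (Mat k d) :=
  LinearMap.mulLeft k (J k d) - LinearMap.mulRight k (J k d)

theorem Z_apply (φ : Mat k d) : Z k d φ = J k d * φ - φ * J k d := rfl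

theorem pr_Z (s : ℕ) (m : ℤ) (φ : Mat k d) : pr (m + s) ((Z k d ^ s) φ) = (Z k d ^ s) (pr m φ) := by
  induction s with
  | zero => simp
  | succ s ih =>
    rw [pow_succ', End.mul_apply, End.mul_apply, Z_apply, Z_apply, map_sub, Nat.cast_succ,
      ← add_assoc, pr_mul_left J_mem, pr_mul_right J_mem, ih]

theorem Z_mem (s : ℕ) {m : ℤ} {φ : Mat k d} (h : φ ∈ R k d m) : (Z k d ^ s) φ ∈ R k d (m + s) := by
  rw [← pr_eq h, ← pr_Z]
  exact pr_mem _ _

theorem one_mem_R : (1 : Mat k d) ∈ R k d 0 := fun i j h =>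
  Matrix.one_apply_ne fun e => h (by rw [e, sub_self])

theorem Z_pow {p : ℕ} [Fact p.Prime] [CharP k p] (h0 : 0 < d) (h : d ≤ p) : Z k d ^ p = 0 := by
  have : Nonempty (Fin d) := ⟨⟨0, h0⟩⟩
  have : CharP (End k (Mat k d)) p := charP_of_injective_algebraMap
    (algebraMap k (End k (Mat k d))).injective p
  have e : ∀ s : ℕ, J k d ^ s ∈ R k d s := fun s => by
    induction s with
    | zero => simpa using one_mem_R
    | succ s ih =>
      rw [pow_succ, ← pr_eq ih, Nat.cast_succ, ← pr_mul_right J_mem]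
      exact pr_mem _ _
  have e1 : J k d ^ p = 0 := Matrix.ext fun i j => e p i j (by have := i.2; omega)
  rw [Z, sub_pow_char_of_commute p (LinearMap.commute_mulLeft_right _ _), LinearMap.pow_mulLeft,
    LinearMap.pow_mulRight, e1]
  simp

theorem Z_inj {m : ℤ} (hm : m < 0) {φ : Mat k d} (h : φ ∈ R k d m) (h1 : Z k d φ = 0) : φ = 0 := by
  have e : ∀ (n : ℕ) (hn : n < d) (i : Fin d), φ i ⟨n, hn⟩ = 0 := fun n => by
    induction n with
    | zero => exact fun hn i => h i _ (by simp only; omega)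
    | succ n ih =>
      intro hn i
      have e1 := congrFun (congrFun (sub_eq_zero.1 ((Z_apply φ).symm.trans h1)) i) ⟨n, by omega⟩
      rw [Matrix.mul_apply, Matrix.mul_apply, Finset.sum_eq_zero fun l _ => by rw [ih, mul_zero],
        Finset.sum_eq_single ⟨n + 1, hn⟩ (fun l _ hl => by
          rw [J, Matrix.of_apply, if_neg fun r => hl (Fin.ext r), mul_zero]) (by simp)] at e1
      simpa [J] using e1.symm
  exact Matrix.ext fun i j => e j j.2 i

theorem Z_pow_inj (s : ℕ) {m : ℤ} (hm : m + s ≤ 0) {φ : Mat k d} (h : φ ∈ R k d m)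
    (h1 : (Z k d ^ s) φ = 0) : φ = 0 := by
  induction s with
  | zero => simpa using h1
  | succ s ih =>
    rw [pow_succ', End.mul_apply] at h1
    exact ih (by omega) (Z_inj (by omega) (Z_mem s h) h1)

/-- The dimension of the component of degree `m` of a subspace. -/
noncomputable def w (W : Submodule k (Mat k d)) (m : ℤ) : ℕ := finrank k (W.map (pr m))

variable {W : Submodule k (Mat k d)}

theorem w_le (m : ℤ) : w W m ≤ d - m.natAbs :=
  finrank_R (k := k) m ▸ Submodule.finrank_mono (by rintro _ ⟨φ, -, rfl⟩; exact pr_mem m φ)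

theorem w_le_map {s : ℕ} (hW : W ≤ LinearMap.range (Z k d ^ s)) (m : ℤ) :
    w W (m + s) ≤ finrank k ((R k d m).map (Z k d ^ s)) := Submodule.finrank_mono (by
  rintro _ ⟨φ, h, rfl⟩
  obtain ⟨ψ, rfl⟩ := hW h
  exact ⟨pr m ψ, pr_mem m ψ, (pr_Z s m ψ).symm⟩)

theorem w_shift {s : ℕ} (hW : W ≤ LinearMap.range (Z k d ^ s)) (m : ℤ) :
    w W m ≤ d - (m - s).natAbs := by
  have := (w_le_map hW (m - s)).trans (Submodule.finrank_map_le _ _)
  rwa [sub_add_cancel, finrank_R] at this

theorem w_ker {s e : ℕ} (hW : W ≤ LinearMap.range (Z k d ^ s)) (h0 : Z k d ^ (s + e) = 0) (m : ℤ)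
    (hm : m ≤ s) : w W m + (d - (m - s - e).natAbs) ≤ d - (m - s).natAbs := by
  have e1 := w_le_map hW (m - s)
  have e2 := LinearMap.finrank_range_add_finrank_ker ((Z k d ^ s).domRestrict (R k d (m - s)))
  rw [sub_add_cancel] at e1
  rw [LinearMap.range_domRestrict, finrank_R] at e2
  have e3 : finrank k (R k d (m - s - e)) ≤
      finrank k (LinearMap.ker ((Z k d ^ s).domRestrict (R k d (m - s)))) :=
    LinearMap.finrank_le_finrank_of_injective (f := LinearMap.codRestrict _ ((Z k d ^ e).restrict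
      (p := R k d (m - s - e)) (q := R k d (m - s)) fun φ h => by simpa using Z_mem e h) fun φ => by
        show (Z k d ^ s) ((Z k d ^ e) φ) = 0
        rw [← End.mul_apply, ← pow_add, h0, LinearMap.zero_apply])
      ((injective_iff_map_eq_zero _).2 fun φ h => Subtype.ext
        (Z_pow_inj e (by omega) φ.2 (congrArg (fun x => x.1.1) h)))
  rw [finrank_R] at e3
  omega

theorem w_trace (hd : (d : k) ≠ 0) (hW : ∀ φ ∈ W, φ.trace = 0) : w W 0 < d := by
  have := Submodule.finrank_lt_finrank_of_lt (s := W.map (pr 0)) (t := R k d 0) (lt_of_le_of_ne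
    (by rintro _ ⟨φ, -, rfl⟩; exact pr_mem 0 φ) fun e => by
      obtain ⟨φ, h, e1⟩ := e.ge one_mem_R
      have e2 : (pr 0 φ).trace = φ.trace :=
        Finset.sum_congr rfl fun i _ => if_pos (sub_self _)
      rw [e1, hW φ h, Matrix.trace_one, Fintype.card_fin] at e2
      exact hd e2)
  rwa [finrank_R] at this

theorem finrank_le_sum {n : ℕ} (g : ℕ → ℤ)
    (h : ∀ φ ∈ W, ∀ i j, φ i j ≠ 0 → ∃ a < n, ((i : ℕ) : ℤ) - (j : ℕ) = g a) :
    finrank k W ≤ ∑ a ∈ range n, w W (g a) := by
  rw [← Fin.sum_univ_eq_sum_range (fun a => w W (g a))]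
  refine le_of_le_of_eq (LinearMap.finrank_le_finrank_of_injective
    (f := LinearMap.pi fun a : Fin n => (pr (g a)).submoduleMap W)
    ((injective_iff_map_eq_zero _).2 fun φ e => Subtype.ext (Matrix.ext fun i j => ?_)))
    (finrank_pi_fintype k)
  by_contra r
  obtain ⟨a, ha, r1⟩ := h φ φ.2 i j r
  exact r ((if_pos r1).symm.trans
    (congrFun (congrFun (congrArg Subtype.val (congrFun e ⟨a, ha⟩)) i) j))

theorem drop {u F : ℕ → ℕ} (h0 : u 0 = 0) (h1 : ∀ a, u (a + 1) ≤ F a) (h2 : ∀ a, u a ≤ F a) (c : ℕ)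
    {n : ℕ} (h : c < n) : ∑ a ∈ range n, u a + F c ≤ ∑ a ∈ range n, F a := by
  induction n, h using Nat.le_induction with
  | base =>
    rw [sum_range_succ', h0, add_zero, sum_range_succ]
    exact Nat.add_le_add_right (sum_le_sum fun a _ => h1 a) _
  | succ n _ ih =>
    have := h2 n
    rw [sum_range_succ, sum_range_succ]
    omega

theorem sumF {e T r : ℕ} (hr : r < e) (hd : d = e * T + 1) :
    ∑ a ∈ range (T + T + 1), (d - ((r : ℤ) + e * a - e * T).natAbs) = T * (d + 1) + (1 - r) := by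
  rw [sum_range_succ, sum_range_add, ← sum_add_distrib, sum_congr rfl (g := fun _ => d + 1),
    sum_const, card_range, smul_eq_mul]
  · congr 1
    push_cast
    rw [mul_add]
    omega
  · intro a ha
    have : e * (a + 1) ≤ e * T := Nat.mul_le_mul_left e (mem_range.1 ha)
    push_cast
    rw [mul_add] at this ⊢
    omega

/-- The three bounds for a space of matrices whose degrees lie in one class modulo `e`. -/
theorem core {p e T r : ℕ} [Fact p.Prime] [CharP k p] (hr : r < e) (he : 2 ≤ e) (hT : 2 ≤ T)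
    (hd : d = e * T + 1) (hp : d + e = p)
    (h : ∀ φ ∈ W, ∀ i j, φ i j ≠ 0 → (i : ℕ) ≡ r + j [MOD e]) :
    ((∀ φ ∈ W, φ.trace = 0) → finrank k W ≤ T * (d + 1)) ∧
      (W ≤ LinearMap.range (Z k d ^ e) → finrank k W + (d - e / 2) ≤ T * (d + 1)) ∧
      (W ≤ LinearMap.range (Z k d ^ d) → finrank k W ≤ d - e) := by
  have h1 := finrank_le_sum (W := W) (n := T + T + 1) (fun a => (r : ℤ) + e * a - e * T)
    fun φ hφ i j r1 => by
      obtain ⟨q, hq⟩ := (h φ hφ i j r1).symm.dvd
      have := i.2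
      have := j.2
      push_cast at hq
      have q1 : -(T : ℤ) - 1 < q := by
        by_contra r2
        nlinarith [mul_le_mul_of_nonneg_left (not_lt.1 r2) (show (0 : ℤ) ≤ e by omega)]
      have q2 : q < T + 1 := by
        by_contra r2
        nlinarith [mul_le_mul_of_nonneg_left (not_lt.1 r2) (show (0 : ℤ) ≤ e by omega)]
      refine ⟨(q + T).toNat, by omega, ?_⟩
      rw [Int.toNat_of_nonneg (by omega)]
      linear_combination hq
  have h2 := sumF hr hd
  refine ⟨fun h3 => ?_, fun h3 => ?_, fun h3 => ?_⟩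
  · rcases r.eq_zero_or_pos with rfl | r0
    · have := sum_lt_sum (s := range (T + T + 1)) (fun a _ => w_le (W := W) ((0 : ℕ) + e * a - e * T))
        ⟨T, mem_range.2 (by omega), by
          simpa using w_trace (fun r => absurd (Nat.le_of_dvd (by omega)
            ((CharP.cast_eq_zero_iff k p d).1 r)) (by omega)) h3⟩
      omega
    · have := sum_le_sum (s := range (T + T + 1)) fun a _ => w_le (W := W) ((r : ℤ) + e * a - e * T)
      omega
  · have key := drop (u := fun a => w W ((r : ℤ) + e * a - e * T))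
      (F := fun a => d - ((r : ℤ) + e * a - e * T).natAbs)
      (Nat.le_zero.1 ((w_shift h3 _).trans (by simp only [Nat.cast_zero, mul_zero]; omega)))
      (fun a => (w_shift h3 _).trans (by push_cast; rw [mul_add]; omega)) fun a => w_le _
    have hT' : e ≤ e * T := Nat.le_mul_of_pos_right _ (by omega)
    by_cases c : r ≤ e / 2
    · have := key T (n := T + T + 1) (by omega)
      omega
    · obtain ⟨S, rfl⟩ : ∃ S, T = S + 1 := ⟨T - 1, by omega⟩
      have := key S (n := S + 1 + (S + 1) + 1) (by omega)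
      push_cast at this h1 h2
      rw [mul_add] at this hd h1 h2
      omega
  · obtain ⟨S, rfl⟩ : ∃ S, T = S + 2 := ⟨T - 2, by omega⟩
    have h4 := w_ker h3 (e := e) (by rw [hp]; exact Z_pow (by omega) (by omega))
    rw [sum_range_succ, sum_range_add, sum_eq_zero fun a ha => Nat.le_zero.1 ((w_shift h3 _).trans (by
      have : e * (a + 1) ≤ e * (S + 2) := Nat.mul_le_mul_left e (mem_range.1 ha)
      rw [mul_add e a] at this
      omega)), sum_range_succ, sum_range_succ'] at h1
    have c1 : ∀ a : ℕ, (r : ℤ) + e * ((S + 2 + a : ℕ) : ℤ) - e * ((S + 2 : ℕ) : ℤ) = (r + e * a : ℕ) :=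
      fun a => by push_cast; ring
    simp only [c1] at h1
    rw [mul_add] at hd
    have h5 := sum_le_card_nsmul (range S) (fun a => w W (r + e * (a + 1) : ℕ)) e fun a ha => by
      have : e * (a + 1) ≤ e * S := Nat.mul_le_mul_left e (mem_range.1 ha)
      have := h4 (r + e * (a + 1) : ℕ)
      omega
    have a1 : w W (r + e * 0 : ℕ) ≤ r := by
      have := h4 (r + e * 0 : ℕ)
      omega
    have a2 : w W (r + e * (S + 1) : ℕ) ≤ e ∧ w W (r + e * (S + 1) : ℕ) ≤ e + 1 - r := by
      have := h4 (r + e * (S + 1) : ℕ)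
      have := w_le (W := W) (r + e * (S + 1) : ℕ)
      rw [mul_add] at *
      omega
    have a3 : w W (r + e * (S + 2) : ℕ) ≤ 1 - r := by
      have := w_le (W := W) (r + e * (S + 2) : ℕ)
      rw [mul_add] at *
      omega
    rw [card_range, smul_eq_mul, mul_comm S e] at h5
    omega

end H84.LA
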