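import Cfsg.Agent.H64.SFSpec

/-! STD-F4 job `P2b`, part 1: translations of `t X_r`, for an abstract family of root elements. -/

set_option autoImplicit false
set_option linter.unusedSectionVars false

namespace H84.SP

open Subgroup H64.SF
open H64.SG (Cz mem_Cz)
open H67.SA (cm)
open H46.SF (sh)

universe u

/-- `ω` acts on the roots as an element of the Weyl group. -/
structure Wy (ω : ℕ → ℕ) : Prop where
  lt : ∀ r < 48, ω r < 48
  sh : ∀ r < 48, sh (ω r) = sh r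
  ip : ∀ r < 48, ∀ s < 48, ip (ω r) (ω s) = ip r s
  ad : ∀ r < 48, ∀ s < 48, ad r s < 48 → ω (ad r s) = ad (ω r) (ω s)
  sur : ∀ s < 48, ∃ r < 48, ω r = s

theorem mem_lY {r s : ℕ} : s ∈ lY r ↔ s < 48 ∧ (0 < ip r s ∨ ip r s = 0 ∧ sh s ≠ sh r) := by
  simp [lY]

theorem Wy.lY {ω : ℕ → ℕ} (h : Wy ω) {r s : ℕ} (hr : r < 48) (hs : s < 48) :
    ω s ∈ lY (ω r) ↔ s ∈ lY r := by
  rw [mem_lY, mem_lY, h.ip r hr s hs, h.sh r hr, h.sh s hs]
  exact and_congr_left fun _ => iff_of_true (h.lt s hs) hs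

theorem Wy.S {ω : ℕ → ℕ} (h : Wy ω) {r : ℕ} (hr : r < 48) : S (ω r) ↔ S r := by
  rw [H64.SF.S, H64.SF.S, h.sh r hr]
  exact and_congr_left fun _ => iff_of_true (h.lt r hr) hr

set_option synthInstance.maxSize 2000 in
theorem add_facts : ∀ s < 48, ∀ p < 48, sh s = true → sh p = true → ip s p = -2 →
    S (ad s p) ∧ ip (ad s p) s = 2 ∧ ip (ad s p) p = 2 ∧ p ≠ 47 - s ∧ ip s (ad s p) = 2 ∧
      ad p s = ad s p ∧ s ≠ 47 - p ∧ ip p s = -2 := by decide +kernel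

set_option synthInstance.maxSize 2000 in
theorem sub_facts : ∀ r < 48, ∀ s < 48, sh r = true → sh s = true → ip r s = 2 →
    ip s r = 2 ∧ ∃ p < 48, sh p = true ∧ ip s p = -2 ∧ ad s p = r := by decide +kernel

set_option synthInstance.maxSize 2000 in
theorem sum_facts : ∀ r < 48, sh r = true → 0 < ip r r ∧ (∃ s < 48, sh s = true ∧ ip r s = -2) ∧
    ∃ s < 48, sh s = true ∧ ip r s = 2 := by decide +kernel

/-- The roots of `Yl`. -/
def lL : List ℕ := [21, 22, 23, 24, 25, 26, 30, 31, 32, 37, 38, 39, 40, 41, 42, 43, 44, 45, 46, 47]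

variable {F : Type} [Field F] [CharP F 2] {G : Type u} [Group G]

/-- `w` centralises `Y_r`. -/
def CY (x : ℕ → F → G) (r : ℕ) (w : G) : Prop := ∀ s ∈ lY r, ∀ a, x s a * w = w * x s a

/-- `n` centralises `t` and permutes the root elements. -/
structure Mv (x : ℕ → F → G) (t n : G) (ω : ℕ → ℕ) : Prop extends Wy ω where
  nt : t * n = n * t
  cj : ∀ r < 48, ∀ a, n * x r a * n⁻¹ = x (ω r) a

/-- The facts that are used. -/
structure Env (x : ℕ → F → G) (t : G) (k : F) : Prop where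
  add : ∀ r < 48, ∀ a b, x r a * x r b = x r (a + b)
  inj : ∀ r < 48, ∀ a, x r a = 1 → a = 0
  c0 : ∀ r < 48, ∀ s < 48, 0 ≤ ip r s → ∀ a b, x r a * x s b = x s b * x r a
  c1 : ∀ r < 48, ∀ s < 48, sh r = sh s → ip r s < 0 → s ≠ 47 - r → ∀ a b,
    cm (x r a) (x s b) = x (ad r s) (a * b)
  c2 : ∀ r l, S r → L l → ip r l < 0 → ∀ a b,
    cm (x r a) (x l b) = x (ad r l) (a * b) * x (ad r (ad r l)) (a ^ 2 * b)
  xt : ∀ r < 48, ∀ a, x r a * t = t * x r a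
  tt : t * t = 1
  nt : ∀ r < 48, ∀ a, t ≠ x r a
  kY : ∀ w, t * w = w * t → CY x 44 w → ∃ a, w = x 44 a ∨ w = x 44 a * t
  kL : ∀ w, t * w = w * t → (∀ s ∈ lL, ∀ a, x s a * w = w * x s a) →
    ∃ a b, w = x 40 a * x 44 b ∨ w = x 40 a * x 44 b * t
  tr : ∀ c, ∃ w, CY x 44 w ∧ w * t * w⁻¹ = t * x 44 c ∧
    ∀ s, S s → ip 44 s = 0 → ∀ d, cm w (x s d) = x (ad 44 s) (k * c * d)
  mv : ∀ r s, S r → S s → ip r s = -2 → ∃ n ω, Mv x t n ω ∧ ω 44 = r ∧ ω 14 = s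

/-- `w` centralises `Y_r` and translates `t` by `x r c`. -/
def Tl (x : ℕ → F → G) (t : G) (r : ℕ) (w : G) (c : F) : Prop :=
  CY x r w ∧ w * t * w⁻¹ = t * x r c

variable {x : ℕ → F → G} {t : G} {k : F} {r s p : ℕ} {w w' y n : G} {c c' d : F} {ω : ℕ → ℕ}

theorem CY.mul (h : CY x r w) (h' : CY x r w') : CY x r (w * w') := fun s hs a =>
  Commute.mul_right (h s hs a) (h' s hs a)

theorem CY.inv (h : CY x r w) : CY x r w⁻¹ := fun s hs a => Commute.inv_right (h s hs a)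

theorem CY.pos (h : CY x r w) (hs : s < 48) (h1 : ip r s = 2) (a : F) : x s a * w = w * x s a :=
  h s (mem_lY.2 ⟨hs, .inl (by omega)⟩) a

theorem CY.self (h : CY x r w) (hr : S r) (a : F) : x r a * w = w * x r a :=
  h r (mem_lY.2 ⟨hr.1, .inl (sum_facts r hr.1 hr.2).1⟩) a

/-- For numerals. -/
theorem CY.nat (h : CY x r w) (s : ℕ) (a : F) (hs : s ∈ lY r := by decide +kernel) :
    Commute (x s a) w := h s hs a

theorem Mv.tl (m : Mv x t n ω) (hr : r < 48) : Tl x t (ω r) (n * w * n⁻¹) c ↔ Tl x t r w c := by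
  refine and_congr ⟨fun h s hs a => ?_, fun h s hs a => ?_⟩ ?_
  · have h1 := (mem_lY.1 hs).1
    have := h _ ((m.lY hr h1).2 hs) a
    rwa [← m.cj s h1, conj_mul, conj_mul, mul_left_inj, mul_right_inj] at this
  · obtain ⟨s, h1, rfl⟩ := m.sur s (mem_lY.1 hs).1
    rw [← m.cj s h1, conj_mul, conj_mul, h s ((m.lY hr h1).1 hs)]
  · have e : n * t * n⁻¹ = t := by rw [← m.nt, mul_inv_cancel_right]
    rw [← m.cj r hr]
    nth_rewrite 1 [← e]
    nth_rewrite 2 [← e]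
    rw [conj_mul, conj_mul, conj_inv, conj_mul, mul_left_inj, mul_right_inj]

theorem Mv.tl' (m : Mv x t n ω) (hr : r < 48) (h : Tl x t (ω r) w c) : Tl x t r (n⁻¹ * w * n) c :=
  (m.tl hr).1 (by simpa [mul_assoc] using h)

namespace Env

variable (E : Env x t k)
include E

theorem x_zero (hr : r < 48) : x r 0 = 1 := by
  have := E.add r hr 0 0
  rwa [add_zero, mul_eq_left] at this

theorem x_sq (hr : r < 48) (a : F) : x r a * x r a = 1 := by
  rw [E.add r hr, CharTwo.add_self_eq_zero, E.x_zero hr]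

theorem x_inv (hr : r < 48) (a : F) : (x r a)⁻¹ = x r a := inv_eq_of_mul_eq_one_right (E.x_sq hr a)

/-- For numerals. -/
theorem xc (r s : ℕ) (a b : F) (h : r < 48 ∧ s < 48 ∧ 0 ≤ ip r s := by decide +kernel) :
    Commute (x r a) (x s b) := E.c0 r h.1 s h.2.1 h.2.2 a b

theorem cj1 (hs : S s) (hp : S p) (h : ip s p = -2) (a b : F) :
    x p a * x s b * (x p a)⁻¹ = x s b * x (ad s p) (a * b) := by
  obtain ⟨h1, h2, -, -, -, h3, h4, h5⟩ := add_facts s hs.1 p hp.1 hs.2 hp.2 h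
  rw [← E.c0 _ h1.1 s hs.1 (by omega), ← h3, ← E.c1 p hp.1 s hs.1 (hp.2.trans hs.2.symm)
    (by omega) h4, cm, inv_mul_cancel_right]

theorem mv1 (hr : S r) : ∃ n ω, Mv x t n ω ∧ ω 44 = r := by
  obtain ⟨-, ⟨s, h1, h2, h3⟩, -⟩ := sum_facts r hr.1 hr.2
  obtain ⟨n, ω, m, e, -⟩ := E.mv r s hr ⟨h1, h2⟩ h3
  exact ⟨n, ω, m, e⟩

theorem tl_mul (hr : S r) (h : Tl x t r w c) (h' : Tl x t r w' c') :
    Tl x t r (w * w') (c + c') := by
  refine ⟨h.1.mul h'.1, ?_⟩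
  calc w * w' * t * (w * w')⁻¹ = w * (w' * t * w'⁻¹) * w⁻¹ := by group
    _ = w * t * w⁻¹ * (w * x r c') * w⁻¹ := by rw [h'.2]; group
    _ = _ := by rw [h.2, ← h.1.self hr, ← E.add r hr.1]; group

theorem tl_inv (hr : S r) (h : Tl x t r w c) : Tl x t r w⁻¹ c := by
  refine ⟨h.1.inv, ?_⟩
  calc w⁻¹ * t * w⁻¹⁻¹ = w⁻¹ * (t * x r c) * (x r c * w) := by
        rw [mul_assoc, mul_assoc, mul_assoc, ← mul_assoc (x r c), E.x_sq hr.1]; group
    _ = t * (w⁻¹ * (x r c * w)) := by rw [← h.2]; group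
    _ = _ := by rw [h.1.self hr, inv_mul_cancel_left]

theorem tl_div (hr : S r) (h : Tl x t r w c) (h' : Tl x t r w' c) : Tl x t r (w⁻¹ * w') 0 := by
  simpa [CharTwo.add_self_eq_zero] using E.tl_mul hr (E.tl_inv hr h) h'

theorem tl_x (hr : S r) (a : F) : Tl x t r (x r a) 0 :=
  ⟨fun v hv b => (E.c0 r hr.1 v (mem_lY.1 hv).1 (by have := (mem_lY.1 hv).2; omega) a b).symm, by
    rw [E.xt r hr.1, E.x_zero hr.1, mul_inv_cancel_right, mul_one]⟩

theorem tl_t (hr : S r) : Tl x t r t 0 :=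
  ⟨fun v hv b => E.xt v (mem_lY.1 hv).1 b, by rw [E.x_zero hr.1, mul_inv_cancel_right, mul_one]⟩

theorem tl_comm (hr : r < 48) (h : Tl x t r w 0) : t * w = w * t := by
  have := h.2
  rw [E.x_zero hr, mul_one, mul_inv_eq_iff_eq_mul] at this
  exact this.symm

theorem tl_ker (hr : S r) (h : Tl x t r w 0) : ∃ a, w = x r a ∨ w = x r a * t := by
  obtain ⟨n, ω, m, rfl⟩ := E.mv1 hr
  have h1 := m.tl' (by decide) h
  obtain ⟨a, e⟩ := E.kY _ (E.tl_comm (by decide) h1) h1.1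
  refine ⟨a, e.imp (fun e => ?_) fun e => ?_⟩
  · rw [← m.cj 44 (by decide), ← e]; group
  · rw [← m.cj 44 (by decide), mul_assoc, ← (Commute.inv_right m.nt).eq, ← mul_assoc, mul_assoc n,
      ← e]; group

theorem tl_zero (hr : r < 48) (h : Tl x t r w c) (e : t * w = w * t) : c = 0 := by
  have := h.2
  rw [← e, mul_inv_cancel_right, left_eq_mul] at this
  exact E.inj r hr _ this

theorem tl_all (hr : S r) (c : F) : ∃ w, Tl x t r w c := by
  obtain ⟨n, ω, m, rfl⟩ := E.mv1 hr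
  obtain ⟨w, h1, h2, -⟩ := E.tr c
  exact ⟨_, (m.tl (by decide)).2 ⟨h1, h2⟩⟩

theorem tc44 (h : Tl x t 44 w c) (hs : S s) (h0 : ip 44 s = 0) (d : F) :
    cm w (x s d) = x (ad 44 s) (k * c * d) := by
  obtain ⟨v, h1, h2, h3⟩ := E.tr c
  have h4 : Commute (v⁻¹ * w) (x s d) := by
    have c1 := fun a => E.c0 44 (by decide) s hs.1 h0.ge a d
    obtain ⟨a, e | e⟩ := E.tl_ker (by decide +kernel) (E.tl_div (by decide +kernel) ⟨h1, h2⟩ h)
    · exact e ▸ c1 a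
    · exact e ▸ Commute.mul_left (c1 a) (E.xt s hs.1 d).symm
  calc _ = v * (v⁻¹ * w * x s d) * (v⁻¹ * w)⁻¹ * v⁻¹ * (x s d)⁻¹ := by simp [cm, mul_assoc]
    _ = _ := by rw [h4.eq, ← h3 s hs h0, cm]; group

/-- The action on the orthogonal short roots. -/
theorem tc (hr : S r) (h : Tl x t r w c) (hs : S s) (h0 : ip r s = 0) (d : F) :
    cm w (x s d) = x (ad r s) (k * c * d) := by
  obtain ⟨n, ω, m, rfl⟩ := E.mv1 hr
  obtain ⟨s, h1, rfl⟩ := m.sur s hs.1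
  rw [m.ip 44 (by decide) s h1] at h0
  have h2 := (m.S h1).1 hs
  have h3 : ad 44 s < 48 :=
    (by decide +kernel : ∀ s < 48, sh s = true → ip 44 s = 0 → ad 44 s < 48) s h1 h2.2 h0
  rw [← m.ad 44 (by decide) s h1 h3, ← m.cj _ h3, ← E.tc44 (m.tl' (by decide) h) h2 h0, ← m.cj s h1]
  simp [cm, mul_assoc]

theorem step0 (hy : Tl x t 44 y d) (c : F) :
    ∃ w b, Tl x t 40 w (c * d) ∧ y⁻¹ * (x 14 c * y * (x 14 c)⁻¹) = w * x 44 b := by
  have s40 : S 40 := by decide +kernel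
  have s44 : S 44 := by decide +kernel
  have s14 : S 14 := by decide +kernel
  obtain ⟨w, hw⟩ := E.tl_all s40 (c * d)
  set u := y⁻¹ * (x 14 c * y * (x 14 c)⁻¹) with hu
  have u1 : u * t * u⁻¹ = t * x 40 (c * d) := by
    calc u * t * u⁻¹ = y⁻¹ * (x 14 c * (y * ((x 14 c)⁻¹ * t * x 14 c) * y⁻¹) * (x 14 c)⁻¹) * y := by
          rw [hu]; group
      _ = y⁻¹ * ((x 14 c * t) * (x 14 c)⁻¹ * (x 14 c * x 44 d * (x 14 c)⁻¹)) * y := by
          rw [mul_assoc (x 14 c)⁻¹, ← E.xt 14 s14.1, inv_mul_cancel_left, hy.2]; group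
      _ = (y⁻¹ * t * y⁻¹⁻¹) * y⁻¹ * (x 44 d * (x 40 (c * d) * y)) := by
          rw [E.xt 14 s14.1, mul_inv_cancel_right, E.cj1 s44 s14 (by decide +kernel),
            show ad 44 14 = 40 by decide +kernel]; group
      _ = _ := by
          rw [(E.tl_inv s44 hy).2, (hy.1.nat 40 _).eq, ← mul_assoc (x 44 d) y, (hy.1.nat 44 _).eq]
          calc t * x 44 d * y⁻¹ * (y * x 44 d * x 40 (c * d)) =
                t * (x 44 d * x 44 d) * x 40 (c * d) := by group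
            _ = _ := by rw [E.x_sq s44.1, mul_one]
  have key : ∀ v ∈ lL, v < 48 ∧ v ∈ lY 44 ∧ v ∈ lY 40 ∧ (0 ≤ ip 14 v ∨ ip 14 v < 0 ∧
      ad 14 v ∈ lY 44 ∧ v ≠ 47 - 14 ∧ (sh 14 = sh v ∨ sh v = false ∧ ad 14 (ad 14 v) ∈ lY 44)) := by
    decide +kernel
  have u2 : ∀ v ∈ lL, ∀ b, x v b * u = u * x v b := fun v hv b => by
    obtain ⟨v1, v2, -, v3⟩ := key v hv
    have h1 := hy.1 v v2 b
    have h2 : Commute (cm (x 14 c) (x v b) * x v b) y := Commute.mul_left (by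
      rcases v3 with v3 | ⟨v3, v4, v5, v6 | v6⟩
      · rw [H67.SA.cm_eq_one.2 (E.c0 14 s14.1 v v1 v3 c b)]; exact Commute.one_left y
      · rw [E.c1 14 s14.1 v v1 v6 v3 v5]; exact hy.1 _ v4 _
      · rw [E.c2 14 v s14 ⟨v1, v6.1⟩ v3]; exact Commute.mul_left (hy.1 _ v4 _) (hy.1 _ v6.2 _)) h1
    rw [cm, inv_mul_cancel_right, E.x_inv s14.1] at h2
    calc x v b * u = (x v b * y⁻¹) * (x 14 c * x 14 c)⁻¹ * x 14 c * y * (x 14 c)⁻¹ := by
          rw [hu, E.x_sq s14.1]; group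
      _ = y⁻¹ * (x 14 c * x 14 c) * (x 14 c)⁻¹ * (x 14 c * x v b * x 14 c * y) *
            (x 14 c * x 14 c)⁻¹ * x 14 c := by
        rw [(Commute.inv_right h1).eq, E.x_sq s14.1, E.x_inv s14.1]
        simp only [mul_one, inv_one, ← mul_assoc, mul_assoc _ (x 14 c) (x 14 c), E.x_sq s14.1]
      _ = _ := by
        rw [h2.eq, hu, E.x_sq s14.1, E.x_inv s14.1]
        simp only [mul_one, inv_one, ← mul_assoc, mul_assoc _ (x 14 c) (x 14 c), E.x_sq s14.1]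
  obtain ⟨a1, b, e⟩ := E.kL (w⁻¹ * u) (by
      calc t * (w⁻¹ * u) = w⁻¹ * (w * t * w⁻¹) * u := by group
        _ = _ := by rw [hw.2, ← u1]; group)
    fun v hv a => Commute.mul_right (hw.1.inv v (key v hv).2.2.1 a) (u2 v hv a)
  rcases e with e | e
  · refine ⟨w * x 40 a1, b, by simpa using E.tl_mul s40 hw (E.tl_x s40 a1), ?_⟩
    rw [mul_assoc, ← e, mul_inv_cancel_left]
  · refine ⟨w * x 40 a1 * t, b,
      by simpa using E.tl_mul s40 (E.tl_mul s40 hw (E.tl_x s40 a1)) (E.tl_t s40), ?_⟩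
    rw [mul_assoc, ← E.xt 44 s44.1, mul_assoc, ← mul_assoc (x 40 a1), ← e, mul_inv_cancel_left]

theorem step1 (hs : S s) (hp : S p) (h : ip s p = -2) (hy : Tl x t s y d) (c : F) :
    ∃ w b, Tl x t (ad s p) w (c * d) ∧ y⁻¹ * (x p c * y * (x p c)⁻¹) = w * x s b := by
  obtain ⟨n, ω, m, rfl, rfl⟩ := E.mv s p hs hp h
  obtain ⟨w, b, h1, h2⟩ := E.step0 (m.tl' (by decide) hy) c
  refine ⟨n * w * n⁻¹, b, ?_, ?_⟩
  · rw [← m.ad 44 (by decide) 14 (by decide) (by decide +kernel), show ad 44 14 = 40 by decide +kernel]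
    exact (m.tl (by decide)).2 h1
  · rw [← m.cj 44 (by decide), ← m.cj 14 (by decide), conj_mul, ← h2]; group

theorem step20 (hy : Tl x t 44 y d) (c : F) :
    Tl x t 40 (y⁻¹ * (x 14 c * y * (x 14 c)⁻¹)) (c * d) := by
  have s40 : S 40 := by decide +kernel
  have s44 : S 44 := by decide +kernel
  have s11 : S 11 := by decide +kernel
  have s29 : S 29 := by decide +kernel
  have a1 : ad 44 11 = 37 := by decide +kernel
  obtain ⟨w1, b1, h1, e1⟩ := E.step1 s44 s11 (by decide +kernel) hy c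
  rw [a1] at h1
  obtain ⟨w2, b2, h2, e2⟩ := E.step0 hy c
  obtain ⟨w3, b3, h3, e3⟩ := E.step1 (by decide +kernel) s29 (by decide +kernel) h1 1
  rw [show ad 37 29 = 40 by decide +kernel] at h3
  have gy := E.tc44 hy s29 (by decide +kernel) 1
  have aw := E.tc s40 h2 s11 (by decide +kernel) c
  have az := E.c2 11 47 s11 (by decide +kernel) (by decide +kernel) c (k * d * 1)
  have ga := E.cj1 s11 s29 (by decide +kernel) 1 c
  have as := E.cj1 s44 s11 (by decide +kernel) c b2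
  rw [show ad 44 29 = 47 by decide +kernel] at gy
  rw [show ad 40 11 = 30 by decide +kernel] at aw
  rw [show ad 11 47 = 40 by decide +kernel, show ad 11 40 = 30 by decide +kernel,
    show c ^ 2 * (k * d * 1) = k * (c * d) * c by ring] at az
  rw [show ad 11 29 = 14 by decide +kernel, one_mul] at ga
  rw [a1] at as
  have gs := (E.xc 29 44 1 b1).eq
  have z1 := (hy.1.nat 47 (k * d * 1)).eq
  have z2 := (E.xc 47 14 (k * d * 1) c).eq
  have gy' : x 29 1 * y * (x 29 1)⁻¹ = y * (x 47 (k * d * 1))⁻¹ := by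
    rw [← (Commute.inv_left z1).eq, ← gy, cm]; group
  have aw' : x 11 c * w2 * (x 11 c)⁻¹ = (x 30 (k * (c * d) * c))⁻¹ * w2 := by
    rw [← aw, cm]; group
  have az' : x 11 c * (x 47 (k * d * 1))⁻¹ * (x 11 c)⁻¹ = (x 47 (k * d * 1))⁻¹ *
      (x 40 (c * (k * d * 1)) * x 30 (k * (c * d) * c))⁻¹ := by rw [← az, cm]; group
  have c30 : Commute (x 30 (k * (c * d) * c)) (w2 * (x 44 b2 * x 37 (c * b2))) :=
    (h2.1.nat 30 _).mul_right ((E.xc 30 44 _ _).mul_right (E.xc 30 37 _ _))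
  have c47 : Commute (x 47 (k * d * 1)) (w1 * x 44 b1 * (w2 * (x 44 b2 * x 37 (c * b2)))) :=
    ((h1.1.nat 47 _).mul_right (E.xc 47 44 _ _)).mul_right
      ((h2.1.nat 47 _).mul_right ((E.xc 47 44 _ _).mul_right (E.xc 47 37 _ _)))
  have c0 := (E.xc 30 47 (k * (c * d) * c) (k * d * 1)).inv_inv.eq
  have i30 := E.x_sq (r := 30) (by decide) (k * (c * d) * c)
  generalize x 47 (k * d * 1) = z at *
  generalize x 30 (k * (c * d) * c) = q at *
  generalize x 29 1 = g at *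
  have k1 : w1 * w3 * x 37 b3 * x 44 b1 =
      w1 * x 44 b1 * (w2 * (x 44 b2 * x 37 (c * b2))) * (x 40 (c * (k * d * 1)))⁻¹ := by
    calc w1 * w3 * x 37 b3 * x 44 b1 = g * w1 * g⁻¹ * x 44 b1 := by
          rw [mul_assoc w1, ← e3]; group
      _ = g * (w1 * x 44 b1) * g⁻¹ := by rw [mul_assoc (g * w1), (Commute.inv_left gs).eq]; group
      _ = (g * y * g⁻¹)⁻¹ * ((g * x 11 c * g⁻¹) * (g * y * g⁻¹) * (g * x 11 c * g⁻¹)⁻¹) := by
          rw [← e1]; group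
      _ = z * y⁻¹ * x 11 c * y * (y⁻¹ * (x 14 c * y * (z⁻¹ * (x 14 c)⁻¹))) * (x 11 c)⁻¹ := by
          rw [ga, gy']; group
      _ = z * y⁻¹ * x 11 c * y * (y⁻¹ * (x 14 c * y * (x 14 c)⁻¹)) * z⁻¹ * (x 11 c)⁻¹ := by
          rw [(Commute.inv_inv z2).eq]; group
      _ = z * (y⁻¹ * (x 11 c * y * (x 11 c)⁻¹)) * (x 11 c * w2 * (x 11 c)⁻¹) *
          (x 11 c * x 44 b2 * (x 11 c)⁻¹) * (x 11 c * z⁻¹ * (x 11 c)⁻¹) := by rw [e2]; group
      _ = z * (w1 * x 44 b1) * (q⁻¹ * (w2 * (x 44 b2 * x 37 (c * b2)))) * (z⁻¹ * q⁻¹) *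
          (x 40 (c * (k * d * 1)))⁻¹ := by rw [e1, aw', as, az']; group
      _ = z * (w1 * x 44 b1 * (w2 * (x 44 b2 * x 37 (c * b2)))) * (q * q)⁻¹ * z⁻¹ *
          (x 40 (c * (k * d * 1)))⁻¹ := by rw [c30.inv_left.eq, ← c0]; group
      _ = _ := by rw [c47.eq, i30]; group
  have k2 : w2⁻¹ * w3 = x 44 b2 * (x 37 (c * b2) * (x 40 (c * (k * d * 1)))⁻¹ * (x 37 b3)⁻¹) := by
    have c1 : Commute (x 44 b1) (w2 * (x 44 b2 * x 37 (c * b2)) * (x 40 (c * (k * d * 1)))⁻¹) :=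
      ((h2.1.nat 44 _).mul_right ((E.xc 44 44 _ _).mul_right (E.xc 44 37 _ _))).mul_right
        (E.xc 44 40 _ _).inv_right
    rw [mul_assoc (w1 * x 44 b1), mul_assoc w1 (x 44 b1), c1.eq, ← mul_assoc w1, mul_left_inj,
      mul_assoc, mul_right_inj, ← eq_mul_inv_iff_mul_eq] at k1
    rw [k1]; group
  have k3 := E.tc s40 (E.tl_div s40 h2 (by simpa using h3)) s11 (by decide +kernel) 1
  have cm1 := ((E.xc 11 37 1 (c * b2)).mul_right (E.xc 11 40 1 (c * (k * d * 1))).inv_right).mul_right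
    (E.xc 11 37 1 b3).inv_right
  rw [mul_zero, zero_mul, E.x_zero (by decide +kernel), H67.SA.cm_eq_one, k2] at k3
  generalize x 37 (c * b2) * (x 40 (c * (k * d * 1)))⁻¹ * (x 37 b3)⁻¹ = m at cm1 k3
  rw [mul_assoc, ← cm1.eq, ← mul_assoc, ← mul_assoc, mul_left_inj] at k3
  have k4 := E.cj1 s44 s11 (by decide +kernel) 1 b2
  rw [← k3, mul_inv_cancel_right, left_eq_mul, a1, one_mul] at k4
  rw [e2, E.inj 37 (by decide) _ k4, E.x_zero s44.1, mul_one]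
  exact h2

theorem step2 (hs : S s) (hp : S p) (h : ip s p = -2) (hy : Tl x t s y d) (c : F) :
    Tl x t (ad s p) (y⁻¹ * (x p c * y * (x p c)⁻¹)) (c * d) := by
  obtain ⟨n, ω, m, rfl, rfl⟩ := E.mv s p hs hp h
  have h1 := (m.tl (by decide)).2 (E.step20 (m.tl' (by decide) hy) c)
  rw [← m.ad 44 (by decide) 14 (by decide) (by decide +kernel), show ad 44 14 = 40 by decide +kernel,
    ← m.cj 14 (by decide)]
  convert h1 using 1
  group

theorem step3 (hs : S s) (hp : S p) (h : ip s p = -2) (hy : Tl x t s y d) (c : F) :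
    y⁻¹ * (x p c * y * (x p c)⁻¹) * (y⁻¹ * (x p c * y * (x p c)⁻¹)) = 1 := by
  have := (E.step2 hs hp h hy c).1.pos hp.1 (add_facts s hs.1 p hp.1 hs.2 hp.2 h).2.2.1 c
  calc _ = y⁻¹ * x p c * y * ((x p c)⁻¹ * (y⁻¹ * (x p c * y * (x p c)⁻¹))) := by group
    _ = y⁻¹ * (x p c * x p c) * y * ((x p c)⁻¹ * (x p c)⁻¹) := by
      rw [(Commute.inv_left this).eq]; group
    _ = 1 := by rw [E.x_inv hp.1, E.x_sq hp.1]; group

end Env

end H84.SP
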