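import Cfsg.Agent.H84.SfPa

/-! STD-F4 job `P2b`, part 2: the big root subgroups, for an abstract family of root elements. -/

set_option autoImplicit false
set_option linter.unusedSectionVars false

namespace H84.SP

open Subgroup H64.SF
open H67.SA (cm)
open H46.SF (sh)

universe u

variable {F : Type} [Field F] [CharP F 2] {G : Type u} [Group G]

/-- The elements of the big root subgroup. -/
def Il (x : ℕ → F → G) (t : G) (r : ℕ) (w : G) : Prop :=
  ∃ c, Tl x t r w c ∧ w * w = 1 ∧ (c = 0 → ∃ a, w = x r a)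

variable {x : ℕ → F → G} {t : G} {k : F} {r s p : ℕ} {w w' y n : G} {c c' d : F} {ω : ℕ → ℕ}

theorem Mv.il (m : Mv x t n ω) (hr : r < 48) : Il x t (ω r) (n * w * n⁻¹) ↔ Il x t r w := by
  refine exists_congr fun c => and_congr (m.tl hr) (and_congr ?_ (imp_congr_right fun _ =>
    exists_congr fun a => ?_))
  · rw [conj_mul, conj_eq_one_iff]
  · rw [← m.cj r hr, mul_left_inj, mul_right_inj]

/-- An element that centralises `t` and normalises every root subgroup. -/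
theorem il_tor (nt : t * n = n * t)
    (hn : ∀ r < 48, ∃ l : F, l ≠ 0 ∧ ∀ a, n * x r a * n⁻¹ = x r (l * a)) (hr : r < 48)
    (h : Il x t r w) : Il x t r (n * w * n⁻¹) := by
  obtain ⟨c, ⟨h1, h2⟩, h3, h4⟩ := h
  obtain ⟨l, l0, hl⟩ := hn r hr
  have e : n * t * n⁻¹ = t := by rw [← nt, mul_inv_cancel_right]
  refine ⟨l * c, ⟨fun s hs a => ?_, ?_⟩, by rw [conj_mul, h3, mul_one, mul_inv_cancel], fun e0 => ?_⟩
  · obtain ⟨m, m0, hm⟩ := hn s (mem_lY.1 hs).1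
    rw [← mul_inv_cancel_left₀ m0 a, ← hm, conj_mul, conj_mul, h1 s hs]
  · rw [← hl]
    nth_rewrite 1 [← e]
    nth_rewrite 2 [← e]
    rw [conj_mul, conj_mul, conj_inv, conj_mul, h2]
  · obtain ⟨a, rfl⟩ := h4 ((mul_eq_zero.1 e0).resolve_left l0)
    exact ⟨_, hl a⟩

namespace Env

variable (E : Env x t k)
include E

theorem il_x (hr : S r) (a : F) : Il x t r (x r a) :=
  ⟨0, E.tl_x hr a, E.x_sq hr.1 a, fun _ => ⟨a, rfl⟩⟩

theorem il_comm (hs : S s) (hp : S p) (h : ip s p = -2) (hy : Il x t s y) (c : F) :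
    Il x t (ad s p) (y⁻¹ * (x p c * y * (x p c)⁻¹)) := by
  obtain ⟨d, h1, -, h3⟩ := hy
  refine ⟨_, E.step2 hs hp h h1 c, E.step3 hs hp h h1 c, fun e => ?_⟩
  rcases mul_eq_zero.1 e with rfl | rfl
  · exact ⟨0, by rw [E.x_zero hp.1, E.x_zero (add_facts s hs.1 p hp.1 hs.2 hp.2 h).1.1]; simp⟩
  · obtain ⟨b, rfl⟩ := h3 rfl
    exact ⟨_, by rw [E.cj1 hs hp h, inv_mul_cancel_left]⟩

/-- Two involutions with the same translation differ by an element of `X r`. -/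
theorem same (hr : S r) (h1 : Tl x t r w c) (h2 : Tl x t r w' c) (ww : w * w = 1)
    (ww' : w' * w' = 1) (c0 : c ≠ 0) : ∃ a, w' = w * x r a := by
  obtain ⟨a, e | e⟩ := E.tl_ker hr (E.tl_div hr h1 h2)
  · exact ⟨a, by rw [← e, mul_inv_cancel_left]⟩
  · exfalso
    have e' : w' = w * x r a * t := by rw [mul_assoc, ← e, mul_inv_cancel_left]
    refine c0 (E.inj r hr.1 c (mul_left_cancel (a := t) ?_))
    have h3 := h1.1.self hr a
    rw [← h1.2, inv_eq_of_mul_eq_one_right ww, mul_one]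
    have c1 : Commute (x r a) (t * w) := Commute.mul_right (E.xt r hr.1 a) h3
    calc w * t * w = w * (x r a * x r a) * (t * w) * (t * t) := by rw [E.x_sq hr.1, E.tt]; group
      _ = w * x r a * (x r a * (t * w)) * t * t := by group
      _ = (w * x r a * t * (w * x r a * t)) * t := by rw [c1.eq]; group
      _ = t := by rw [← e', ww', one_mul]

theorem il_col (hr : S r) (hs : S s) (rs : ip r s = 2) (hw : Il x t r w) (hy : Il x t s y) :
    y * w = w * y := by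
  obtain ⟨sr, p, p1, p2, sp, rfl⟩ := sub_facts r hr.1 s hs.1 hr.2 hs.2 rs
  obtain ⟨e, w1, w2, w3⟩ := hw
  obtain ⟨d, y1, y2, y3⟩ := hy
  by_cases e0 : e = 0
  · obtain ⟨b, rfl⟩ := w3 e0
    exact (y1.1.pos hr.1 sr b).symm
  by_cases d0 : d = 0
  · obtain ⟨b, rfl⟩ := y3 d0
    exact w1.1.pos hs.1 rs b
  have k1 := E.step2 hs ⟨p1, p2⟩ sp y1 (e / d)
  have k2 := E.step3 hs ⟨p1, p2⟩ sp y1 (e / d)
  rw [div_mul_cancel₀ e d0] at k1
  obtain ⟨a, rfl⟩ := E.same hr k1 w1 k2 w2 e0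
  refine Commute.mul_right ?_ (y1.1.pos hr.1 sr a).symm
  set z := x p (e / d) * y * (x p (e / d))⁻¹ with hz
  have zz : z * z = 1 := by rw [hz, conj_mul, y2, mul_one, mul_inv_cancel]
  have yi := inv_eq_of_mul_eq_one_right y2
  rw [yi] at k2 ⊢
  have : z * y = y * z := by
    rw [← inv_eq_of_mul_eq_one_right k2, mul_inv_rev, yi, inv_eq_of_mul_eq_one_right zz]
  show y * (y * z) = y * z * y
  rw [mul_assoc, this]

theorem il_onto (hr : S r) (c : F) : ∃ w, Il x t r w ∧ Tl x t r w c := by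
  by_cases c0 : c = 0
  · exact ⟨_, E.il_x hr 0, c0 ▸ E.tl_x hr 0⟩
  obtain ⟨-, -, s, s1, s2, rs⟩ := sum_facts r hr.1 hr.2
  obtain ⟨-, p, p1, p2, sp, rfl⟩ := sub_facts r hr.1 s s1 hr.2 s2 rs
  obtain ⟨y, hy⟩ := E.tl_all ⟨s1, s2⟩ c
  have := E.step2 ⟨s1, s2⟩ ⟨p1, p2⟩ sp hy 1
  rw [one_mul] at this
  exact ⟨_, ⟨c, this, E.step3 ⟨s1, s2⟩ ⟨p1, p2⟩ sp hy 1, fun e => absurd e c0⟩, this⟩

theorem il_ab (hr : S r) (hw : Il x t r w) (hw' : Il x t r w') : w * w' = w' * w := by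
  obtain ⟨e, w1, w2, w3⟩ := hw
  have ⟨e', v1, _⟩ := hw'
  by_cases e0 : e = 0
  · obtain ⟨b, rfl⟩ := w3 e0
    exact v1.1.self hr b
  obtain ⟨-, -, s, s1, s2, rs⟩ := sum_facts r hr.1 hr.2
  obtain ⟨-, p, p1, p2, sp, rfl⟩ := sub_facts r hr.1 s s1 hr.2 s2 rs
  obtain ⟨y, hy, y1⟩ := E.il_onto ⟨s1, s2⟩ e
  have k1 := E.step2 ⟨s1, s2⟩ ⟨p1, p2⟩ sp y1 1
  have k2 := E.step3 ⟨s1, s2⟩ ⟨p1, p2⟩ sp y1 1
  rw [one_mul] at k1
  obtain ⟨a, rfl⟩ := E.same hr k1 w1 k2 w2 e0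
  have c1 : Commute y w' := E.il_col hr ⟨s1, s2⟩ rs hw' hy
  have c2 : Commute (x p 1) w' := v1.1.pos p1 (add_facts s s1 p p1 s2 p2 sp).2.2.1 1
  exact (c1.inv_left.mul_left ((c2.mul_left c1).mul_left c2.inv_left)).mul_left (v1.1.self hr a)

theorem il_nt (hr : r < 48) : ¬ Il x t r t := by
  rintro ⟨c, h1, -, h3⟩
  obtain ⟨a, e⟩ := h3 (E.tl_zero hr h1 rfl)
  exact E.nt r hr a e

theorem il_mul (hr : S r) (hw : Il x t r w) (hw' : Il x t r w') : Il x t r (w * w') := by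
  have ab := E.il_ab hr hw hw'
  obtain ⟨c, w1, w2, w3⟩ := hw
  obtain ⟨c', v1, v2, v3⟩ := hw'
  refine ⟨_, E.tl_mul hr w1 v1, ?_, fun e => ?_⟩
  · calc w * w' * (w * w') = w * (w' * w) * w' := by group
      _ = (w * w) * (w' * w') := by rw [← ab]; group
      _ = 1 := by rw [w2, v2, mul_one]
  · have : c' = c := by rw [← CharTwo.neg_eq c]; exact eq_neg_of_add_eq_zero_right e
    subst this
    by_cases c0 : c' = 0
    · obtain ⟨a, rfl⟩ := w3 c0
      obtain ⟨b, rfl⟩ := v3 c0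
      exact ⟨_, E.add r hr.1 a b⟩
    · obtain ⟨a, rfl⟩ := E.same hr w1 v1 w2 v2 c0
      exact ⟨a, by rw [← mul_assoc, w2, one_mul]⟩

/-- The big root subgroup. -/
def AA (r : ℕ) : Subgroup G where
  carrier := {w | S r → Il x t r w}
  one_mem' := fun hr => by simpa [E.x_zero hr.1] using E.il_x hr 0
  inv_mem' := fun {w} hw hr => by
    have ⟨_, _, h2, _⟩ := hw hr
    rw [inv_eq_of_mul_eq_one_right h2]
    exact hw hr
  mul_mem' := fun hw hw' hr => E.il_mul hr (hw hr) (hw' hr)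

theorem mem_AA (hr : S r) : w ∈ E.AA r ↔ Il x t r w := ⟨fun h => h hr, fun h _ => h⟩

theorem intr (hr : S r) (h : Tl x t r w c) : Il x t r w ∨ Il x t r (w * t) := by
  obtain ⟨a, a1, a2⟩ := E.il_onto hr c
  obtain ⟨b, e | e⟩ := E.tl_ker hr (E.tl_div hr a2 h)
  · left
    rw [inv_mul_eq_iff_eq_mul.1 e]
    exact E.il_mul hr a1 (E.il_x hr b)
  · right
    rw [inv_mul_eq_iff_eq_mul.1 e, mul_assoc, mul_assoc, E.tt, mul_one]
    exact E.il_mul hr a1 (E.il_x hr b)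

theorem il_neg (hr : S r) (hs : S s) (h : ip r s = -2) (hw : Il x t r w) (d : F) :
    Il x t (ad r s) (cm w (x s d)) := by
  have := E.il_comm hr hs h hw d
  obtain ⟨_, _, h2, _⟩ := hw
  have ai := inv_eq_of_mul_eq_one_right h2
  rw [ai, ← mul_assoc, ← mul_assoc] at this
  rwa [cm, ai]

end Env

end H84.SP
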