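import Cfsg.Agent.H25.TEP

/-! TE2-L1, part 1: an element moving `R` inside `R Z` and acting trivially on `Z` and `U / Z`. -/

set_option autoImplicit false
set_option linter.unusedSectionVars false

namespace H84.TL

open Subgroup Cfsg H98 H14 H1.Gold H86.L34 H6 H88.AS H88.TE H25.TE

universe u

variable {G : Type u} [Group G] [Finite G] {d : Dt G} {big : Bool} {R : Subgroup G} {r : F4 → G}

theorem ph0 : Ph big 0 := .inr (.inl rfl)

theorem ph1 : Ph big 1 := .inr (.inr rfl)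

/-- The action of `x` on `Z`, `V₁`, `V₂` and `R`. -/
structure Ac (d : Dt G) (big : Bool) (r : F4 → G) (x : G) (φ ψ : F4 → F4) (δ : F4) : Prop where
  hz : ∀ e, x * d.z e * x⁻¹ = d.z e
  h1 : ∀ a, x * d.u a 0 0 * x⁻¹ = d.u a 0 (φ a)
  h2 : ∀ b, x * d.u 0 b 0 * x⁻¹ = d.u 0 b (ψ b)
  hr : ∀ c, Ph big c → x * r c * x⁻¹ = r c * d.z (c * δ)

theorem scal : ∀ p q : F4, p ≠ 0 → q ≠ 0 → p + q ≠ 0 → p ≠ 1 → q ≠ F4.w → p + q ≠ F4.v →
    q = p * F4.w := by decide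

theorem lin : ∀ p q l : F4, p + F4.w * q + F4.v * (p + q) = l →
    q + F4.w * (p + q) + F4.v * p = l * F4.w → q = p * F4.w := by decide

theorem add_ext {f : F4 → F4} (h : ∀ a b, f (a + b) = f a + f b) (h1 : f F4.w = f 1 * F4.w) (a : F4) :
    f a = f 1 * a := by
  cases a
  · have := h 0 0
    rw [add_zero, F4.add_self] at this
    exact this.trans (mul_zero _).symm
  · exact (mul_one _).symm
  · exact h1
  · show f (1 + F4.w) = f 1 * (1 + F4.w)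
    rw [h, h1, mul_add, mul_one]

section

variable (h : Fr d) (hp : Pr d big R r)
include h hp

theorem rK {c : F4} (hc : Ph big c) : r c ∈ d.K := hp.syl.le ((hp.mem _).2 ⟨c, hc, rfl⟩)

theorem r0 : r 0 = 1 := by simpa using hp.add 0 0 ph0 ph0

theorem rr {c : F4} (hc : Ph big c) : r c * r c = 1 := by
  rw [← hp.add c c hc hc, F4.add_self, r0 h hp]

theorem or {c : F4} (hc : Ph big c) (h0 : c ≠ 0) : orderOf (r c) = 2 :=
  orderOf_two_of_mul_self (rr h hp hc) fun e => h0 (hp.inj c hc e)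

theorem elR : El R := fun x hx => by
  obtain ⟨c, hc, rfl⟩ := (hp.mem x).1 hx
  exact rr h hp hc

theorem exists_od : ∃ O, Od d R O := by
  have h1 : R ≤ d.K ⊓ cen R := le_inf hp.syl.le (H99.Wr.El.le_cen (elR h hp))
  obtain ⟨h2, h3⟩ := H99.Wr.dec_of_central (hp.syl.of_le h1 inf_le_left)
    fun x hx y hy => (hy.2 x hx).symm
  refine ⟨_, res_le _, h2, fun k hk ho => mem_res_of_coprime hk (Nat.coprime_two_right.2 ho),
    fun k hk => ?_⟩
  obtain ⟨w, hw, o, ho, rfl⟩ := h3 k hk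
  exact ⟨o, ho, w, hw, (res_le _ ho).2 w hw⟩

theorem memN {x : G} (hx : x * r 1 * x⁻¹ = r 1) : x ∈ d.N := by
  have := cen_le h.toFr0 (g := 1) ((cj_one d.K).ge (rK h hp ph1)) (or h hp ph1 one_ne_zero)
    (eq_mul_of_mul_inv_eq hx)
  rwa [cj_one, ← nK h.toFr0] at this

theorem ki {c : F4} (hc : Ph big c) (h0 : c ≠ 0) {a : G} (ha : a ∈ d.A) (h2 : a * a = 1) :
    KI d.K (r c * a) := by
  have k1 := rK h hp hc
  refine ⟨orderOf_two_of_mul_self (by
    rw [mul_assoc, ← mul_assoc a, k1 a ha, mul_assoc, h2, mul_one, rr h hp hc]) fun e =>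
      h0 (hp.inj c hc (AK h.toFr0 (by rw [eq_inv_of_mul_eq_one_left e]; exact inv_mem ha) k1
        (rr h hp hc))), ?_⟩
  by_cases e : a = 1
  · exact ⟨1, by rwa [e, mul_one, cj_one]⟩
  obtain ⟨g, -, hg⟩ := hp.tw
  obtain ⟨b, hb, rfl⟩ := h.cls a ha (orderOf_two_of_mul_self h2 e)
  obtain ⟨b', hb', e'⟩ := h.cls _ (h.uA 0 0 c) (oz h.toFr0 h0)
  refine ⟨b * b'⁻¹ * g, ?_⟩
  have := conj_mem_cj (g := b * b'⁻¹) (hg c hc)
  rw [cj_cj, ← conj_mul, k1 _ (mul_mem hb (inv_mem hb')), mul_inv_cancel_right, Dt.z, ← e'] at this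
  convert this using 2
  group

theorem V_le {g : G} (hg : ∀ c, Ph big c → r c * d.z c ∈ cj g d.K) {V : Subgroup G} (hV : V ≤ h.hm.S)
    (el : El V) (c : Nat.card V = 16) : V ≤ cj g d.A := fun x hx => by
  have h0 := h.toFr0
  have hA := hV.trans (S_le h0)
  have cm : ∀ a ∈ R, ∀ b ∈ V, a * b = b * a := fun a ha b hb => (hp.syl.le ha b (hA hb)).symm
  have nr : R ≤ nor V := fun a ha => centralizer_le_normalizer _ fun b hb => (cm a ha b hb).symm
  have cE := H99.card_sup_mul_card_inf_of_le_normalizer nr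
  rw [show R ⊓ V = ⊥ from eq_bot_iff.2 fun a ha => AK h0 (hA ha.2) (hp.syl.le ha.1) (el a ha.2),
    card_bot, mul_one, c] at cE
  have o1 := (ki h hp ph1 one_ne_zero (h.uA 0 0 1) (zz h0 1)).1
  obtain ⟨t, ⟨t1, t2⟩, t3⟩ := split h (g := g) (E := R ⊔ V) (sup_le
    (fun a ha => cen_le h0 (hg 1 ph1) o1 (by
      rw [← mul_assoc, H99.Wr.El.comm (elR h hp) ha ((hp.mem _).2 ⟨1, ph1, rfl⟩), mul_assoc,
        Ku h0 (hp.syl.le ha), mul_assoc]))
    fun a ha => cen_le h0 (hg 1 ph1) o1 (by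
      obtain ⟨a, b, c, rfl⟩ := hV ha
      rw [mul_assoc, zu h0, ← mul_assoc, ← mul_assoc, Ku h0 (rK h hp ph1)]))
    (H99.Wr.El.sup (elR h hp) el cm) (fun X h1 h2 => by
      have := hp.syl.card_le (H99.Wr.El.two h2) h1
      omega) (mem_sup_right hx)
  obtain ⟨s, hs, v, hv, rfl⟩ := (mem_sup_left_norm nr).1 t1
  obtain ⟨c, hc, rfl⟩ := (hp.mem s).1 hs
  obtain rfl : c = 0 := by
    by_contra e
    obtain ⟨k1, g', k2⟩ := ki h hp hc e (hA (mul_mem (inv_mem hv) hx)) (el _ (mul_mem (inv_mem hv) hx))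
    rw [mul_inv_rev, H99.Wr.inv_of_sq (rr h hp hc), rK h hp hc _ (hA (inv_mem hv)), mul_assoc] at t3
    exact hp.noKI _ (mem_cj.1 t3) ⟨by rw [← k1, ← orderOf_conj' g⁻¹ (r c * _), inv_inv], g⁻¹ * g', by
      rw [← cj_cj, mem_cj, inv_inv]; simpa [mul_assoc] using k2⟩
  rw [r0 h hp, one_mul] at t2 t3
  obtain rfl : v = 1 := by_contra fun e =>
    hp.noKI v (hA hv) ⟨orderOf_two_of_mul_self (el v hv) e, g, t2⟩
  simpa using t3

theorem exists_y : ∃ y ∈ nor h.hm.S, ∀ c, Ph big c →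
    y * d.h * y⁻¹ * (r c * d.z c) * (y * d.h * y⁻¹)⁻¹ = r c * d.z c := by
  obtain ⟨g, -, hg⟩ := hp.tw
  have hm := h.hm
  have c4 : Nat.card F4 = 4 := by rw [Nat.card_eq_fintype_card]; rfl
  have h1 : h.hm.S ≤ cj g d.A := hm.sup.ge.trans (sup_le
    (V_le h hp hg hm.A_le (fun x hx => (pow_two x).symm.trans (hm.elA.2 x hx)) (by rw [hm.card_A, c4]))
    (V_le h hp hg hm.B_le (fun x hx => (pow_two x).symm.trans (hm.elB.2 x hx))
      (by rw [← hm.swap_A, hm.swap.card_A, c4])))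
  have h2 := h.syl
  rw [U_eq h.toFr0] at h2
  obtain ⟨a, ha, h3⟩ := (h2.cj g).exists_le_cj h2.isPGroup h1
  rw [cj_cj] at h3
  refine ⟨a * g, cj_eq_self_iff.1 (eq_of_le_of_card_ge h3 (card_cj _ _).le).symm, fun c hc => ?_⟩
  have h4 : a * g * d.h * (a * g)⁻¹ ∈ cj g d.A := by
    have := conj_mem_cj (g := a * g) h.hA
    rwa [← cj_cj, cj_eq_self_of_mem ha] at this
  exact mul_inv_eq_of_eq_mul ((cj_centralizer g d.A).le (hg c hc) _ h4)

theorem exists_ac : ∃ x φ ψ δ, δ ≠ 0 ∧ Ac d big r x φ ψ δ := by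
  obtain ⟨y, hy, hr⟩ := exists_y h hp
  have hm := h.hm
  have h0 := h.toFr0
  have e : ∀ s, y * d.h * y⁻¹ * (y * s * y⁻¹) * (y * d.h * y⁻¹)⁻¹ = y * (d.h * s * d.h⁻¹) * y⁻¹ :=
    fun s => by group
  have dn : ∀ a b c, ∃ a' b' c', d.u a b c = y * d.u a' b' c' * y⁻¹ := fun a b c => by
    obtain ⟨a', b', c', e⟩ := cmn' hy (hm.mem_S a b c)
    exact ⟨a', b', c', by rw [e]; group⟩
  have up : ∀ a b c, ∃ a' b' c', y * d.u a b c * y⁻¹ = d.u a' b' c' := fun a b c => by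
    obtain ⟨a', b', c', e⟩ := cmn hy (hm.mem_S a b c)
    exact ⟨a', b', c', e.symm⟩
  have cen : ∀ a b c, (∀ a' b' c', d.u a' b' c' * d.u a b c = d.u a b c * d.u a' b' c') →
      a = 0 ∧ b = 0 := fun a b c r => by
    have r1 := r 1 0 0
    have r2 := r 0 1 0
    rw [hm.mul, hm.mul] at r1 r2
    exact ⟨by simpa using (hm.ext r2).2.2, by simpa using (hm.ext r1).2.2⟩
  have zd : ∀ a b c e, d.z e = y * d.u a b c * y⁻¹ → a = 0 ∧ b = 0 := fun a b c e r =>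
    cen a b c fun a' b' c' => by
      obtain ⟨a₁, b₁, c₁, r1⟩ := up a' b' c'
      have := zu h0 e a₁ b₁ c₁
      rw [r, ← r1, conj_mul, conj_mul] at this
      simpa using this.symm
  have zu' : ∀ a b c e, d.u a b c = y * d.z e * y⁻¹ → a = 0 ∧ b = 0 := fun a b c e r =>
    cen a b c fun a' b' c' => by
      obtain ⟨a₁, b₁, c₁, r1⟩ := dn a' b' c'
      rw [r, r1, conj_mul, conj_mul, zu h0]
  set h' := y * d.h * y⁻¹
  have act : ∀ a b c, ∃ a' b' c', h' * d.u a b c * h'⁻¹ = d.u a' b' c' ∧ a * b' = b * a' ∧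
      (a' = a → b' = b → a = 0 ∧ b = 0) := fun a b c => by
    obtain ⟨a₁, b₁, c₁, r1⟩ := dn a b c
    obtain ⟨a', b', c', r2⟩ := up (F4.v * a₁) (F4.v * b₁) (F4.w * c₁)
    refine ⟨a', b', c', by rw [r1, e, h.hu, r2], ?_, ?_⟩
    · have : d.u a b c * d.u a' b' c' = d.u a' b' c' * d.u a b c := by
        rw [r1, ← r2, conj_mul, conj_mul, hm.mul, hm.mul]
        exact congrArg (y * · * y⁻¹) (cg d.u (add_comm _ _) (add_comm _ _) (by ring))
      rw [hm.mul, hm.mul] at this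
      linear_combination (hm.ext this).2.2
    · rintro rfl rfl
      have r3 : d.z (c' + c) = y * d.u (F4.v * a₁ + a₁) (F4.v * b₁ + b₁)
          (F4.w * c₁ + (c₁ + a₁ * b₁) + F4.v * a₁ * b₁) * y⁻¹ := by
        rw [← hm.mul, ← hm.inv, ← conj_mul, r2, ← conj_inv, ← r1, hm.inv, hm.mul]
        exact cg d.u (by simp) (by simp) (by linear_combination (-(a' * b')) * F4.two_eq)
      obtain ⟨q1, q2⟩ := zd _ _ _ _ r3
      have q : ∀ t : F4, F4.v * t + t = 0 → t = 0 := by decide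
      rw [q _ q1, q _ q2] at r1
      exact zu' _ _ _ _ r1
  have az : ∀ c, ∃ c', h' * d.z c * h'⁻¹ = d.z c' ∧ (c' = 0 → c = 0) ∧ (c' = c → c = 0) := fun c => by
    obtain ⟨a₁, b₁, c₁, r1⟩ := dn 0 0 c
    obtain ⟨rfl, rfl⟩ := zd _ _ _ _ r1
    obtain ⟨a', b', c', r2⟩ := up 0 0 (F4.w * c₁)
    obtain ⟨rfl, rfl⟩ := zu' _ _ _ _ r2.symm
    have r3 : h' * d.z c * h'⁻¹ = d.z c' := by rw [Dt.z, r1, e, h.hu, mul_zero, r2]
    refine ⟨c', r3, fun q => ?_, fun q => ?_⟩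
    · rw [q, Dt.z, Dt.z, hm.one, conj_eq_one_iff] at r3
      exact (hm.inj r3).2.2
    · rw [q, r1, mul_left_inj, mul_right_inj] at r2
      have q : ∀ t : F4, F4.w * t = t → t = 0 := by decide
      rw [q _ (hm.ext r2).2.2, hm.one, mul_one, mul_inv_cancel] at r1
      exact (hm.inj r1).2.2
  choose k k1 k2 k3 using az
  have k4 : ∀ a b, k (a + b) = k a + k b := fun a b => by
    have := k1 (a + b)
    rw [← z_add h0, ← conj_mul, k1, k1, z_add h0] at this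
    exact (hm.ext this).2.2.symm
  have k5 := add_ext k4 (scal _ _ (mt (k2 1) one_ne_zero) (mt (k2 _) (by decide))
    (by rw [← k4]; exact mt (k2 _) (by decide)) (mt (k3 1) one_ne_zero) (mt (k3 _) (by decide))
    (by rw [← k4]; exact mt (k3 _) (by decide)))
  have a1 : ∀ a, ∃ a' c', h' * d.u a 0 0 * h'⁻¹ = d.u a' 0 c' ∧ (a' = a → a = 0) := fun a => by
    by_cases q : a = 0
    · exact ⟨0, 0, by simp [q, hm.one], fun _ => q⟩
    obtain ⟨a', b', c', r1, r2, r3⟩ := act a 0 0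
    obtain rfl : b' = 0 := by simpa [q] using r2
    exact ⟨a', c', r1, fun r => (r3 r rfl).1⟩
  have a2 : ∀ b, ∃ b' c', h' * d.u 0 b 0 * h'⁻¹ = d.u 0 b' c' ∧ (b' = b → b = 0) := fun b => by
    by_cases q : b = 0
    · exact ⟨0, 0, by simp [q, hm.one], fun _ => q⟩
    obtain ⟨a', b', c', r1, r2, r3⟩ := act 0 b 0
    obtain rfl : a' = 0 := by simpa [q] using r2
    exact ⟨b', c', r1, fun r => (r3 rfl r).2⟩
  choose f p f1 f2 using a1
  choose f' p' g1 g2 using a2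
  have k6 : ∀ a b, k 1 * (a * b) = f a * f' b := fun a b => by
    have r1 := hm.comm a 0 0 0 b 0
    have r2 := k1 (a * b + 0 * 0)
    rw [Dt.z, ← r1, conjugate_commutatorElement, f1, g1, hm.comm, k5] at r2
    simpa using (hm.ext r2).2.2.symm
  have k7 : ∀ γ s t : F4, γ ≠ 0 → γ ≠ 1 → s ≠ 1 → t ≠ 1 → γ * (1 * 1) = s * t →
      (γ = F4.w ∨ γ = F4.v) ∧ (∀ a x, γ * (a * 1) = x * t → γ * x = a) ∧
        ∀ a x, γ * (1 * a) = s * x → γ * x = a := by decide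
  obtain ⟨k8, k9, k10⟩ := k7 _ _ _ (mt (k2 1) one_ne_zero) (mt (k3 1) one_ne_zero)
    (mt (f2 1) one_ne_zero) (mt (g2 1) one_ne_zero) (k6 1 1)
  obtain ⟨η, η1, η2⟩ : ∃ η ∈ d.A, ∀ a b c, η * d.u a b c * η⁻¹ =
      d.u (k 1 * a) (k 1 * b) (k 1 * k 1 * c) := by
    rcases k8 with q | q <;> rw [q]
    · refine ⟨d.h * d.h, mul_mem h.hA h.hA, fun a b c => ?_⟩
      rw [show d.h * d.h * d.u a b c * (d.h * d.h)⁻¹ = d.h * (d.h * d.u a b c * d.h⁻¹) * d.h⁻¹ by group,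
        h.hu, h.hu, ← mul_assoc, ← mul_assoc, ← mul_assoc]
      rfl
    · exact ⟨d.h, h.hA, h.hu⟩
  have e' : ∀ s, η * h' * s * (η * h')⁻¹ = η * (h' * s * h'⁻¹) * η⁻¹ := fun s => by group
  have k11 : k 1 * k 1 * k 1 = 1 ∧ k 1 * k 1 * (1 + k 1) = k 1 := by
    rcases k8 with q | q <;> rw [q] <;> decide
  refine ⟨η * h', fun a => k 1 * k 1 * p a, fun b => k 1 * k 1 * p' b, k 1, mt (k2 1) one_ne_zero,
    fun c => ?_, fun a => ?_, fun b => ?_, fun c hc => ?_⟩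
  · rw [e', k1, η2, k5 c, mul_zero, ← mul_assoc, k11.1, one_mul]
  · rw [e', f1, η2, k9 a _ (k6 a 1), mul_zero]
  · rw [e', g1, η2, k10 b _ (k6 1 b), mul_zero]
  · have r1 := hr c hc
    rw [← conj_mul, k1, ← eq_mul_inv_iff_mul_eq, H99.Wr.inv_of_sq (zz h0 _), mul_assoc (r c),
      z_add h0] at r1
    rw [e', r1, ← conj_mul, η2, rK h hp hc η η1, mul_inv_cancel_right, mul_zero, k5 c]
    exact congrArg (r c * d.z ·) (by linear_combination c * k11.2)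

end

end H84.TL
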