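/- Abelian large 2-subgroups from Timmesfeld's theorem (blueprints/TI.md, S2978). -/
import Cfsg.Agent.H84.TIR2
import Cfsg.Agent.H84.TIAn
import Cfsg.Agent.H66.TIB3
import Cfsg.Agent.H78.TIR1
import Cfsg.Agent.H78.TIElem
import Cfsg.Agent.H38.TIHe
import Cfsg.Agent.H89.AlmostSimple
import Cfsg.Agent.H98.Core
import Cfsg.Agent.H2.PrimeCore
import Cfsg.Agent.S0256

set_option autoImplicit false

universe u

namespace H84.TI

section Seven
open Equiv Equiv.Perm Finset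

theorem four_dvd {α : Type*} [Fintype α] [DecidableEq α] {a : Perm α} (h : a * a = 1) (s : sign a = 1) :
    4 ∣ a.support.card := by
  have : Fact (Nat.Prime 2) := ⟨Nat.prime_two⟩
  have e := cycleType_of_pow_prime_eq_one (p := 2) ((pow_two a).trans h)
  have e1 : a.support.card = Multiset.card a.cycleType * 2 := by
    rw [← sum_cycleType, e]; simp
  rw [sign_of_cycleType, sum_cycleType, neg_one_pow_eq_one_iff_even (by decide), e1] at s
  obtain ⟨k, hk⟩ := s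
  omega

theorem no7 (A : Subgroup (alternatingGroup (Fin 7))) (h0 : A ≠ ⊥) (sq : ∀ a ∈ A, a * a = 1)
    (nrm : ∀ a ∈ A, a ≠ 1 → H46.Cent1 a ≤ H46.Nrm A) (cen : H46.Cent A ≤ A) : False := by
  obtain ⟨a, ha, a1⟩ := A.bot_or_exists_ne_one.resolve_left h0
  have f := fun b hb => four_dvd (congrArg Subtype.val (sq b hb)) (mem_alternatingGroup.1 b.2)
  have c : (a : Perm (Fin 7)).supportᶜ.card = 3 := by
    have h1 := card_compl_add_card (a : Perm (Fin 7)).support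
    have h2 := f a ha
    have h3 : (a : Perm (Fin 7)).support.card ≠ 0 := fun e =>
      a1 (Subtype.ext (card_support_eq_zero.1 e))
    rw [Fintype.card_fin] at h1
    omega
  obtain ⟨x, hx, z, hz, w, hw, n1, n2, n3⟩ := two_lt_card.1 (c.ge : 2 < _)
  have fx : ∀ b ∈ A, ∀ x ∈ (a : Perm (Fin 7)).supportᶜ, b.1 x ∈ (a : Perm (Fin 7)).supportᶜ :=
    fun b hb x hx => by
      have := congrArg (·.1 x) (H66.WT.inv_of_sq (sq _ (A.mul_mem ha hb)))
      simp only [mul_inv_rev, H66.WT.inv_of_sq (sq a ha), H66.WT.inv_of_sq (sq b hb), Subgroup.coe_mul,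
        mul_apply] at this
      simp only [mem_compl, mem_support, not_not] at hx ⊢
      rw [← this, hx]
  let g : alternatingGroup (Fin 7) := ⟨c3 x z w, mem_alternatingGroup.2 (sign_c3 n1 n2)⟩
  have gN := nrm a ha a1 (H46.mem_cent1.2 (Subtype.ext (mul_inv_eq_iff_eq_mul.1 (by
    simp only [mem_compl, mem_support, not_not] at hx hz hw
    exact (conj_c3 _ _ _ _).trans (by rw [hx, hz, hw]))).symm) : g ∈ _)
  refine c3_sq_ne n1 n2 n3 (congrArg Subtype.val (sq g (cen (H46.mem_cent.2 fun b hb => ?_))))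
  have m := H66.WT.cm_mem_right hb gN
  have h1 : (H66.WT.cm g b).1.support ⊆ (a : Perm (Fin 7)).supportᶜ := by
    rw [show (H66.WT.cm g b).1 = c3 x z w * (b.1 * c3 x z w * b.1⁻¹)⁻¹ by simp [g, mul_assoc]]
    refine (support_mul_le _ _).trans (sup_le ?_ ?_)
    · exact (support_c3 _ _ _).trans (insert_subset hx (insert_subset hz (singleton_subset_iff.2 hw)))
    · rw [support_inv, conj_c3]
      exact (support_c3 _ _ _).trans (insert_subset (fx b hb x hx)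
        (insert_subset (fx b hb z hz) (singleton_subset_iff.2 (fx b hb w hw))))
  have h2 := card_le_card h1
  have h3 := f _ m
  exact (H66.WT.cm_eq_one.1 (Subtype.ext (card_support_eq_zero.1 (by omega)))).symm

end Seven

open Cfsg H46 Subgroup H66.WT

theorem s2978_of (hS : Simple.{u}) {G : Type u} [Group G] [Finite G] (S : Sylow 2 G) (Q : Subgroup G) (hQS : Q ≤ (S : Subgroup G)) (hQab : IsMulCommutative ↥Q) (hlarge : Cfsg.IsLarge Q) (hQb : Q = Cfsg.largeBullet 2 Q) (hnotuniq : ∃ R : Subgroup G, IsPGroup 2 ↥R ∧ R ≠ ⊥ ∧ (S : Subgroup G) ≤ Subgroup.normalizer (R : Set G) ∧ ¬ Subgroup.normalizer (R : Set G) ≤ Subgroup.normalizer (Q : Set G)) : (∃ (F : Type) (_ : Field F) (_ : Fintype F) (_ : CharP F 2) (n : ℕ), 3 ≤ n ∧ Nonempty (↥(Cfsg.generalizedFittingSubgroup G) ≃* Matrix.ProjectiveSpecialLinearGroup (Fin n) F)) ∨ Cfsg.Spor.IsoM22 ↥(Cfsg.generalizedFittingSubgroup G) ∨ Cfsg.Spor.IsoM23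 ↥(Cfsg.generalizedFittingSubgroup G) ∨ Cfsg.Spor.IsoM24 ↥(Cfsg.generalizedFittingSubgroup G) ∨ Nonempty (↥(Cfsg.generalizedFittingSubgroup G) ≃* alternatingGroup (Fin 6)) ∨ Nonempty (↥(Cfsg.generalizedFittingSubgroup G) ≃* alternatingGroup (Fin 9)) := by
  have : Fact (Nat.Prime 2) := ⟨Nat.prime_two⟩
  obtain ⟨R, R2, R1, SR, nR⟩ := hnotuniq
  have hc : Cent Q = Q := le_antisymm hlarge.1 fun a ha b hb =>
    congrArg Subtype.val (hQab.1.1 (⟨b, hb⟩ : Q) ⟨a, ha⟩)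
  have cen : ∀ a ∈ Q, a ≠ 1 → Cent1 a ≤ Nrm Q := fun a ha a1 => cent_zpowers a ▸
    (cent_le_nrm _).trans (hlarge.2 _ (zpowers_le.2 (hc.ge ha)) (by simpa using a1))
  have mx : ∀ T : Subgroup G, IsPGroup 2 ↥((S : Subgroup G) ⊔ T) → T ≤ S := fun T h =>
    le_sup_right.trans (S.is_maximal' h le_sup_left).le
  have RS : R ≤ S := mx R (IsPGroup.to_sup_of_normal_right' S.isPGroup' R2 SR)
  obtain ⟨z, zR, z1, zS⟩ := fix1 S.isPGroup' R2 R1 SR
  have zQ : z ∈ Q := hc.le fun t ht => zS t (hQS ht)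
  have SM : (S : Subgroup G) ≤ Nrm Q := fun t ht => cen z zQ z1 (mem_cent1.2 (zS t ht))
  have Q2 : IsPGroup 2 Q := S.isPGroup'.to_le hQS
  have wc : ∀ g, cj g Q ≤ Nrm Q → cj g Q = Q := fun g hg => by
    obtain ⟨n, hn, h1⟩ := syl SM hg S.isPGroup' (Q2.map _)
    replace h1 := mx _ h1
    rw [← cj_mul] at h1
    have h2 : z ∈ cj (n * g) Q := by
      rw [← hc, cj_cent]; exact fun t ht => zS t (h1 ht)
    have h3 : (S : Subgroup G) ≤ Nrm (cj (n * g) Q) := fun t ht => by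
      have := cj_mono (n * g) (cen _ (mem_cj.1 h2) fun e => z1 (conj_eq_one_iff.1
        (by rwa [inv_inv] : (n * g)⁻¹ * z * (n * g)⁻¹⁻¹ = 1)))
      rw [cj_nrm, cj_cent1] at this
      exact this (mem_cent1.2 (by simpa [mul_assoc] using zS t ht))
    obtain ⟨m, hm, h4⟩ := syl h3 (cj_nrm (n * g) Q ▸ cj_mono (n * g) SM) S.isPGroup' (S.isPGroup'.map _)
    have h5 := mem_nrm_of_cj_le ((cj_mul m (n * g) S).le.trans (mx _ h4))
    have h6 := cj_of_mem_nrm (hlarge.2 (Zc S) (inf_le_right.trans (cent_anti hQS))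
      (fun e => z1 (mem_bot.1 (e ▸ (⟨RS zR, zS⟩ : z ∈ Zc S))))
      (mem_nrm_iff_cj.2 (by rw [cj_zc, cj_of_mem_nrm h5])))
    rw [cj_mul, cj_of_mem_nrm hm, cj_mul, cj_eq_iff, cj_of_mem_nrm (inv_mem hn)] at h6
    exact h6
  have ti : ∀ g, ∀ a ∈ cj g Q, a ∈ Q → a ≠ 1 → cj g Q = Q := fun g a h1 h2 a1 =>
    wc g (le_trans (fun x hx => mem_cent1.2 ((cj_cent g Q ▸ hc.symm ▸ h1 : a ∈ Cent (cj g Q)) x hx))
      (cen a h2 a1))
  have ho : ∀ N : Subgroup G, IsPGroup 2 N → N ⊴ Nrm Q → N ≤ Q := fun N h1 h2 =>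
    (H98.le_pCoreOf h1 h2.1 h2.2).trans hQb.ge
  obtain ⟨l, hl, nl⟩ := SetLike.not_le_iff_exists.1 nR
  have l1 : cj l Q ≠ Q := mt mem_nrm_iff_cj.2 nl
  have l2 : l * z * l⁻¹ ∈ cj l Q ⊓ Nrm Q := ⟨conj_mem_cj.2 zQ, SM (RS (conj_mem_of_mem_nrm hl zR))⟩
  have l3 : l * z * l⁻¹ ≠ 1 := by simpa using z1
  generalize l * z * l⁻¹ = b at l2 l3
  have sq := H78.TE.elem Q Q2 hc (fun g => or_iff_not_imp_left.2 fun e => eq_bot_iff.2 fun a ha =>
    by_contra fun a1 => e (ti g a ha.1 ha.2 a1)) ho ⟨l, l1, fun e => l3 (mem_bot.1 (e ▸ l2))⟩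
  have nb : ∀ N : Subgroup G, N.Normal → N ≤ Q → N = ⊥ := fun N hN h => by_contra fun e =>
    nl (hlarge.2 N (h.trans hc.ge) e ((normalizer_eq_top N).ge (mem_top l)))
  have geo : Geo (Set.range (cj · Q)) := by
    refine ⟨conj_range Q, trans_range Q, ?_, ?_, ?_⟩
    · rintro _ ⟨g, rfl⟩ _ ⟨a, ha, rfl⟩
      rw [← map_mul, sq a ha, map_one]
    · rintro _ ⟨g, rfl⟩ _ ⟨g', rfl⟩ a ha hb h1
      have h := ti (g'⁻¹ * g) (g'⁻¹ * a * g') (by
        rw [cj_mul]; exact mem_cj.2 (by simpa [mul_assoc] using ha)) (mem_cj.1 hb)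
        (by simpa [mul_assoc, inv_mul_eq_one, eq_comm] using h1)
      rwa [cj_mul, cj_eq_iff, inv_inv] at h
    · rintro _ ⟨g, rfl⟩ _ ⟨g', rfl⟩ k
      have h := wc (g'⁻¹ * g) (by
        have := cj_mono g'⁻¹ k
        rwa [cj_nrm, cj_inv_cj, ← cj_mul] at this)
      rwa [cj_mul, cj_eq_iff, inv_inv] at h
  have QS : Q ∈ Set.range (cj · Q) := ⟨1, cj_one Q⟩
  set L := normalClosure (Q : Set G)
  have le : ∀ P ∈ Set.range (cj · Q), P ≤ L := by
    rintro _ ⟨g, rfl⟩ _ ⟨b, hb, rfl⟩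
    exact Normal.conj_mem inferInstance _ (subset_normalClosure hb) g
  have nL : ∀ P ≤ L, ∀ x : L, x ∈ Nrm (P.subgroupOf L) ↔ (x : G) ∈ Nrm P := fun P hP x => by
    rw [Nrm, ← subgroupOf_normalizer_eq hP, mem_subgroupOf]
  have gL := geo_sub geo le
  have fa : Fa ((fun P => P.subgroupOf L) '' Set.range (cj · Q)) := by
    rintro _ ⟨P, hP, rfl⟩ a ha k
    obtain ⟨N, hN, h1, -, h3⟩ := geo_quot geo
    have h4 := isPGroup_of_sq fun a (ha : a ∈ N) => pow_two a ▸ h1.2 a ha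
    have h5 := nb N hN (ho N h4 ⟨(mx N (IsPGroup.to_sup_of_normal_right S.isPGroup' h4)).trans SM,
      le_normalizer_of_normal⟩)
    have h6 := (QuotientGroup.eq_one_iff (a : G)).1 (h3 _ ⟨P, hP, rfl⟩ _ ⟨a, ha, rfl⟩ (by
      rintro _ ⟨T, hT, rfl⟩
      exact le_normalizer_map _ ⟨a, (nL T (le T hT) a).1 (k _ ⟨T, hT, rfl⟩), rfl⟩))
    exact Subtype.ext (mem_bot.1 (h5 ▸ h6))
  have cL : Cent L = ⊥ := nb _ inferInstance ((cent_anti (le Q QS)).trans hc.le)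
  have zL : center L = ⊥ := eq_bot_iff.2 fun x hx => Subtype.ext (mem_bot.1 (cL.le fun y hy =>
    congrArg Subtype.val (mem_center_iff.1 hx ⟨y, hy⟩)))
  have bL : b ∈ L := le _ ⟨l, rfl⟩ l2.1
  rcases H78.TI.jobR1 jobBA L _ gL fa (by
    apply map_injective L.subtype_injective
    rw [← MonoidHom.range_eq_map, range_subtype]
    refine le_antisymm (map_subtype_le _) ((closure_le _).2 fun x hx => ?_)
    obtain ⟨b, hb, k⟩ := Group.mem_conjugatesOfSet_iff.1 hx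
    obtain ⟨g, rfl⟩ := isConj_iff.1 k
    exact ⟨⟨_, subset_closure hx⟩, mem_iSup_of_mem _ (mem_iSup_of_mem ⟨_, ⟨g, rfl⟩, rfl⟩
      (conj_mem_cj.2 hb)), rfl⟩) with k | ⟨k1, k2, -⟩
  · refine absurd (ti l b l2.1 (hc.le fun a ha => cm_eq_one.1 ?_) l3) l1
    have h1 : cm (⟨a, le Q QS ha⟩ : L) ⟨b, bL⟩ ∈ oddCore L := (QuotientGroup.eq_one_iff _).1 (by
      simpa only [cm, QuotientGroup.mk_mul, QuotientGroup.mk_inv] using cm_eq_one.2 (k.1.1 _ _))
    have h2 := (H2.odd_card_oddCore L).of_dvd_nat (orderOf_dvd_natCard _ h1)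
    have h3 : orderOf (cm (⟨a, le Q QS ha⟩ : L) ⟨b, bL⟩) ∣ 2 := orderOf_dvd_of_pow_eq_one
      (Subtype.ext ((pow_two _).trans (sq _ (cm_mem_left ha l2.2))))
    exact congrArg Subtype.val (orderOf_eq_one_iff.1 (Nat.Coprime.eq_one_of_dvd h2.coprime_two_right h3))
  have e := (QuotientGroup.quotientMulEquivOfEq zL).trans QuotientGroup.quotientBot
  have : IsSimpleGroup L := e.symm.isSimpleGroup
  have na : ¬ IsMulCommutative L := fun h => k2 ⟨⟨fun a b => e.injective (by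
    rw [map_mul, map_mul, h.1.1])⟩⟩
  have Q0 : Q.subgroupOf L ≠ ⊥ := fun e => z1 (congrArg Subtype.val (mem_bot.1
    (e ▸ zQ : (⟨z, le Q QS zQ⟩ : L) ∈ ⊥)))
  rw [H89.fstar_eq_of_simple L na cL]
  rcases hS L _ na gL ⟨_, ⟨Q, QS, rfl⟩, Q0⟩ with ⟨h, -⟩ |
    (⟨F, _, _, n, h1, h2, h3⟩ | ⟨k, h1, h2, ⟨ψ⟩⟩ | h | h | h) | ⟨h, h'⟩
  · refine absurd ⟨⟨_, ⟨l, rfl⟩, rfl⟩, ⟨Q, QS, rfl⟩, fun e => l1 ?_, fun e => l3 (congrArg Subtype.val
      (mem_bot.1 (e ▸ ⟨l2.1, (nL Q (le Q QS) _).2 l2.2⟩ : (⟨b, bL⟩ : L) ∈ ⊥)))⟩ (h _ _)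
    exact (map_subgroupOf_eq_of_le (le _ ⟨l, rfl⟩)).symm.trans
      ((congrArg (map L.subtype) e).trans (map_subgroupOf_eq_of_le (le Q QS)))
  · exact .inl ⟨F, _, ‹_›, ringChar.of_eq h1, n, h2, h3⟩
  · interval_cases k
    · exact .inr (.inr (.inr (.inr (.inl ⟨ψ⟩))))
    · refine (no7 ((Q.subgroupOf L).map ψ.toMonoidHom) (mt (map_eq_bot_iff_of_injective _ ψ.injective).1 Q0)
        ?_ ?_ fun g hg => ?_).elim
      · rintro _ ⟨a, ha, rfl⟩
        rw [← map_mul, show a * a = 1 from Subtype.ext (sq a ha), map_one]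
      · rintro _ ⟨a, ha, rfl⟩ a1 g hg
        obtain ⟨g, rfl⟩ := ψ.surjective g
        refine le_normalizer_map _ ⟨g, (nL Q (le Q QS) g).2 (cen a ha (fun e => a1 ?_) (mem_cent1.2
          (congrArg Subtype.val (ψ.injective (by simpa using mem_cent1.1 hg) : g * a = a * g)))), rfl⟩
        rw [show a = 1 from Subtype.ext e, map_one]
      · obtain ⟨g, rfl⟩ := ψ.surjective g
        exact ⟨g, hc.le fun a ha => congrArg Subtype.val (ψ.injective (by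
          simpa using hg _ ⟨⟨a, le Q QS ha⟩, ha, rfl⟩) : ⟨a, le Q QS ha⟩ * g = g * ⟨a, le Q QS ha⟩), rfl⟩
    · obtain ⟨χ⟩ := Cfsg.Agent.S0256.result (F := ZMod 2) (by simp)
      exact .inl ⟨ZMod 2, _, inferInstance, inferInstance, 4, by norm_num, ⟨ψ.trans χ.symm⟩⟩
    · exact .inr (.inr (.inr (.inr (.inr ⟨ψ⟩))))
  · exact .inr (.inl h)
  · exact .inr (.inr (.inl h))
  · exact .inr (.inr (.inr (.inl h)))
  · exact absurd h' (H38.TIHe.jobHe _ _ gL (jobBA _ _ gL) h)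

end H84.TI
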