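/- STD-2E6, field case: `JobF2b` (port of `H30/SfB`). -/
import Cfsg.Agent.H78.TESpec
import Cfsg.Agent.H30.SfB
import Cfsg.Agent.H48.SgFa

set_option autoImplicit false
set_option linter.unusedSectionVars false

namespace H84.TeF

open H98 Subgroup Cfsg Cfsg.Lie H63 H65 H64 H64.SG H78.TE
open H30.Sf (eq_one_of_cen mem_of_lam GG_le lam_conj sq_eq_one mem_sup_inv aut_ext aut_comm)
open scoped commutatorElement

universe u

variable {F K : Type} [Field F] [Finite F] [CharP F 2] [Field K] [Finite K] [CharP K 2]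

/-- `α` acts semilinearly on the root groups. -/
def Semi (α : MulAut (YY K)) (p : Rt E6 → Rt E6) (τ : RingAut K) : Prop :=
  ∀ r : Rt E6, ∃ e : K, e ≠ 0 ∧ ∀ a, α (xG E6 K r a) = xG E6 K (p r) (e * τ a)

theorem Semi.mul {α β : MulAut (YY K)} {p q : Rt E6 → Rt E6} {τ ρ : RingAut K} (h : Semi α p τ)
    (h' : Semi β q ρ) : Semi (α * β) (fun r => p (q r)) (τ * ρ) := fun r => by
  obtain ⟨e, e0, he⟩ := h' r
  obtain ⟨e', e1, he'⟩ := h (q r)
  exact ⟨e' * τ e, mul_ne_zero e1 ((map_ne_zero τ).2 e0), fun a => by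
    rw [MulAut.mul_apply, he, he', map_mul, mul_assoc]; rfl⟩

theorem Semi.pow {α : MulAut (YY K)} {τ : RingAut K} (h : Semi α (fun r => r) τ) (k : ℕ) :
    Semi (α ^ k) (fun r => r) (τ ^ k) := by
  induction k with
  | zero => exact fun r => ⟨1, one_ne_zero, fun a => by simp⟩
  | succ k ih => rw [pow_succ, pow_succ]; exact ih.mul h

theorem Semi.eq_one {α : MulAut (YY K)} (h : Semi α (fun r => r) 1) (h2 : Is2 α) : α = 1 := by
  refine aut_ext fun r a => ?_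
  obtain ⟨e, -, he⟩ := h r
  have h3 : ∀ n, (α ^ n) (xG E6 K r 1) = xG E6 K r (e ^ n) := fun n => by
    induction n with
    | zero => simp
    | succ n ih => rw [pow_succ', MulAut.mul_apply, ih, he, pow_succ']; rfl
  obtain ⟨k, hk⟩ := h2
  have h4 := h3 (2 ^ k)
  rw [hk] at h4
  rw [he, eq_one_of_pow_two_pow CharTwo.two_eq_zero ((ad E6 K).toStB.x_injective r h4).symm, one_mul]
  rfl

theorem Semi.eq {α β : MulAut (YY K)} {p : Rt E6 → Rt E6} {τ : RingAut K} (h : Semi α p τ)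
    (h' : Semi β p τ) (h2 : Is2 (β⁻¹ * α)) : α = β := by
  refine (inv_mul_eq_one.1 (Semi.eq_one (fun r => ?_) h2)).symm
  obtain ⟨e, e0, he⟩ := h r
  obtain ⟨e', e1, he'⟩ := h' r
  refine ⟨τ.symm (e / e'), (map_ne_zero _).2 (div_ne_zero e0 e1), fun a => ?_⟩
  rw [MulAut.mul_apply, he, MulAut.inv_apply, MulEquiv.symm_apply_eq, he', map_mul,
    RingEquiv.apply_symm_apply, ← mul_assoc, mul_div_cancel₀ _ e1]
  rfl

theorem dt_ph (T : Qd F K) : DT E6 K (MulAut.conj 1 * T.ph) gn 1 T.σ :=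
  (H48.SgTy.dat_iff e6).2 fun i a => by
    have h1 := T.ph_x (simpleR i) a
    have h2 := T.ph_x (negR (simpleR i)) a
    rw [gm_simple] at h1
    rw [← ng_eq, gm_ng, gm_simple, ng_eq, ng_eq] at h2
    simpa using And.intro h1 h2

theorem lam_ph (T : Qd F K) (Y : Ty E6 K) : Y.fl T.ph = T.σ ∧ Y.gr T.ph ≠ 1 ∧ Semi T.ph Y.gp T.σ := by
  have h := Y.spec _ _ _ _ _ (dt_ph T)
  have h1 : Y.gr T.ph ≠ 1 := fun e => absurd (congrFun (h.2.1 e) ⟨0, by decide⟩) (by decide)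
  have h2 := Y.std _ _ _ _ (dt_ph T)
  rw [map_one, one_mul] at h2
  simp only [if_neg h1] at h2
  exact ⟨h.1, h1, h2⟩

variable {T : Qd F K} {G : Type u} [Group G] [Finite G] {F₀ L : Subgroup G} {t : G} {c : Cov T.X L}
  {y : ℕ → K → G} {C : Comp E6 y}

theorem map_eq_one (B : T.FF F₀ c t C) {A : Type*} [CommGroup A] (V : G →* A) {g : G}
    (hg : g ∈ F₀) : V g = 1 := by
  have := B.cfg.simple
  rcases this.eq_bot_or_eq_top_of_normal (V.ker.subgroupOf F₀) inferInstance with e | e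
  · have h1 := (e6.perfect B.st).trans (commutator_le.2 fun a _ b _ => (V.mem_ker.2 (by
      rw [map_commutatorElement, commutatorElement_eq_one_iff_mul_comm, mul_comm])))
    have h2 := x_mem_GG (x := y) (hi E6) 1
    exact absurd (congrArg Subtype.val (mem_bot.1
      (e ▸ h1 h2 : (⟨_, GG_le e6 B.cfg B.st h2⟩ : F₀) ∈ ⊥))) (C.x_ne_one _ one_ne_zero)
  · exact (e ▸ mem_top _ : (⟨g, hg⟩ : F₀) ∈ V.ker.subgroupOf F₀)

theorem gr_eq_one (Y : Ty E6 K) (B : T.FF F₀ c t C) (hU : UF (Ns (GG E6 y)) t) {z : G}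
    (h1 : z ∈ Ns (GG E6 y)) (h2 : z ∈ F₀) (h3 : t * z = z * t) : Y.gr (C.ac z) = 1 := by
  obtain ⟨V, hV⟩ := H9.UF.jobK3 hU (Y.gr.comp C.acH)
  exact (hV z h1 t (.refl _) hU.mem h3 (.inr (by decide))).symm.trans (map_eq_one B V h2)

theorem fl_eq_one (Y : Ty E6 K) (B : T.FF F₀ c t C) (hU : UF (Ns (GG E6 y)) t) {z : G}
    (h1 : z ∈ Ns (GG E6 y)) (h2 : z ∈ F₀) (h3 : t * z = z * t) (h4 : z * z = 1) :
    Y.fl (C.ac z) = 1 := by
  have := isCyclic_ringAut K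
  let _ : CommGroup (RingAut K) := IsCyclic.commGroup
  obtain ⟨V, hV⟩ := H9.UF.jobK3 hU (Y.fl.comp C.acH)
  exact (hV z h1 t (.refl _) hU.mem h3 (.inl h4)).symm.trans (map_eq_one B V h2)

theorem t_UU (B : T.FF F₀ c t C) : t ∈ Ns (UU E6 y) := B.tU _ fun _ h => pos_gm.2 h

theorem not_mem (Y : Ty E6 K) (B : T.FF F₀ c t C) (hU : UF (Ns (GG E6 y)) t) : t ∉ F₀ := fun ht =>
  (lam_ph T Y).2.1 (B.ac ▸ gr_eq_one Y B hU hU.mem ht rfl)

theorem syl (Y : Ty E6 K) (A : FA E6 K) (B : T.FF F₀ c t C) (ho : Odd (Nat.card (Cs (GG E6 y))))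
    (hU : UF (Ns (GG E6 y)) t) : IsSyl 2 (UU E6 y ⊔ zpowers t) (Ns (GG E6 y)) := by
  have h := B.cfg
  have hG := GG_le e6 h B.st
  obtain ⟨S, s1, s2⟩ := exists_isSyl_le (isPGroup_sup_zpowers C.isPGroup_UU (t_UU B)
    (is2_of_sq h.inv.1)) (sup_le ((gen_le_GG _).trans le_normalizer) (zpowers_le.2 hU.mem))
  have tS := s2 (mem_sup_right (mem_zpowers t))
  have s3 : S ⊓ GG E6 y = UU E6 y := C.sylU.eq_of_le (s1.isPGroup.to_le inf_le_left)
    (le_inf (le_sup_left.trans s2) (gen_le_GG _)) inf_le_right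
  have i2 := isPGroup_iff_is2.1 s1.isPGroup
  have s4 : S ≤ Ns (UU E6 y) := s3 ▸ le_normalizer_inf le_normalizer (s1.le.trans le_rfl)
  have h6 : ∀ s ∈ S, C.ac s = 1 → s = 1 := fun s hs e =>
    eq_one_of_cen ho (C.ac_ker _ (s1.le hs) e) (i2 _ hs)
  have key : ∀ s ∈ S, s ∈ F₀ → s ∈ UU E6 y := fun s hs e2 => by
    obtain ⟨g, g1, π, d, τ, g3⟩ := Y.exU (C.ac s) (eq_of_le_of_card_ge (by
      rintro _ ⟨u, hu, rfl⟩
      obtain ⟨l, hl, rfl⟩ := C.exists_lift_gen hu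
      exact (C.ac_pi s (s1.le hs) l (gen_le_GG _ hl) ▸ C.pi_mem_gen
        (conj_mem_of_mem_normalizer (s4 hs) hl) : C.ac s (C.pi l) ∈ UU E6 (xG E6 K)))
      (card_map_of_injective (C.ac s).injective).ge)
    obtain ⟨l, l1, rfl⟩ := C.exists_lift_gen g1
    have l2 := gen_le_GG _ l1
    have z1 := mul_mem (s2 (mem_sup_left l1)) hs
    have z2 := mul_mem (hG l2) e2
    rw [← C.ac_of_mem l2, ← C.ac_mul _ (le_normalizer l2) _ (s1.le hs)] at g3
    refine (mul_mem_cancel_left l1).1 ?_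
    generalize l * s = z at z1 z2 g3
    have z4 := (Y.spec _ 1 π d τ (by rwa [map_one, one_mul])).1
    have z5 : Semi (C.ac z) (fun r => if Y.gr (C.ac z) = 1 then r else Y.gp r) τ :=
      Y.std _ π d τ g3
    have p := (lam_ph T Y).2.2
    have tz := mul_mem tS z1
    have zt := mul_mem z1 tS
    have z6 : t * z = z * t := by
      have k1 := z5.mul p
      have k2 := p.mul z5
      rw [← B.ac, ← C.ac_mul _ (s1.le z1) _ hU.mem] at k1
      rw [← B.ac, ← C.ac_mul _ hU.mem _ (s1.le z1), aut_comm] at k2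
      have k3 := C.ac_mul _ (inv_mem (s1.le tz)) _ (s1.le zt)
      rw [C.ac_inv (s1.le tz)] at k3
      have k4 : C.ac (z * t) = C.ac (t * z) := k1.eq (by
        convert k2 using 2 with r
        split_ifs <;> rfl) (k3 ▸ C.is2_ac (s1.le (mul_mem (inv_mem tz) zt))
          (i2 _ (mul_mem (inv_mem tz) zt)))
      exact inv_mul_eq_one.1 (h6 _ (mul_mem (inv_mem tz) zt) (by rw [k3, k4, inv_mul_cancel]))
    have z7 := gr_eq_one Y B hU (s1.le z1) z2 z6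
    simp only [if_pos z7] at z5
    refine s3.le ⟨z1, mem_of_lam Y A C ho (s1.le z1) (i2 z z1) z7 ?_⟩
    by_contra h3
    obtain ⟨k, k1, k2⟩ := exists_sq_mem (P := ⊥) ((C.is2_ac (s1.le z1) (i2 z z1)).map Y.fl) h3
    have w1 := pow_mem z1 k
    have w2 : C.ac (z ^ k) = C.ac z ^ k := C.ac_pow (s1.le z1) k
    refine k1 (mem_bot.2 ?_)
    rw [← map_pow, ← w2]
    refine fl_eq_one Y B hU (s1.le w1) (pow_mem z2 k) (Commute.pow_right z6 k) (h6 _
      (mul_mem w1 w1) ((C.ac_mul _ (s1.le w1) _ (s1.le w1)).trans (sq_eq_one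
        (C.is2_ac (s1.le w1) (i2 _ w1)) (p := fun r => r) (τ := τ ^ k) (fun _ => rfl)
        (z4 ▸ mem_bot.1 k2) fun r => ?_)))
    rw [w2]
    exact ((z5.pow k) r).imp fun _ h => h.2
  refine (le_antisymm s2 fun s hs => ?_) ▸ s1
  rw [mem_sup_inv h.inv.1 (t_UU B)]
  exact (h.top s).imp (key s hs) (key _ (mul_mem hs tS))

theorem exists_comm (R : T.IC) (B : T.FF F₀ c t C) (ht : t ∈ Ns (GG E6 y))
    {z : G} (hz : z ∈ GG E6 y) (z2 : z * z = 1) :
    ∃ a, IsConj t a ∧ a ∈ Ns (GG E6 y) ∧ a ∈ Ns (zpowers z) := by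
  obtain ⟨g, hg⟩ := R.icY (C.pi z) (by rw [← C.pi_mul _ hz _ hz, z2, C.pi_one])
  obtain ⟨l, l1, rfl⟩ := C.surj g
  have := C.comm_of_ac ht (mul_mem (mul_mem l1 hz) (inv_mem l1)) ((is2_of_sq z2).conj l) (by
    rw [B.ac, C.pi_conj l1 hz, hg])
  refine ⟨_, isConj_iff.2 ⟨l⁻¹, rfl⟩, mul_mem (mul_mem (inv_mem (le_normalizer l1)) ht)
    (inv_mem (inv_mem (le_normalizer l1))), Cs_le_Ns _ (mem_Cs_zpowers.2 ?_)⟩
  calc _ = l⁻¹ * (l * z * l⁻¹ * t) * l := by group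
    _ = _ := by rw [← this]; group

theorem jobF2b : JobF2b.{u} := by
  intro F K _ _ _ _ _ _ T X G _ _ F₀ L t c y C B ho hU
  obtain ⟨Y⟩ := H48.SgTy.jobTy E6 e6 K
  have A := H48.SgFa.jobFA E6 e6 K
  have h := B.cfg
  have h1 := syl Y A B ho hU
  have h2 := not_mem Y B hU
  have h3 := GG_le e6 h B.st
  refine ⟨h2, h3, syl_iff.2 h1, fun z hz z2 g hg => ?_⟩
  have z3 : g * z * g⁻¹ * (g * z * g⁻¹) = 1 := by rw [conj_mul, z2]; simp
  obtain ⟨m, m1, m2⟩ := h1.exists_cj_le (is2_of_sq z3).zpowers (zpowers_le.2 hg)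
  have z4 : g * z * g⁻¹ ∈ GG E6 y := (mem_normalizer_iff.1 m1 _).2 (gen_le_GG _
    (((mem_sup_inv h.inv.1 (t_UU B)).1 (m2 (conj_mem_cj (mem_zpowers _)))).resolve_right
      fun e => h2 ((mul_mem_cancel_left (h.normal.conj_mem _ (h.normal.conj_mem _ (h3 hz) g) m)).1
        (h3 (gen_le_GG _ e)))))
  obtain ⟨a, a1, a2, a3⟩ := exists_comm X.ic B hU.mem hz z2
  obtain ⟨b, b1, b2, b3⟩ := exists_comm X.ic B hU.mem z4 z3
  obtain ⟨m, m1, n, n1, rfl⟩ := (H9.UF.jobK2 hU a1 a2).2 (zpowers z) g b a3 b1 b2 (by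
    rwa [cjs, MonoidHom.map_zpowers])
  refine ⟨m, m1, ?_⟩
  have n2 := (mem_sup_inv (U := ⊥) z2 (le_normalizer_bot ⊤ trivial)).1
    (mem_sup_right (conj_mem_of_mem_normalizer n1 (mem_zpowers z)))
  rw [mem_bot, mem_bot, conj_eq_one_iff, mul_eq_one_iff_eq_inv, inv_eq_of_mul_eq_one_right z2] at n2
  rcases n2 with rfl | n2
  · simp
  · nth_rewrite 2 [← n2]
    group

end H84.TeF
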