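import Cfsg.Agent.Base
import Cfsg.Agent.H84.ZCons1

/-! consequence of Z*: S3269 (Sylow 2-subgroup `Q × R`, `Q` generalized quaternion) -/

set_option autoImplicit false

namespace H84

open Cfsg

universe u

/-- `e` is an involution of `S` with two non-commuting square roots in `S`, such that all
commutators of square roots of `e` with elements of `S` lie in a subgroup with unique involution
`e` -/
def QuatInv {G : Type*} [Group G] (S : Subgroup G) (e : G) : Prop :=
  e ∈ S ∧ orderOf e = 2 ∧ (∃ x ∈ S, ∃ y ∈ S, x * x = e ∧ y * y = e ∧ ¬ Commute x y) ∧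
    ∃ D : Subgroup G, D ≤ S ∧ (∀ d ∈ D, orderOf d = 2 → d = e) ∧
      ∀ x ∈ S, x * x = e → ∀ s ∈ S, x * s * x⁻¹ * s⁻¹ ∈ D

theorem QuatInv.conj {G : Type*} [Group G] {S : Subgroup G} {e n : G} (h : QuatInv S e)
    (hn : n ∈ Subgroup.normalizer (S : Set G)) : QuatInv S (n * e * n⁻¹) := by
  obtain ⟨h1, h2, ⟨x, hx, y, hy, hxe, hye, hxy⟩, D, hD, hD1, hD2⟩ := h
  have hS := Subgroup.mem_normalizer_iff.mp hn
  have hS' := Subgroup.mem_normalizer_iff''.mp hn
  refine ⟨(hS e).mp h1, by rw [orderOf_conj', h2], ⟨_, (hS x).mp hx, _, (hS y).mp hy,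
    by rw [← hxe]; group, by rw [← hye]; group, fun hc => hxy ?_⟩,
    D.map (MulAut.conj n).toMonoidHom, ?_, ?_, ?_⟩
  · simpa [mul_assoc] using hc.map (MulAut.conj n⁻¹)
  · rintro _ ⟨d, hd, rfl⟩
    exact (hS d).mp (hD hd)
  · rintro _ ⟨d, hd, rfl⟩ hd2
    have : orderOf d = 2 := by rw [← orderOf_conj' n d]; exact hd2
    rw [← hD1 d hd this]
    rfl
  · intro a ha hae s hs
    rw [H17.mem_map_conj_iff]
    have := hD2 _ ((hS' a).mp ha) (by
      calc n⁻¹ * a * n * (n⁻¹ * a * n) = n⁻¹ * (a * a) * n := by group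
        _ = e := by rw [hae]; group) _ ((hS' s).mp hs)
    rwa [show n⁻¹ * a * n * (n⁻¹ * s * n) * (n⁻¹ * a * n)⁻¹ * (n⁻¹ * s * n)⁻¹ =
      n⁻¹ * (a * s * a⁻¹ * s⁻¹) * n by group] at this

theorem QuatInv.commute {G : Type*} [Group G] [Finite G] {S : Subgroup G} (hS : IsPGroup 2 S)
    {e e' x x' : G} (h : QuatInv S e) (h' : QuatInv S e') (hne : e ≠ e') (hx : x ∈ S)
    (hx' : x' ∈ S) (hxe : x * x = e) (hxe' : x' * x' = e') : Commute x x' := by
  obtain ⟨-, -, -, D, hD, hD1, hD2⟩ := h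
  obtain ⟨-, -, -, D', hD', hD1', hD2'⟩ := h'
  have hb : D ⊓ D' = ⊥ := by
    by_contra hb
    obtain ⟨d, hd, hd2⟩ := exists_orderOf_eq_of_isPGroup (hS.to_le (inf_le_left.trans hD)) hb
    exact hne ((hD1 d hd.1 hd2).symm.trans (hD1' d hd.2 hd2))
  have h1 : x * x' * x⁻¹ * x'⁻¹ ∈ D ⊓ D' := by
    refine ⟨hD2 x hx hxe x' hx', ?_⟩
    have := D'.inv_mem (hD2' x' hx' hxe' x hx)
    rwa [show (x' * x * x'⁻¹ * x⁻¹)⁻¹ = x * x' * x⁻¹ * x'⁻¹ by group] at this
  rw [hb, Subgroup.mem_bot] at h1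
  calc x * x' = (x * x' * x⁻¹ * x'⁻¹) * (x' * x) := by group
    _ = x' * x := by rw [h1, one_mul]

/-- if all involutions of the Sylow 2-subgroup `S` are central in `S` and some involution has the
property `QuatInv`, then there is an isolated involution -/
theorem exists_iso_of_quatInv {G : Type*} [Group G] [Finite G] (S : Sylow 2 G)
    (hc : ∀ a ∈ (S : Subgroup G), a * a = 1 → ∀ s ∈ (S : Subgroup G), Commute s a) {z : G}
    (hz : QuatInv (S : Subgroup G) z) : ∃ w : G, IsIsolatedInvolution w := by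
  classical
  let A : Subgroup G := (S : Subgroup G) ⊓ Subgroup.centralizer ((S : Subgroup G) : Set G)
  let _ : CommGroup A := ⟨fun a b => Subtype.ext (b.2.2 a a.2.1)⟩
  have := Fintype.ofFinite A
  let E : Finset A := Finset.univ.filter fun e : A => QuatInv (S : Subgroup G) e
  have hE : ∀ e : A, e ∈ E ↔ QuatInv (S : Subgroup G) e := by simp [E]
  have hind : ∀ F : Finset A, F ⊆ E → ∃ x ∈ (S : Subgroup G), x * x = ((∏ e ∈ F, e : A) : G) ∧
      ∀ e ∈ E, e ∉ F → ∀ y ∈ (S : Subgroup G), y * y = e → Commute x y := by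
    intro F
    induction F using Finset.induction_on with
    | empty => intro _; exact ⟨1, one_mem _, by simp, fun _ _ _ _ _ _ => Commute.one_left _⟩
    | insert a F haF ih =>
      intro hF
      obtain ⟨x, hx, hx2, hx3⟩ := ih ((Finset.subset_insert a F).trans hF)
      have ha := hF (Finset.mem_insert_self a F)
      obtain ⟨y, hy, -, -, hy2, -, -⟩ := ((hE a).mp ha).2.2.1
      have hxy := hx3 a ha haF y hy hy2
      refine ⟨y * x, mul_mem hy hx, ?_, fun e he heF v hv hv2 => ?_⟩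
      · rw [Finset.prod_insert haF, Subgroup.coe_mul, ← hx2, ← hy2]
        calc y * x * (y * x) = y * (x * y) * x := by group
          _ = y * y * (x * x) := by rw [hxy.eq]; group
      · rw [Finset.mem_insert, not_or] at heF
        exact (((hE a).mp ha).commute S.isPGroup' ((hE e).mp he)
          (fun h => heF.1 (Subtype.ext h).symm) hy hv hy2 hv2).mul_left (hx3 e he heF.2 v hv hv2)
  have hz2 := mul_self_of_orderOf_two hz.2.1
  let z' : A := ⟨z, hz.1, fun s hs => (hc z hz.1 hz2 s hs).eq⟩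
  have hzE : z' ∈ E := (hE z').mpr hz
  let w : A := ∏ e ∈ E, e
  have hw2 : w * w = 1 := by
    rw [← Finset.prod_mul_distrib]
    exact Finset.prod_eq_one fun e he => Subtype.ext (mul_self_of_orderOf_two ((hE e).mp he).2.1)
  have hw1 : w ≠ 1 := by
    intro hw
    obtain ⟨x, hx, hx2, hx3⟩ := hind (E.erase z') (Finset.erase_subset _ _)
    obtain ⟨a, ha, b, hb, ha2, hb2, hab⟩ := hz.2.2.1
    have h1 : z' * ∏ e ∈ E.erase z', e = 1 := by
      rw [Finset.mul_prod_erase E (fun e => e) hzE]; exact hw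
    have h2 : z * (x * x) = 1 := by rw [hx2]; exact congrArg Subtype.val h1
    have hxa := hx3 z' hzE (Finset.notMem_erase _ _) a ha ha2
    have hxb := hx3 z' hzE (Finset.notMem_erase _ _) b hb hb2
    have h3 := hc (a * x) (mul_mem ha hx) (by
      calc a * x * (a * x) = a * (x * a) * x := by group
        _ = a * a * (x * x) := by rw [hxa.eq]; group
        _ = 1 := by rw [ha2, h2]) b hb
    apply hab
    simpa using (h3.mul_right hxb.symm.inv_right).symm
  have hwo : orderOf (w : G) = 2 := orderOf_two_of (fun h => hw1 (Subtype.ext h))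
    (congrArg Subtype.val hw2)
  refine ⟨w, iso_of_central S hwo (fun g hg s hs => (hc _ hg
    (conj_mul_self (mul_self_of_orderOf_two hwo) g) s hs).eq) w.2.1 fun n hn => ?_⟩
  have hnA : ∀ n ∈ Subgroup.normalizer ((S : Subgroup G) : Set G), ∀ a ∈ A, n * a * n⁻¹ ∈ A := by
    intro n hn a ha
    refine ⟨(Subgroup.mem_normalizer_iff.mp hn a).mp ha.1, fun s hs => ?_⟩
    have := ha.2 _ ((Subgroup.mem_normalizer_iff''.mp hn s).mp hs)
    calc s * (n * a * n⁻¹) = n * (n⁻¹ * s * n * a) * n⁻¹ := by group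
      _ = n * a * n⁻¹ * s := by rw [this]; group
  let φ : A →* A :=
    { toFun := fun a => ⟨n * a * n⁻¹, hnA n hn a a.2⟩
      map_one' := Subtype.ext (by simp)
      map_mul' := fun a b => Subtype.ext (by simp) }
  have hφ : φ w = w := by
    simp only [w]
    rw [map_prod]
    refine Finset.prod_nbij φ (fun e he => (hE _).mpr (((hE e).mp he).conj hn)) ?_ ?_
      fun _ _ => rfl
    · intro a _ b _ hab
      have : n * a * n⁻¹ = n * b * n⁻¹ := congrArg Subtype.val hab
      exact Subtype.ext (by simpa using this)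
    · intro e he
      refine ⟨⟨n⁻¹ * e * n⁻¹⁻¹, hnA _ (inv_mem hn) e e.2⟩,
        (hE _).mpr (((hE e).mp he).conj (inv_mem hn)), Subtype.ext ?_⟩
      show n * (n⁻¹ * e * n⁻¹⁻¹) * n⁻¹ = e
      group
  exact congrArg Subtype.val hφ

theorem GQ_facts {G : Type*} [Group G] [Finite G] {Q : Subgroup G} {n : ℕ} {a b : G}
    (h : H86.GQ Q n a b) :
    orderOf (a ^ n) = 2 ∧ (∀ d ∈ Q, orderOf d = 2 → d = a ^ n) ∧ (∀ s ∈ Q, Commute s (a ^ n)) ∧
      (∀ i : ℤ, b * a ^ i * (b * a ^ i) = a ^ n) := by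
  have hpos := orderOf_pos a
  have hz : orderOf (a ^ n) = 2 := by
    refine orderOf_two_of (fun h1 => ?_) (by rw [← pow_add, ← two_mul, ← h.ord, pow_orderOf_eq_one])
    have h2 := orderOf_dvd_of_pow_eq_one h1
    rw [h.ord] at h2 hpos
    have := Nat.le_of_dvd (by omega) h2
    omega
  have hsq : ∀ i : ℤ, b * a ^ i * (b * a ^ i) = a ^ n := by
    intro i
    have h1 : b * a ^ i * b⁻¹ = (a ^ i)⁻¹ := by rw [← conj_zpow, h.rel, inv_zpow]
    have h2 : Commute (a ^ i) (b * b) := by rw [h.bb]; exact (Commute.refl a).zpow_left i |>.pow_right n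
    calc b * a ^ i * (b * a ^ i) = (b * a ^ i * b⁻¹) * (b * b * a ^ i) := by group
      _ = a ^ n := by rw [h1, ← h2.eq, h.bb]; group
  refine ⟨hz, fun d hd hd2 => ?_, fun s hs => ?_, hsq⟩
  · obtain ⟨i, rfl | rfl⟩ := (h.mem d).mp hd
    · exact eq_of_mem_zpowers_of_orderOf_two (Subgroup.zpow_mem_zpowers a i)
        (Subgroup.npow_mem_zpowers a n) hd2 hz
    · exact absurd ((hsq i).symm.trans (mul_self_of_orderOf_two hd2)) (ne_one_of_orderOf_two hz)
  · obtain ⟨i, rfl | rfl⟩ := (h.mem s).mp hs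
    · exact ((Commute.refl a).zpow_left i).pow_right n
    · rw [← hsq i]
      exact (Commute.refl _).mul_right (Commute.refl _)

theorem GQ_not_commute {G : Type*} [Group G] {Q : Subgroup G} {n : ℕ} {a b : G}
    (h : H86.GQ Q n a b) (hn : 2 ≤ n) : ¬ Commute b a := by
  intro hc
  have h1 : a * a = 1 := by
    have := h.rel
    rw [hc.eq, mul_inv_cancel_right] at this
    nth_rewrite 2 [this]
    exact mul_inv_cancel a
  have h2 : orderOf a ∣ 2 := orderOf_dvd_of_pow_eq_one (by rw [pow_two, h1])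
  rw [h.ord] at h2
  have := Nat.le_of_dvd two_pos h2
  omega

theorem s3269 {G : Type u} [Group G] [Finite G] (h : ZStarThm.{u})
    (S : Sylow 2 G) (Q R : Subgroup G) (hQR : IsInternalDirectProduct Q R (S : Subgroup G))
    (n : ℕ) (hn : 1 ≤ n) (eQ : ↥Q ≃* QuaternionGroup (2 ^ n))
    (hR : ∀ r ∈ R, orderOf r = 2 → ∀ s ∈ R, r * s = s * r) :
    ¬ IsSimpleGroup G := by
  intro hsimple
  obtain ⟨hQS, hRS, hcomm, hinf, hsup⟩ := hQR
  obtain ⟨a, b, hab⟩ := H86.exists_GQ eQ
  obtain ⟨hz, huniq, hcent, hsq⟩ := GQ_facts hab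
  have h2n : 2 ≤ 2 ^ n := Nat.le_self_pow (by omega) 2
  have hnc := GQ_not_commute hab h2n
  have hdec : ∀ s ∈ (S : Subgroup G), ∃ q ∈ Q, ∃ r ∈ R, s = q * r := by
    intro s hs
    rw [← hsup, ← SetLike.mem_coe, Subgroup.coe_mul_of_right_le_normalizer_left _ _
      (le_trans (b := Subgroup.centralizer (Q : Set G)) (fun r hr q hq => hcomm q hq r hr)
        (Subgroup.centralizer_le_normalizer _))] at hs
    obtain ⟨q, hq, r, hr, rfl⟩ := hs
    exact ⟨q, hq, r, hr, rfl⟩
  have hsq2 : ∀ q ∈ Q, ∀ r ∈ R, q * r * (q * r) ∈ Q → r * r = 1 ∧ q * r * (q * r) = q * q := by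
    intro q hq r hr hqr
    have h1 : q * r * (q * r) = q * q * (r * r) := by
      calc q * r * (q * r) = q * (r * q) * r := by group
        _ = q * q * (r * r) := by rw [← hcomm q hq r hr]; group
    have h2 : r * r ∈ Q ⊓ R := by
      refine ⟨?_, mul_mem hr hr⟩
      have := Q.mul_mem (Q.inv_mem (Q.mul_mem hq hq)) hqr
      rwa [h1, inv_mul_cancel_left] at this
    rw [hinf, Subgroup.mem_bot] at h2
    exact ⟨h2, by rw [h1, h2, mul_one]⟩
  have hRc : ∀ r ∈ R, r * r = 1 → ∀ s ∈ (S : Subgroup G), Commute s r := by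
    intro r hr hr2 s hs
    obtain ⟨q, hq, r', hr', rfl⟩ := hdec s hs
    refine Commute.mul_left (hcomm q hq r hr) ?_
    by_cases h1 : r = 1
    · rw [h1]; exact Commute.one_right _
    · exact (hR r hr (orderOf_two_of h1 hr2) r' hr').symm
  have haQ : a ∈ Q := (hab.mem a).mpr ⟨1, Or.inl (zpow_one a).symm⟩
  have hbQ : b ∈ Q := (hab.mem b).mpr ⟨0, Or.inr (by simp)⟩
  obtain ⟨w, hw⟩ := exists_iso_of_quatInv S (z := a ^ 2 ^ n) (by
    intro x hx hx2 s hs
    obtain ⟨q, hq, r, hr, rfl⟩ := hdec x hx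
    obtain ⟨h1, h2⟩ := hsq2 q hq r hr (hx2 ▸ one_mem _)
    refine Commute.mul_right ?_ (hRc r hr h1 s hs)
    by_cases h3 : q = 1
    · rw [h3]; exact Commute.one_right _
    · rw [huniq q hq (orderOf_two_of h3 (h2.symm.trans hx2))]
      obtain ⟨q', hq', r', hr', rfl⟩ := hdec s hs
      exact (hcent q' hq').mul_left (hcomm _ (pow_mem haQ _) r' hr').symm)
    ⟨hQS (pow_mem haQ _), hz, ⟨b, hQS hbQ, b * a, hQS (mul_mem hbQ haQ), hab.bb,
      by simpa using hsq 1, fun hc => hnc (by simpa using (Commute.refl b).inv_right.mul_right hc)⟩,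
      Q, hQS, huniq, fun x hx hx2 s hs => by
        obtain ⟨q, hq, r, hr, rfl⟩ := hdec x hx
        obtain ⟨h1, -⟩ := hsq2 q hq r hr (hx2 ▸ pow_mem haQ _)
        have h3 := hRc r hr h1 s hs
        obtain ⟨q', hq', r', hr', rfl⟩ := hdec s hs
        have h4 : q * r * (q' * r') * (q * r)⁻¹ * (q' * r')⁻¹ = q * q' * q⁻¹ * q'⁻¹ := by
          calc q * r * (q' * r') * (q * r)⁻¹ * (q' * r')⁻¹
              = q * (r * (q' * r')) * r⁻¹ * q⁻¹ * (q' * r')⁻¹ := by group
            _ = q * q' * (r' * q⁻¹) * (q' * r')⁻¹ := by rw [← h3.eq]; group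
            _ = q * q' * q⁻¹ * q'⁻¹ := by rw [← hcomm _ (inv_mem hq) r' hr']; group
        rw [h4]
        exact mul_mem (mul_mem (mul_mem hq hq') (inv_mem hq)) (inv_mem hq')⟩
  have htop := zstar_simple h hw
  obtain ⟨i, hi⟩ : a ∈ Subgroup.zpowers w := htop ▸ Subgroup.mem_top a
  obtain ⟨j, hj⟩ : b ∈ Subgroup.zpowers w := htop ▸ Subgroup.mem_top b
  apply hnc
  rw [← hi, ← hj]
  exact (Commute.refl w).zpow_zpow j i

end H84
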